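/-
Singular vectors and Eichler matrices of a non-degenerate symmetric space in odd characteristic.
-/
import Cfsg.Agent.Lib.Classical22.SpOrthTensor.Alg

set_option autoImplicit false
set_option maxHeartbeats 800000

namespace CfsgLib.Classical22.TensorMax.OO

open Matrix CfsgLib.Transvec CfsgLib.Classical22.TensorMax.SympO CfsgLib.Classical22.TensorMax.SpO
open scoped MatrixGroups

variable {F : Type*} [Field F] {k : ℕ} {f : (Fin k → F) → (Fin k → F) → F}

/-- The Eichler matrix at a singular `u` and `w` orthogonal to it. -/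
noncomputable def eA (f : (Fin k → F) → (Fin k → F) → F) (u w : Fin k → F) : Matrix (Fin k) (Fin k) F :=
  1 + outer f w u - outer f u w - (f w w / 2) • outer f u u

variable (hf : Cfsg.Geo.IsSymmetricForm f)
include hf

lemma eA_mulVec (u w x : Fin k → F) :
    eA f u w *ᵥ x = x + f x u • w - f x w • u - (f w w / 2 * f x u) • u := by
  simp only [eA, sub_mulVec, add_mulVec, one_mulVec, smul_mulVec, sym_outer hf, smul_smul]

lemma sym_neg_right (x z : Fin k → F) : f x (-z) = - f x z := by rw [hf.symm, sym_neg_left hf, hf.symm]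

lemma eA_fix {u w x : Fin k → F} (h1 : f x u = 0) (h2 : f x w = 0) : eA f u w *ᵥ x = x := by
  rw [eA_mulVec hf, h1, h2]; simp

lemma eA_self {u w : Fin k → F} (hu : f u u = 0) (huw : f u w = 0) : eA f u w *ᵥ u = u :=
  eA_fix hf hu huw

lemma eA_zero (u : Fin k → F) : eA f u 0 = 1 :=
  Matrix.ext_iff_mulVec.mpr fun x => by rw [eA_mulVec hf, sym_zero_right hf, sym_zero_right hf]; simp

section Two
variable (h2 : (2 : F) ≠ 0)
include h2

lemma eA_iso {u w : Fin k → F} (hu : f u u = 0) (huw : f u w = 0) (x y : Fin k → F) :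
    f (eA f u w *ᵥ x) (eA f u w *ᵥ y) = f x y := by
  simp only [eA_mulVec hf, sym_sub_left hf, sym_sub_right hf, hf.bilinear.add_left, hf.bilinear.add_right,
    hf.bilinear.smul_left, hf.bilinear.smul_right, hu, huw, hf.symm w u, hf.symm w y, hf.symm u y]
  field_simp
  ring

lemma eA_mul {u w w' : Fin k → F} (hu : f u u = 0) (huw : f u w = 0) (huw' : f u w' = 0) :
    eA f u w * eA f u w' = eA f u (w + w') :=
  Matrix.ext_iff_mulVec.mpr fun x => by
    simp only [← mulVec_mulVec, eA_mulVec hf, sym_sub_left hf, hf.bilinear.add_left, hf.bilinear.add_right,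
      hf.bilinear.smul_left, hu, huw, hf.symm w' u, huw', hf.symm w' w, hf.symm u x, hf.symm w x]
    match_scalars <;> field_simp <;> ring

lemma eA_mul_neg {u w : Fin k → F} (hu : f u u = 0) (huw : f u w = 0) : eA f u w * eA f u (-w) = 1 := by
  rw [eA_mul hf h2 hu huw (by rw [sym_neg_right hf, huw, neg_zero]), add_neg_cancel, eA_zero hf]

omit h2 in
lemma eA_sub_one {u w : Fin k → F} (x : Fin k → F) :
    (eA f u w - 1) *ᵥ x = f x u • w - f x w • u - (f w w / 2 * f x u) • u := by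
  rw [sub_mulVec, eA_mulVec hf, one_mulVec]; abel

omit h2 in
lemma eA_sub_one_sq {u w : Fin k → F} (hu : f u u = 0) (huw : f u w = 0) (x : Fin k → F) :
    (eA f u w - 1) *ᵥ ((eA f u w - 1) *ᵥ x) = -(f x u * f w w) • u := by
  simp only [eA_sub_one hf, sym_sub_left hf, hf.bilinear.smul_left, hu, huw, hf.symm w u]
  module

omit h2 in
lemma eA_sub_one_cube {u w : Fin k → F} (hu : f u u = 0) (huw : f u w = 0) :
    (eA f u w - 1) * ((eA f u w - 1) * (eA f u w - 1)) = 0 :=
  Matrix.ext_iff_mulVec.mpr fun x => by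
    rw [← mulVec_mulVec, ← mulVec_mulVec, eA_sub_one_sq hf hu huw, zero_mulVec]
    simp only [eA_sub_one hf, sym_sub_left hf, hf.bilinear.smul_left, hu, huw, hf.symm w u]
    simp

/-- A non-zero vector has a singular partner. -/
lemma exists_partner_sym [Fintype F] {u : Fin k → F} (hu : u ≠ 0) (huu : f u u = 0) :
    ∃ v, f v v = 0 ∧ f u v = 1 ∧ f v u = 1 := by
  obtain ⟨z, hz⟩ := (hf.nondegenerate u hu).2
  obtain ⟨w, hw⟩ : ∃ w, w = (f u z)⁻¹ • z := ⟨_, rfl⟩
  have huw : f u w = 1 := by rw [hw, hf.bilinear.smul_right, inv_mul_cancel₀ hz]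
  refine ⟨w - (f w w / 2) • u, ?_, ?_, ?_⟩
  · simp only [sym_sub_left hf, sym_sub_right hf, hf.bilinear.smul_left, hf.bilinear.smul_right, huu,
      hf.symm w u, huw]
    field_simp
    ring
  · rw [sym_sub_right hf, hf.bilinear.smul_right, huw, huu, mul_zero, sub_zero]
  · rw [sym_sub_left hf, hf.bilinear.smul_left, hf.symm w u, huw, huu, mul_zero, sub_zero]

end Two

/-- The vectors orthogonal to a hyperbolic pair. -/
noncomputable def pairW (f : (Fin k → F) → (Fin k → F) → F) (u v : Fin k → F) : Submodule F (Fin k → F) :=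
  perpIn f (perpIn f ⊤ u) v

lemma mem_pairW {u v x : Fin k → F} : x ∈ pairW f u v ↔ f x u = 0 ∧ f x v = 0 := by
  rw [pairW, mem_perpIn hf, mem_perpIn hf]; simp

lemma nd_pairW {u v : Fin k → F} (huu : f u u = 0) (hvv : f v v = 0) (huv : f u v = 1) : NdSub f (pairW f u v) :=
  nd_perpIn_pair hf (nd_top hf) Submodule.mem_top Submodule.mem_top huu hvv huv

lemma finrank_pairW (u v : Fin k → F) : k ≤ Module.finrank F (pairW f u v) + 2 := by
  have h1 := finrank_perpIn hf ⊤ u
  have h2 := finrank_perpIn hf (perpIn f ⊤ u) v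
  rw [finrank_top, Module.finrank_fin_fun] at h1
  rw [pairW]
  omega

variable [Fintype F]

lemma exists_aniso_pairW (h2 : (2 : F) ≠ 0) (hk : 3 ≤ k) {u v : Fin k → F} (huu : f u u = 0) (hvv : f v v = 0)
    (huv : f u v = 1) : ∃ y, f y u = 0 ∧ f y v = 0 ∧ f y y ≠ 0 := by
  obtain ⟨y, hy, hq⟩ := exists_aniso hf h2 (nd_pairW hf huu hvv huv) (by have := finrank_pairW hf u v; omega)
  obtain ⟨h1, h2'⟩ := (mem_pairW hf).mp hy
  exact ⟨y, h1, h2', hq⟩

/-- A singular vector orthogonal to a hyperbolic pair. -/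
lemma exists_singular_pairW (h2 : (2 : F) ≠ 0) (hk : 5 ≤ k) {u v : Fin k → F} (huu : f u u = 0) (hvv : f v v = 0)
    (huv : f u v = 1) : ∃ r, r ≠ 0 ∧ f r r = 0 ∧ f r u = 0 ∧ f r v = 0 := by
  have hd := finrank_pairW hf u v
  have hnd := nd_pairW hf huu hvv huv
  obtain ⟨z, hz, hq⟩ := exists_aniso hf h2 hnd (by omega)
  have hd' := finrank_perpIn hf (pairW f u v) z
  obtain ⟨c, hc, hcv⟩ := exists_value hf h2 (nd_perpIn hf hnd hz hq) (by omega) (-(f z z))
  obtain ⟨hcW, hcz⟩ := (mem_perpIn hf).mp hc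
  obtain ⟨hru, hrv⟩ := (mem_pairW hf).mp (add_mem hz hcW)
  refine ⟨z + c, fun h => hq ?_, ?_, hru, hrv⟩
  · have : f (z + c) z = 0 := by rw [h, sym_zero_left hf]
    rwa [hf.bilinear.add_left, hcz, add_zero] at this
  · rw [sym_quad_add hf, hcv, hf.symm z c, hcz]; ring

/-- The singular vectors of a space are one orbit of the Eichler matrices, up to scalars. -/
theorem singular_all (h2 : (2 : F) ≠ 0) (hk : 3 ≤ k) {P : (Fin k → F) → Prop}
    (hsm : ∀ (c : F) x, c ≠ 0 → P x → P (c • x))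
    (hmv : ∀ u w x, f u u = 0 → f u w = 0 → P x → P (eA f u w *ᵥ x))
    {x₀ : Fin k → F} (hx₀ : x₀ ≠ 0) (hs₀ : f x₀ x₀ = 0) (hP : P x₀) {x : Fin k → F} (hx : x ≠ 0)
    (hs : f x x = 0) : P x := by
  -- one step through a common partner
  have step : ∀ m, f m m = 0 → f x₀ m = 1 → f x m ≠ 0 → P x := by
    intro m hm h0m hxm
    obtain ⟨l, hl⟩ : ∃ l, l = (f x m)⁻¹ := ⟨_, rfl⟩
    have hl0 : l ≠ 0 := hl ▸ inv_ne_zero hxm
    have hlm : l * f x m = 1 := hl ▸ inv_mul_cancel₀ hxm
    obtain ⟨w, hw⟩ : ∃ w, w = l • x - x₀ := ⟨_, rfl⟩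
    have hmw : f m w = 0 := by
      rw [hw, sym_sub_right hf, hf.bilinear.smul_right, hf.symm m x, hf.symm m x₀, h0m, hlm, sub_self]
    have he : eA f m w *ᵥ x₀ = l • x := by
      rw [eA_mulVec hf, h0m, one_smul]
      have e : f x₀ w + f w w / 2 * 1 = 0 := by
        rw [hw]
        simp only [sym_sub_left hf, sym_sub_right hf, hf.bilinear.smul_left, hf.bilinear.smul_right, hs₀, hs,
          hf.symm x x₀]
        field_simp
        ring
      rw [sub_sub, ← add_smul, e, zero_smul, sub_zero, hw, add_sub_cancel]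
    have := hsm l⁻¹ _ (inv_ne_zero hl0) (he ▸ hmv m w x₀ hm hmw hP)
    rwa [inv_smul_smul₀ hl0] at this
  obtain ⟨m₀, hm₀, h0m, hm0⟩ := exists_partner_sym hf h2 hx₀ hs₀
  by_cases hxm : f x m₀ ≠ 0
  · exact step m₀ hm₀ h0m hxm
  push Not at hxm
  -- move the partner
  obtain ⟨y, hy0, hy⟩ : ∃ y, f x₀ y = 0 ∧ f x (eA f x₀ y *ᵥ m₀) ≠ 0 := by
    by_cases hc : f x x₀ = 0
    · obtain ⟨φ, hφ⟩ : ∃ y, f x y ≠ 0 := (hf.nondegenerate x hx).2
      refine ⟨φ - f φ x₀ • m₀, ?_, ?_⟩
      · rw [sym_sub_right hf, hf.bilinear.smul_right, h0m, hf.symm x₀ φ]; ring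
      · rw [eA_mulVec hf, hm0, sym_sub_right hf, sym_sub_right hf, hf.bilinear.add_right, hf.bilinear.smul_right,
          hf.bilinear.smul_right, hf.bilinear.smul_right, hc, hxm, sym_sub_right hf x φ, hf.bilinear.smul_right, hxm]
        simpa using hφ
    · obtain ⟨y, hy1, hy2, hqy⟩ := exists_aniso_pairW hf h2 hk hs₀ hm₀ h0m
      by_cases hplus : f x y - f y y / 2 * f x x₀ = 0
      · refine ⟨-y, by rw [sym_neg_right hf, hf.symm x₀ y, hy1, neg_zero], ?_⟩
        rw [eA_mulVec hf, hm0, sym_sub_right hf, sym_sub_right hf, hf.bilinear.add_right, hf.bilinear.smul_right,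
          hf.bilinear.smul_right, hf.bilinear.smul_right, hxm, sym_neg_right hf m₀ y, hf.symm m₀ y, hy2,
          sym_neg_right hf x y, sym_neg_left hf y, sym_neg_right hf y y]
        intro h0
        exact mul_ne_zero hqy hc (by linear_combination (norm := (field_simp; ring)) -h0 - hplus)
      · refine ⟨y, by rw [hf.symm x₀ y, hy1], ?_⟩
        rw [eA_mulVec hf, hm0, sym_sub_right hf, sym_sub_right hf, hf.bilinear.add_right, hf.bilinear.smul_right,
          hf.bilinear.smul_right, hf.bilinear.smul_right, hxm, hf.symm m₀ y, hy2]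
        intro h0
        exact hplus (by linear_combination h0)
  refine step _ ?_ ?_ hy
  · rw [eA_iso hf h2 hs₀ hy0, hm₀]
  · have := eA_iso hf h2 hs₀ hy0 x₀ m₀
    rwa [eA_self hf hs₀ hy0, h0m] at this

end CfsgLib.Classical22.TensorMax.OO
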