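/-
Symmetric spaces of dimension three: half turns, unipotent isometry groups, and involutive isometries.
-/
import Cfsg.Agent.Lib.Classical22.OrthOrthTensor.Space
import Cfsg.Agent.Lib.Classical22.SpOrthTensor.Base
import Mathlib.GroupTheory.PGroup

set_option autoImplicit false
set_option maxHeartbeats 800000

namespace CfsgLib.Classical22.TensorMax.OO

open Matrix CfsgLib.Transvec CfsgLib.Classical22.TensorMax.SympO CfsgLib.Classical22.TensorMax.SpO
open scoped MatrixGroups

variable {F : Type*} [Field F] {k : ℕ} {f : (Fin k → F) → (Fin k → F) → F}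

/-- The half turn about a vector. -/
noncomputable def halfM (f : (Fin k → F) → (Fin k → F) → F) (w : Fin k → F) : Matrix (Fin k) (Fin k) F :=
  (2 / f w w) • outer f w w - 1

variable (hf : Cfsg.Geo.IsSymmetricForm f)
include hf

lemma halfM_mulVec (w z : Fin k → F) : halfM f w *ᵥ z = (2 * f z w / f w w) • w - z := by
  rw [halfM, sub_mulVec, one_mulVec, smul_mulVec, sym_outer hf, smul_smul]
  congr 2
  ring

lemma halfM_self {w : Fin k → F} (hw : f w w ≠ 0) : halfM f w *ᵥ w = w := by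
  rw [halfM_mulVec hf, mul_div_cancel_right₀ _ hw, two_smul, add_sub_cancel_right]

lemma halfM_perp (w : Fin k → F) {z : Fin k → F} (h : f z w = 0) : halfM f w *ᵥ z = -z := by
  rw [halfM_mulVec hf, h, mul_zero, zero_div, zero_smul, zero_sub]

lemma halfM_sq {w : Fin k → F} (hw : f w w ≠ 0) : halfM f w * halfM f w = 1 :=
  Matrix.ext_iff_mulVec.mpr fun z => by
    rw [← mulVec_mulVec, one_mulVec, halfM_mulVec hf w z, mulVec_sub, mulVec_smul, halfM_self hf hw,
      halfM_mulVec hf w z]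
    abel

lemma halfM_iso {w : Fin k → F} (hw : f w w ≠ 0) (x y : Fin k → F) :
    f (halfM f w *ᵥ x) (halfM f w *ᵥ y) = f x y := by
  simp only [halfM_mulVec hf, sym_sub_left hf, sym_sub_right hf, hf.bilinear.smul_left, hf.bilinear.smul_right,
    hf.symm w y]
  field_simp
  ring

/-- The half turn as a group element. -/
noncomputable def halfG {w : Fin k → F} (hw : f w w ≠ 0) : GL (Fin k) F :=
  unitOf (halfM f w) (halfM f w) (halfM_sq hf hw)

/-- A complete orthogonal system of anisotropic vectors gives coordinates. -/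
lemma eq_sum_of_orth (v : Fin k → (Fin k → F)) (horth : ∀ i j, i ≠ j → f (v i) (v j) = 0)
    (haniso : ∀ i, f (v i) (v i) ≠ 0) (u : Fin k → F) : u = ∑ i, (f u (v i) / f (v i) (v i)) • v i := by
  classical
  have hsum : ∀ (c : Fin k → F) j, f (∑ i, c i • v i) (v j) = c j * f (v j) (v j) := fun c j => by
    have : ∀ s : Finset (Fin k), f (∑ i ∈ s, c i • v i) (v j) = ∑ i ∈ s, c i * f (v i) (v j) := fun s => by
      induction s using Finset.induction_on with
      | empty => simp [sym_zero_left hf]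
      | insert i s hi ih =>
        rw [Finset.sum_insert hi, Finset.sum_insert hi, hf.bilinear.add_left, hf.bilinear.smul_left, ih]
    rw [this, Finset.sum_eq_single j (fun i _ h => by rw [horth i j h, mul_zero])
      (fun h => absurd (Finset.mem_univ j) h)]
  have hli : LinearIndependent F v := by
    rw [Fintype.linearIndependent_iff]
    intro c hc j
    have h := hsum c j
    rw [hc, sym_zero_left hf] at h
    exact (mul_eq_zero.mp h.symm).resolve_right (haniso j)
  have hspan := hli.span_eq_top_of_card_eq_finrank' (by rw [Fintype.card_fin, Module.finrank_fin_fun])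
  refine sym_eq hf fun p => ?_
  have hp : p ∈ Submodule.span F (Set.range v) := hspan ▸ Submodule.mem_top
  induction hp using Submodule.span_induction with
  | mem p hp =>
    obtain ⟨j, rfl⟩ := hp
    rw [hsum, div_mul_cancel₀ _ (haniso j)]
  | zero => rw [sym_zero_right hf, sym_zero_right hf]
  | add p q _ _ h h' => rw [hf.bilinear.add_right, hf.bilinear.add_right, h, h']
  | smul c p _ h => rw [hf.bilinear.smul_right, hf.bilinear.smul_right, h]

section Three
variable (hk : k = 3)
include hk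

/-- Coordinates in an orthogonal frame. -/
lemma frame_three {x y z : Fin k → F} (hxy : f x y = 0) (hxz : f x z = 0) (hyz : f y z = 0) (hx : f x x ≠ 0)
    (hy : f y y ≠ 0) (hz : f z z ≠ 0) (u : Fin k → F) :
    u = (f u x / f x x) • x + (f u y / f y y) • y + (f u z / f z z) • z := by
  subst hk
  have h := eq_sum_of_orth hf ![x, y, z] (fun i j hij => by
    fin_cases i <;> fin_cases j <;>
      first | exact absurd rfl hij | assumption | (rw [hf.symm]; assumption))
    (fun i => by fin_cases i <;> assumption) u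
  simpa [Fin.sum_univ_three] using h

section Two
variable (h2 : (2 : F) ≠ 0)
include h2

/-- Coordinates in a hyperbolic frame. -/
lemma frame_hyp {x x' y : Fin k → F} (hxx : f x x = 0) (hx' : f x' x' = 0) (hxx' : f x x' = 1) (hyx : f y x = 0)
    (hyx' : f y x' = 0) (hy : f y y ≠ 0) (u : Fin k → F) :
    u = f u x' • x + f u x • x' + (f u y / f y y) • y := by
  have hx'x : f x' x = 1 := by rw [hf.symm, hxx']
  have hxy : f x y = 0 := by rw [hf.symm, hyx]
  have hx'y : f x' y = 0 := by rw [hf.symm, hyx']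
  have h1 : f (x + x') (x - x') = 0 := by
    simp only [hf.bilinear.add_left, sym_sub_right hf, hxx, hx', hxx', hx'x]; ring
  have hp : f (x + x') (x + x') = 2 := by
    simp only [sym_quad_add hf, hxx, hx', hxx']; ring
  have hm : f (x - x') (x - x') = -2 := by
    simp only [sym_sub_left hf, sym_sub_right hf, hxx, hx', hxx', hx'x]; ring
  have h := frame_three hf hk h1 (show f (x + x') y = 0 by rw [hf.bilinear.add_left, hxy, hx'y, add_zero])
    (show f (x - x') y = 0 by rw [sym_sub_left hf, hxy, hx'y, sub_zero]) (by rwa [hp]) (by rw [hm]; exact neg_ne_zero.mpr h2) hy u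
  conv_lhs => rw [h, hp, hm, hf.bilinear.add_right, sym_sub_right hf]
  match_scalars <;> field_simp <;> ring

variable [Fintype F]

/-- A third vector orthogonal to two. -/
lemma exists_third {x y : Fin k → F} (hxy : f x y = 0) (hx : f x x ≠ 0) (hy : f y y ≠ 0) :
    ∃ z, f x z = 0 ∧ f y z = 0 ∧ f z z ≠ 0 := by
  have hyW : y ∈ perpIn f ⊤ x := (mem_perpIn hf).mpr ⟨Submodule.mem_top, by rw [hf.symm, hxy]⟩
  obtain ⟨z, hz, hq⟩ := exists_aniso hf h2 (nd_perpIn hf (nd_perpIn hf (nd_top hf) Submodule.mem_top hx) hyW hy) (by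
    have h1 := finrank_perpIn hf ⊤ x
    have h3 := finrank_perpIn hf (perpIn f ⊤ x) y
    rw [finrank_top, Module.finrank_fin_fun] at h1
    omega)
  obtain ⟨hz', hzy⟩ := (mem_perpIn hf).mp hz
  exact ⟨z, by rw [hf.symm]; exact ((mem_perpIn hf).mp hz').2, by rw [hf.symm, hzy], hq⟩

omit [Fintype F] in
/-- An isometry fixing a singular vector and an anisotropic vector orthogonal to it is the identity. -/
lemma eq_one_hyp {A : Matrix (Fin k) (Fin k) F} (hA : ∀ p q, f (A *ᵥ p) (A *ᵥ q) = f p q) {x x' y : Fin k → F}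
    (hxx : f x x = 0) (hx' : f x' x' = 0) (hxx' : f x x' = 1) (hyx : f y x = 0) (hyx' : f y x' = 0)
    (hy : f y y ≠ 0) (hAx : A *ᵥ x = x) (hAy : A *ᵥ y = y) : A = 1 := by
  have k1 : f (A *ᵥ x') x = 1 := by
    conv_lhs => arg 2; rw [← hAx]
    rw [hA, hf.symm, hxx']
  have k2 : f (A *ᵥ x') y = 0 := by
    conv_lhs => arg 2; rw [← hAy]
    rw [hA, hf.symm, hyx']
  have e := frame_hyp hf hk h2 hxx hx' hxx' hyx hyx' hy (A *ᵥ x')
  rw [k1, k2, zero_div, zero_smul, add_zero, one_smul] at e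
  obtain ⟨c, hc⟩ : ∃ c, c = f (A *ᵥ x') x' := ⟨_, rfl⟩
  rw [← hc] at e
  have k3 := hA x' x'
  rw [e, sym_quad_add hf, sym_quad_smul hf, hf.bilinear.smul_left, hxx, hx', hxx'] at k3
  have hc0 : c = 0 := (mul_eq_zero.mp (by linear_combination k3 : 2 * c = 0)).resolve_left h2
  rw [hc0, zero_smul, zero_add] at e
  refine Matrix.ext_iff_mulVec.mpr fun u => ?_
  rw [one_mulVec]
  conv_rhs => rw [frame_hyp hf hk h2 hxx hx' hxx' hyx hyx' hy u]
  conv_lhs => rw [frame_hyp hf hk h2 hxx hx' hxx' hyx hyx' hy u]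
  rw [mulVec_add, mulVec_add, mulVec_smul, mulVec_smul, mulVec_smul, hAx, hAy, e]

section PGroup
variable {p : ℕ} [hp : Fact p.Prime] [CharP F p] {H : Subgroup (GL (Fin k) F)} (hH : IsPGroup p H)
  (hiso : ∀ A ∈ H, ∀ u v, f (A.val *ᵥ u) (A.val *ᵥ v) = f u v)
include hH hiso

omit hf hk h2 hiso in
/-- A non-zero invariant subspace has a non-zero fixed vector. -/
lemma exists_fix_in {S : Submodule F (Fin k → F)} (hS : ∀ A ∈ H, ∀ v ∈ S, A.val *ᵥ v ∈ S) (hS0 : S ≠ ⊥) :
    ∃ x ∈ S, x ≠ 0 ∧ ∀ A ∈ H, A.val *ᵥ x = x := by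
  classical
  letI : MulAction H S :=
    { smul := fun A x => ⟨A.1.val *ᵥ x.1, hS _ A.2 _ x.2⟩
      one_smul := fun x => Subtype.ext (one_mulVec _)
      mul_smul := fun A B x => Subtype.ext (by
        show (A.1 * B.1).val *ᵥ x.1 = A.1.val *ᵥ (B.1.val *ᵥ x.1)
        rw [Units.val_mul, mulVec_mulVec]) }
  haveI : Finite S := inferInstance
  have hd : p ∣ Nat.card S := by
    haveI : Nontrivial S := Submodule.nontrivial_iff_ne_bot.mpr hS0
    obtain ⟨x, hx⟩ := exists_ne (0 : S)
    have hx' : addOrderOf x = p := addOrderOf_eq_prime (by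
      rw [← Nat.cast_smul_eq_nsmul F, CharP.cast_eq_zero, zero_smul]) hx
    exact hx' ▸ addOrderOf_dvd_natCard x
  obtain ⟨y, hy, hne⟩ := hH.exists_fixed_point_of_prime_dvd_card_of_fixed_point S hd
    (a := (0 : S)) (fun A => Subtype.ext (mulVec_zero A.1.val))
  exact ⟨y.1, y.2, fun h => hne (Subtype.ext h.symm), fun A hA => congrArg Subtype.val (hy ⟨A, hA⟩)⟩

omit hk h2 in
/-- An eigenvector of an element has eigenvalue one. -/
lemma eigen_one {A : GL (Fin k) F} (hA : A ∈ H) (hpodd : Odd p) {y : Fin k → F} (hy : f y y ≠ 0) {α β : F}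
    {x : Fin k → F} (hxy : f x y = 0) (hAx : A.val *ᵥ x = x) (hAy : A.val *ᵥ y = α • y + β • x)
    (hxx : β = 0 ∨ f x x = 0) : α = 1 := by
  have hn : ∀ n : ℕ, ∃ c : F, (A ^ n).val *ᵥ y = α ^ n • y + c • x := fun n => by
    induction n with
    | zero => exact ⟨0, by simp⟩
    | succ n ih =>
      obtain ⟨c, hc⟩ := ih
      refine ⟨α ^ n * β + c, ?_⟩
      rw [pow_succ' A, Units.val_mul, ← mulVec_mulVec, hc, mulVec_add, mulVec_smul, mulVec_smul, hAx, hAy]
      module
  obtain ⟨i, hi⟩ := hH ⟨A, hA⟩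
  have hi' : A ^ p ^ i = 1 := by simpa [Subtype.ext_iff] using hi
  obtain ⟨c, hc⟩ := hn (p ^ i)
  rw [hi', Units.val_one, one_mulVec] at hc
  have h1 := congrArg (fun v => f v y) hc
  simp only [hf.bilinear.add_left, hf.bilinear.smul_left, hxy, mul_zero, add_zero] at h1
  have hα : α ^ p ^ i = 1 := (mul_eq_right₀ hy).mp h1.symm
  have h2' := hiso A hA y y
  rw [hAy, sym_quad_add hf, sym_quad_smul hf, sym_quad_smul hf, hf.bilinear.smul_left, hf.bilinear.smul_right,
    hf.symm y x, hxy] at h2'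
  have h3 : β * β * f x x = 0 := by rcases hxx with h | h <;> simp [h]
  have h4 : α * α = 1 := by
    refine mul_right_cancel₀ hy ?_
    linear_combination h2' - h3
  rcases mul_self_eq_one_iff.mp h4 with h | h
  · exact h
  · rwa [h, (hpodd.pow (n := i)).neg_one_pow, ← h] at hα

/-- A group fixing an anisotropic vector is trivial. -/
lemma pgroup_fix_aniso (hpodd : Odd p) {w : Fin k → F} (hw : f w w ≠ 0) (hfix : ∀ A ∈ H, A.val *ᵥ w = w)
    {A : GL (Fin k) F} (hA : A ∈ H) : A = 1 := by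
  obtain ⟨y₀, hy₀W, hy₀, hy₀fix⟩ := exists_fix_in hH (S := perpIn f ⊤ w) (fun B hB v hv => by
      refine (mem_perpIn hf).mpr ⟨Submodule.mem_top, ?_⟩
      rw [← hfix B hB, hiso B hB]
      exact ((mem_perpIn hf).mp hv).2) (by
      intro h
      have h1 := finrank_perpIn hf ⊤ w
      rw [h, finrank_top, finrank_bot, Module.finrank_fin_fun] at h1
      omega)
  have hy₀w : f y₀ w = 0 := ((mem_perpIn hf).mp hy₀W).2
  by_cases hq : f y₀ y₀ = 0
  · -- a singular fixed vector
    obtain ⟨m, hm, hy₀m, -⟩ := exists_partner_sym hf h2 hy₀ hq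
    obtain ⟨m', hm'⟩ : ∃ m', m' = m - (f m w / f w w) • w := ⟨_, rfl⟩
    have hwm' : f w m' = 0 := by
      rw [hm', sym_sub_right hf, hf.bilinear.smul_right, hf.symm w m]; field_simp; ring
    have hy₀m' : f y₀ m' = 1 := by
      rw [hm', sym_sub_right hf, hf.bilinear.smul_right, hy₀m, hy₀w]; ring
    refine Units.ext (eq_one_hyp hf hk h2 (hiso A hA) hq (x' := m' - (f m' m' / 2) • y₀) ?_ ?_
      (by rw [hf.symm, hy₀w]) ?_ hw (hy₀fix A hA) (hfix A hA))
    · simp only [sym_sub_left hf, sym_sub_right hf, hf.bilinear.smul_left, hf.bilinear.smul_right, hf.symm m' y₀,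
        hy₀m', hq]
      field_simp
      ring
    · rw [sym_sub_right hf, hf.bilinear.smul_right, hy₀m', hq, mul_zero, sub_zero]
    · rw [sym_sub_right hf, hf.bilinear.smul_right, hwm', hf.symm w y₀, hy₀w, mul_zero, sub_zero]
  · -- an anisotropic fixed vector
    obtain ⟨z, hz1, hz2, hz⟩ := exists_third hf hk h2 (show f w y₀ = 0 by rw [hf.symm, hy₀w]) hw hq
    have hwy : f w y₀ = 0 := by rw [hf.symm, hy₀w]
    have e := frame_three hf hk hwy hz1 hz2 hw hq hz (A.val *ᵥ z)
    have k1 : f (A.val *ᵥ z) w = 0 := by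
      conv_lhs => arg 2; rw [← hfix A hA]
      rw [hiso A hA, hf.symm, hz1]
    have k2 : f (A.val *ᵥ z) y₀ = 0 := by
      conv_lhs => arg 2; rw [← hy₀fix A hA]
      rw [hiso A hA, hf.symm, hz2]
    rw [k1, k2, zero_div, zero_div, zero_smul, zero_smul, zero_add, zero_add] at e
    have hα := eigen_one hf hH hiso hA hpodd hz (α := f (A.val *ᵥ z) z / f z z) (x := w) (β := 0) hz1 (hfix A hA)
      (by rw [zero_smul, add_zero]; exact e) (Or.inl rfl)
    rw [hα, one_smul] at e
    refine Units.ext (Matrix.ext_iff_mulVec.mpr fun u => ?_)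
    rw [Units.val_one, one_mulVec]
    conv_rhs => rw [frame_three hf hk hwy hz1 hz2 hw hq hz u]
    conv_lhs => rw [frame_three hf hk hwy hz1 hz2 hw hq hz u]
    rw [mulVec_add, mulVec_add, mulVec_smul, mulVec_smul, mulVec_smul, hfix A hA, hy₀fix A hA, e]

/-- The order of a group of isometries of prime power order is at most that of the field. -/
lemma pgroup_card_le (hpodd : Odd p) : Nat.card H ≤ Fintype.card F := by
  obtain ⟨x, -, hx, hxfix⟩ := exists_fix_in hH (S := ⊤) (fun _ _ _ _ => Submodule.mem_top) (by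
    intro h
    have h1 : Module.finrank F (⊤ : Submodule F (Fin k → F)) = 3 := by
      rw [finrank_top, Module.finrank_fin_fun, hk]
    rw [h, finrank_bot] at h1
    omega)
  by_cases hq : f x x = 0
  · obtain ⟨x', hx', hxx', hx'x⟩ := exists_partner_sym hf h2 hx hq
    obtain ⟨y, hyx, hyx', hy⟩ := exists_aniso_pairW hf h2 hk.ge hq hx' hxx'
    have hAy : ∀ A ∈ H, A.val *ᵥ y = y + f (A.val *ᵥ y) x' • x := fun A hA => by
      have k1 : f (A.val *ᵥ y) x = 0 := by
        conv_lhs => arg 2; rw [← hxfix A hA]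
        rw [hiso A hA, hyx]
      have e := frame_hyp hf hk h2 hq hx' hxx' hyx hyx' hy (A.val *ᵥ y)
      rw [k1, zero_smul, add_zero, add_comm] at e
      have hα := eigen_one hf hH hiso hA hpodd hy (show f x y = 0 by rw [hf.symm, hyx]) (hxfix A hA) e (Or.inr hq)
      rw [hα, one_smul] at e
      exact e
    rw [← Nat.card_eq_fintype_card]
    refine Nat.card_le_card_of_injective (fun A : H => f (A.1.val *ᵥ y) x') fun A B hAB => Subtype.ext ?_
    have h1 : A.1.val *ᵥ y = B.1.val *ᵥ y := by rw [hAy _ A.2, hAy _ B.2]; exact congrArg (fun c => y + c • x) hAB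
    have hC : B.1⁻¹ * A.1 ∈ H := H.mul_mem (H.inv_mem B.2) A.2
    have h3 : (B.1⁻¹ * A.1).val = 1 := eq_one_hyp hf hk h2 (hiso _ hC) hq hx' hxx' hyx hyx' hy (hxfix _ hC) (by
      rw [Units.val_mul, ← mulVec_mulVec, h1, Transvec.inv_mulVec_cancel])
    exact (inv_mul_eq_one.mp (Units.ext h3)).symm
  · haveI : Subsingleton H := ⟨fun A B => Subtype.ext
      ((pgroup_fix_aniso hf hk h2 hH hiso hpodd hq hxfix A.2).trans
        (pgroup_fix_aniso hf hk h2 hH hiso hpodd hq hxfix B.2).symm)⟩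
    rw [Nat.card_unique]
    exact Fintype.card_pos

end PGroup

omit [Fintype F] in
/-- An involutive isometry with small fixed space. -/
lemma shape_of_small {A : Matrix (Fin k) (Fin k) F} (hA : ∀ p, A *ᵥ (A *ᵥ p) = p)
    (hAi : ∀ p q, f (A *ᵥ p) (A *ᵥ q) = f p q)
    (hd : Module.finrank F (LinearMap.ker (Matrix.mulVecLin A - LinearMap.id)) ≤ 1) :
    A = -1 ∨ ∃ w, f w w ≠ 0 ∧ A = halfM f w := by
  obtain ⟨E, hE⟩ : ∃ E, E = LinearMap.ker (Matrix.mulVecLin A - LinearMap.id) := ⟨_, rfl⟩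
  rw [← hE] at hd
  have hmem : ∀ v, v ∈ E ↔ A *ᵥ v = v := fun v => by rw [hE]; simp [sub_eq_zero]
  have hsum : ∀ z, z + A *ᵥ z ∈ E := fun z => (hmem _).mpr (by rw [mulVec_add, hA, add_comm])
  by_cases h0 : E = ⊥
  · refine Or.inl (Matrix.ext_iff_mulVec.mpr fun z => ?_)
    have := hsum z
    rw [h0, Submodule.mem_bot] at this
    rw [neg_mulVec, one_mulVec]
    exact eq_neg_of_add_eq_zero_right this
  · obtain ⟨w, hwE, hw0⟩ := Submodule.exists_mem_ne_zero_of_ne_bot h0
    have hE' : Submodule.span F {w} = E := Submodule.eq_of_le_of_finrank_le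
      ((Submodule.span_singleton_le_iff_mem _ _).mpr hwE) (by rwa [finrank_span_singleton hw0])
    have hs : ∀ z, ∃ s : F, z + A *ᵥ z = s • w ∧ 2 * f z w = s * f w w := fun z => by
      obtain ⟨s, hs⟩ := Submodule.mem_span_singleton.mp (hE' ▸ hsum z)
      refine ⟨s, hs.symm, ?_⟩
      have h := congrArg (fun v => f v w) hs
      have h1 : f (A *ᵥ z) w = f z w := by
        conv_lhs => arg 2; rw [← (hmem w).mp hwE]
        rw [hAi]
      simp only [hf.bilinear.smul_left, hf.bilinear.add_left, h1] at h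
      linear_combination -h
    have hw : f w w ≠ 0 := fun hw => by
      obtain ⟨z, hz⟩ := (hf.nondegenerate w hw0).2
      obtain ⟨s, -, hs'⟩ := hs z
      rw [hw, mul_zero, hf.symm] at hs'
      exact hz ((mul_eq_zero.mp hs').resolve_left h2)
    refine Or.inr ⟨w, hw, Matrix.ext_iff_mulVec.mpr fun z => ?_⟩
    obtain ⟨s, hs1, hs2⟩ := hs z
    rw [halfM_mulVec hf, hs2, mul_div_cancel_right₀ _ hw, ← hs1, add_sub_cancel_left]

omit [Fintype F] in
/-- The involutive isometries. -/
lemma invol_shape {A : Matrix (Fin k) (Fin k) F} (hA : ∀ p, A *ᵥ (A *ᵥ p) = p)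
    (hAi : ∀ p q, f (A *ᵥ p) (A *ᵥ q) = f p q) :
    ∃ ε : F, ε * ε = 1 ∧ (ε • A = -1 ∨ ∃ w, f w w ≠ 0 ∧ ε • A = halfM f w) := by
  by_cases hd : Module.finrank F (LinearMap.ker (Matrix.mulVecLin A - LinearMap.id)) ≤ 1
  · exact ⟨1, one_mul 1, by simpa using shape_of_small hf hk h2 hA hAi hd⟩
  refine ⟨-1, by ring, ?_⟩
  simpa using shape_of_small hf hk h2 (A := -A) (fun p => by rw [neg_mulVec, neg_mulVec, mulVec_neg, neg_neg, hA])
    (fun p q => by simp [neg_mulVec, sym_neg_left hf, sym_neg_right hf, hAi]) (by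
    obtain ⟨P, hP⟩ : ∃ P, P = LinearMap.ker (Matrix.mulVecLin A - LinearMap.id) := ⟨_, rfl⟩
    obtain ⟨N, hN⟩ : ∃ N, N = LinearMap.ker (Matrix.mulVecLin (-A) - LinearMap.id) := ⟨_, rfl⟩
    rw [← hP] at hd
    rw [← hN]
    have hbot : P ⊓ N = ⊥ := by
      rw [Submodule.eq_bot_iff]
      intro v hv
      obtain ⟨h1, h1'⟩ := Submodule.mem_inf.mp hv
      rw [hP, LinearMap.mem_ker] at h1
      rw [hN, LinearMap.mem_ker] at h1'
      simp only [LinearMap.sub_apply, Matrix.mulVecLin_apply, LinearMap.id_apply, neg_mulVec] at h1 h1'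
      refine (smul_eq_zero.mp (show (2 : F) • v = 0 from ?_)).resolve_left h2
      linear_combination (norm := module) -(1 : F) • h1 - (1 : F) • h1'
    have hle := Submodule.finrank_le (P ⊔ N)
    have hadd := Submodule.finrank_sup_add_finrank_inf_eq P N
    rw [hbot, finrank_bot] at hadd
    rw [Module.finrank_fin_fun] at hle
    omega)

end Two
end Three

end CfsgLib.Classical22.TensorMax.OO
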