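/-
Fixed points of Eichler matrices among skew and among self-adjoint matrices.
-/
import Cfsg.Agent.Lib.Classical22.OrthOrthTensor.Space
import Mathlib.LinearAlgebra.Matrix.Charpoly.Coeff
import Mathlib.GroupTheory.PGroup

set_option autoImplicit false
set_option maxHeartbeats 800000

namespace CfsgLib.Classical22.TensorMax.OO

open Matrix CfsgLib.Transvec CfsgLib.Classical22.TensorMax.SympO CfsgLib.Classical22.TensorMax.SpO
open scoped MatrixGroups

/-- A group of prime exponent acting on a non-zero group of the same exponent has a non-zero fixed point. -/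
lemma exists_fixed_point {p : ℕ} [Fact p.Prime] {A : Type*} [AddCommGroup A] [Finite A] (hA : ∀ x : A, p • x = 0)
    {W : Type*} [AddCommGroup W] [Finite W] (hW : ∀ w : W, p • w = 0) {P : AddSubgroup A} (hP : P ≠ ⊥)
    (op : W → A → A) (hzero : ∀ x, op 0 x = x) (hadd : ∀ w w' x, x ∈ P → op (w + w') x = op w (op w' x))
    (hfix : ∀ w, op w 0 = 0) (hmem : ∀ w x, x ∈ P → op w x ∈ P) : ∃ x ∈ P, x ≠ 0 ∧ ∀ w, op w x = x := by
  classical
  letI : MulAction (Multiplicative W) P :=
    { smul := fun w x => ⟨op w.toAdd x.1, hmem _ _ x.2⟩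
      one_smul := fun x => Subtype.ext (hzero _)
      mul_smul := fun w w' x => Subtype.ext (hadd _ _ _ x.2) }
  have hG : IsPGroup p (Multiplicative W) := fun w => ⟨1, by
    rw [pow_one]
    exact hW w.toAdd⟩
  have hd : p ∣ Nat.card P := by
    haveI : Nontrivial P := P.nontrivial_iff_ne_bot.mpr hP
    obtain ⟨x, hx⟩ := exists_ne (0 : P)
    have hx' : addOrderOf x = p := addOrderOf_eq_prime (Subtype.ext (by simpa using hA x.1)) hx
    exact hx' ▸ addOrderOf_dvd_natCard x
  obtain ⟨y, hy, hne⟩ := hG.exists_fixed_point_of_prime_dvd_card_of_fixed_point P hd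
    (a := (0 : P)) (fun w => Subtype.ext (hfix _))
  exact ⟨y.1, y.2, fun h => hne (Subtype.ext h.symm), fun w => congrArg Subtype.val (hy (Multiplicative.ofAdd w))⟩

variable {F : Type*} [Field F] [Fintype F] {k : ℕ} {f : (Fin k → F) → (Fin k → F) → F}
  (hf : Cfsg.Geo.IsSymmetricForm f) (h2 : (2 : F) ≠ 0)
include hf h2

omit [Fintype F] h2 in
/-- A vector is determined by its values on a hyperbolic pair and its perpendicular. -/
lemma eq_smul_of_perp {x x' v : Fin k → F} (hxx : f x x = 0) (hxx' : f x x' = 1)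
    (h : ∀ y, f y x = 0 → f v y = 0) : v = f v x' • x := by
  refine sym_eq hf fun p => ?_
  have h1 := h (p - f p x • x') (by rw [sym_sub_left hf, hf.bilinear.smul_left, hf.symm x' x, hxx', mul_one, sub_self])
  rw [sym_sub_right hf, hf.bilinear.smul_right, sub_eq_zero] at h1
  rw [hf.bilinear.smul_left, hf.symm x p, h1]
  ring

/-- Skew matrices commuting with the Eichler matrices at a singular vector. -/
theorem skew_fixed (hk : 3 ≤ k) {x x' : Fin k → F} (hxx : f x x = 0) (hx'x' : f x' x' = 0) (hxx' : f x x' = 1)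
    {S : Matrix (Fin k) (Fin k) F} (hS : ∀ p q, f (S *ᵥ p) q = - f p (S *ᵥ q))
    (hcom : ∀ y, f x y = 0 → eA f x y * S = S * eA f x y) :
    ∃ v, f v x = 0 ∧ f v x' = 0 ∧ ∀ z, S *ᵥ z = f z x • v - f z v • x := by
  obtain ⟨y₀, hy0x, hy0x', hq⟩ := exists_aniso_pairW hf h2 hk hxx hx'x' hxx'
  have hx'x : f x' x = 1 := by rw [hf.symm, hxx']
  have key : ∀ y, f x y = 0 → ∀ p, eA f x y *ᵥ (S *ᵥ p) = S *ᵥ (eA f x y *ᵥ p) := fun y hy p => by
    rw [mulVec_mulVec, hcom y hy, ← mulVec_mulVec]
  obtain ⟨v₀, hv₀⟩ : ∃ v₀, v₀ = S *ᵥ x := ⟨_, rfl⟩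
  have h0 : ∀ y, f x y = 0 → f v₀ x • y - f v₀ y • x - (f y y / 2 * f v₀ x) • x = 0 := fun y hy => by
    have e := key y hy x
    rw [eA_self hf hxx hy, ← hv₀, eA_mulVec hf] at e
    conv_lhs => rw [show f v₀ x • y - f v₀ y • x - (f y y / 2 * f v₀ x) • x =
      v₀ + f v₀ x • y - f v₀ y • x - (f y y / 2 * f v₀ x) • x - v₀ by abel, e, sub_self]
  have hvx : f v₀ x = 0 := by
    have e := congrArg (fun w => f w y₀) (h0 y₀ (by rw [hf.symm, hy0x]))
    simp only [sym_sub_left hf, hf.bilinear.smul_left, hf.symm x y₀, hy0x, sym_zero_left hf] at e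
    exact (mul_eq_zero.mp (by linear_combination e : f v₀ x * f y₀ y₀ = 0)).resolve_right hq
  have hvy : ∀ y, f y x = 0 → f v₀ y = 0 := fun y hy => by
    have e := congrArg (fun w => f w x') (h0 y (by rw [hf.symm, hy]))
    simp only [sym_sub_left hf, hf.bilinear.smul_left, hvx, hxx', sym_zero_left hf] at e
    linear_combination -e
  have hv : v₀ = f v₀ x' • x := eq_smul_of_perp hf hxx hxx' hvy
  obtain ⟨l, hl⟩ : ∃ l, l = f v₀ x' := ⟨_, rfl⟩
  rw [← hl] at hv
  obtain ⟨v, hvdef⟩ : ∃ v, v = S *ᵥ x' := ⟨_, rfl⟩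
  have hvl : f v x = -l := by rw [hvdef, hS, ← hv₀, hf.symm x' v₀, ← hl]
  have hvv : f v x' = 0 := by
    have e := hS x' x'
    rw [← hvdef, hf.symm x' v] at e
    exact (mul_eq_zero.mp (by linear_combination e : 2 * f v x' = 0)).resolve_left h2
  have hSy : ∀ y, f x y = 0 → S *ᵥ y =
      (-l) • y + (l * f x' y + l * f y y - f v y) • x := fun y hy => by
    have e := key y hy x'
    rw [← hvdef, eA_mulVec hf, eA_mulVec hf, mulVec_sub, mulVec_sub, mulVec_add, mulVec_smul, mulVec_smul,
      mulVec_smul, ← hvdef, ← hv₀, hv, hvl, hx'x] at e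
    linear_combination (norm := (match_scalars <;> field_simp <;> ring)) -(1 : F) • e
  have hl0 : l = 0 := by
    have e1 := hSy y₀ (by rw [hf.symm, hy0x])
    have e2 := hSy ((-1 : F) • y₀) (by rw [hf.bilinear.smul_right, hf.symm x y₀, hy0x, mul_zero])
    rw [mulVec_smul, e1, hf.bilinear.smul_right, sym_quad_smul hf, hf.bilinear.smul_right _ v] at e2
    have e3 := congrArg (fun w => f w x') e2
    simp only [sym_sub_left hf, hf.bilinear.add_left, hf.bilinear.smul_left, hy0x', hxx'] at e3
    have e4 : 2 * (l * f y₀ y₀) = 0 := by linear_combination -e3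
    exact (mul_eq_zero.mp ((mul_eq_zero.mp e4).resolve_left h2)).resolve_right hq
  refine ⟨v, by rw [hvl, hl0, neg_zero], hvv, fun z => ?_⟩
  have hz : f x (z - f z x • x') = 0 := by
    rw [sym_sub_right hf, hf.bilinear.smul_right, hxx', hf.symm x z, mul_one, sub_self]
  have e := hSy _ hz
  simp only [hl0, mulVec_sub, mulVec_smul, ← hvdef, sym_sub_right hf, hf.bilinear.smul_right, hvv, hf.symm v z] at e
  linear_combination (norm := module) e

/-- Self-adjoint matrices fixed modulo scalars by the Eichler matrices at a singular vector. -/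
theorem sym_fixed (hk : 3 ≤ k) (hq3 : k = 3 → 3 < Fintype.card F) {x x' : Fin k → F} (hxx : f x x = 0)
    (hx'x' : f x' x' = 0) (hxx' : f x x' = 1) {K : Matrix (Fin k) (Fin k) F}
    (hK : ∀ p q, f (K *ᵥ p) q = f p (K *ᵥ q))
    (hfix : ∀ y, f x y = 0 → ∃ c : F, eA f x y * K = (K + c • 1) * eA f x y) :
    ∃ l m : F, ∀ z, K *ᵥ z = l • z + (m * f z x) • x := by
  classical
  obtain ⟨y₀, hy0x, hy0x', hq⟩ := exists_aniso_pairW hf h2 hk hxx hx'x' hxx'
  have hx'x : f x' x = 1 := by rw [hf.symm, hxx']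
  obtain ⟨v, hv⟩ : ∃ v, v = K *ᵥ x := ⟨_, rfl⟩
  have key : ∀ y (c : F), eA f x y * K = (K + c • 1) * eA f x y → ∀ p,
      eA f x y *ᵥ (K *ᵥ p) = K *ᵥ (eA f x y *ᵥ p) + c • (eA f x y *ᵥ p) := fun y c h p => by
    rw [mulVec_mulVec, h, ← mulVec_mulVec, add_mulVec, smul_mulVec, one_mulVec]
  have hfx : ∀ y (c : F), f x y = 0 → eA f x y * K = (K + c • 1) * eA f x y →
      eA f x y *ᵥ v = v + c • x := fun y c hy h => by
    have e := key y c h x
    rwa [eA_self hf hxx hy, ← hv] at e
  have hvx : f v x = 0 := by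
    obtain ⟨c, hc⟩ := hfix y₀ (by rw [hf.symm, hy0x])
    have e := congrArg (fun w => f w y₀) (hfx y₀ c (by rw [hf.symm, hy0x]) hc)
    simp only [eA_mulVec hf, sym_sub_left hf, hf.bilinear.add_left, hf.bilinear.smul_left, hf.symm x y₀, hy0x] at e
    exact (mul_eq_zero.mp (by linear_combination e : f v x * f y₀ y₀ = 0)).resolve_right hq
  have hc_eq : ∀ y (c : F), f x y = 0 → eA f x y * K = (K + c • 1) * eA f x y → c = - f v y := fun y c hy h => by
    have e := congrArg (fun w => f w x') (hfx y c hy h)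
    simp only [eA_mulVec hf, hvx, sym_sub_left hf, hf.bilinear.add_left, hf.bilinear.smul_left, hxx'] at e
    linear_combination -e
  have hcomm : ∀ y, f x y = 0 → eA f x y * K = (K + (-f v y) • 1) * eA f x y := fun y hy => by
    obtain ⟨c, hc⟩ := hfix y hy
    rwa [← hc_eq y c hy hc]
  have hc0 : ∀ y, f x y = 0 → f v y = 0 := by
    by_contra hne
    push Not at hne
    obtain ⟨y₁, hy₁, hvy₁⟩ := hne
    rcases Nat.lt_or_ge k 4 with hk4 | hk4
    · -- dimension three
      have hk3 : k = 3 := by omega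
      have hdet : ∀ c : F, (K + c • 1).det = K.det := fun c => by
        obtain ⟨y, hy⟩ : ∃ y, y = (-c / f v y₁) • y₁ := ⟨_, rfl⟩
        have hxy : f x y = 0 := by rw [hy, hf.bilinear.smul_right, hy₁, mul_zero]
        have hcy : -f v y = c := by rw [hy, hf.bilinear.smul_right]; field_simp
        have e := congrArg Matrix.det (hcomm y hxy)
        rw [hcy, det_mul, det_mul, mul_comm] at e
        have hu : (eA f x y).det ≠ 0 := fun h0 => by
          have := congrArg Matrix.det (eA_mul_neg hf h2 hxx hxy)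
          rw [det_mul, h0, zero_mul, det_one] at this
          exact zero_ne_one this
        exact (mul_right_cancel₀ hu e).symm
      obtain ⟨φ, hφ⟩ : ∃ φ : Polynomial F, φ = (-K).charpoly - Polynomial.C K.det := ⟨_, rfl⟩
      have hdeg : φ.natDegree = k := by
        rw [hφ, Polynomial.natDegree_sub_C, Matrix.charpoly_natDegree_eq_dim, Fintype.card_fin]
      have h0 : φ = 0 := by
        refine Polynomial.eq_zero_of_natDegree_lt_card_of_eval_eq_zero' φ Finset.univ (fun c _ => ?_) ?_
        · rw [hφ, Polynomial.eval_sub, Polynomial.eval_C, Matrix.eval_charpoly, sub_neg_eq_add,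
            Matrix.scalar_apply, ← Matrix.smul_one_eq_diagonal, add_comm, hdet, sub_self]
        · rw [hdeg, Finset.card_univ]
          exact hk3 ▸ hq3 hk3
      rw [h0, Polynomial.natDegree_zero] at hdeg
      omega
    · -- larger dimension
      have hsp : ∀ y, f x y = 0 → f v y ≠ 0 → y ∈ Submodule.span F ({x, v} : Set (Fin k → F)) := by
        intro y hy hvy
        have e := key y _ (hcomm y hy) v
        rw [hfx y _ hy (hcomm y hy), mulVec_add, mulVec_smul, ← hv, eA_mulVec hf] at e
        obtain ⟨c, hcd⟩ : ∃ c, c = f v y := ⟨_, rfl⟩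
        obtain ⟨A, hA⟩ : ∃ A, A = f (K *ᵥ v) x := ⟨_, rfl⟩
        rw [← hA, ← hcd] at e
        by_cases hA0 : A = 0
        · exfalso
          rw [hA0] at e
          have e' := congrArg (fun w => f w y) e
          simp only [sym_sub_left hf, hf.bilinear.add_left, hf.bilinear.smul_left, hy, ← hcd] at e'
          have h3 : 2 * (c * c) = 0 := by linear_combination e'
          exact hvy (hcd ▸ mul_self_eq_zero.mp ((mul_eq_zero.mp h3).resolve_left h2))
        · rw [Submodule.mem_span_pair]
          refine ⟨A⁻¹ * (f (K *ᵥ v) y + f y y / 2 * A + c * c), A⁻¹ * (-2 * c), ?_⟩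
          have e' : A • y = (f (K *ᵥ v) y + f y y / 2 * A + c * c) • x + (-2 * c) • v := by
            linear_combination (norm := module) e
          rw [← smul_smul, ← smul_smul, ← smul_add, ← e', inv_smul_smul₀ hA0]
      have hle : perpIn f ⊤ x ≤ Submodule.span F ({x, v} : Set (Fin k → F)) := fun w hw => by
        have hwx : f x w = 0 := by rw [hf.symm]; exact ((mem_perpIn hf).mp hw).2
        by_cases hvw : f v w = 0
        · have h1 := hsp (w + y₁) (by rw [hf.bilinear.add_right, hwx, hy₁, add_zero])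
            (by rwa [hf.bilinear.add_right, hvw, zero_add])
          simpa using Submodule.sub_mem _ h1 (hsp y₁ hy₁ hvy₁)
        · exact hsp w hwx hvw
      have h1 := Submodule.finrank_mono hle
      have h2' := finrank_perpIn hf ⊤ x
      rw [finrank_top, Module.finrank_fin_fun] at h2'
      have h3 : Module.finrank F (Submodule.span F ({x, v} : Set (Fin k → F))) ≤ 2 := by
        refine (finrank_span_le_card ({x, v} : Set (Fin k → F))).trans ?_
        rw [Set.toFinset_insert, Set.toFinset_singleton]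
        exact Finset.card_le_two
      omega
  have hvx' : v = f v x' • x := eq_smul_of_perp hf hxx hxx' fun y hy => hc0 y (by rw [hf.symm, hy])
  obtain ⟨l, hl⟩ : ∃ l, l = f v x' := ⟨_, rfl⟩
  rw [← hl] at hvx'
  obtain ⟨u, hu⟩ : ∃ u, u = K *ᵥ x' - l • x' := ⟨_, rfl⟩
  have hux : f u x = 0 := by
    rw [hu, sym_sub_left hf, hf.bilinear.smul_left, hK, ← hv, hf.symm x' v, hx'x, ← hl, mul_one, sub_self]
  have hGy : ∀ y, f x y = 0 → K *ᵥ y = l • y - f u y • x := fun y hy => by
    have e := key y _ (hcomm y hy) x'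
    rw [hc0 y hy, neg_zero, zero_smul, add_zero, eA_mulVec hf, eA_mulVec hf, mulVec_sub, mulVec_sub, mulVec_add,
      mulVec_smul, mulVec_smul, mulVec_smul, ← hv, hvx', show K *ᵥ x' = u + l • x' by rw [hu, sub_add_cancel],
      hx'x, hf.bilinear.add_left, hf.bilinear.add_left, hf.bilinear.smul_left, hf.bilinear.smul_left, hux, hx'x] at e
    linear_combination (norm := module) -(1 : F) • e
  have huy : ∀ y, f y x = 0 → f u y = 0 := fun y hy => by
    have hy' : f x y = 0 := by rw [hf.symm, hy]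
    have e := hK y x'
    rw [hGy y hy', show K *ᵥ x' = u + l • x' by rw [hu, sub_add_cancel], sym_sub_left hf, hf.bilinear.smul_left,
      hf.bilinear.smul_left, hxx', hf.bilinear.add_right, hf.bilinear.smul_right, hf.symm y u] at e
    exact (mul_eq_zero.mp (by linear_combination -e : 2 * f u y = 0)).resolve_left h2
  have hu' : u = f u x' • x := eq_smul_of_perp hf hxx hxx' huy
  refine ⟨l, f u x', fun z => ?_⟩
  have hz : f x (z - f z x • x') = 0 := by
    rw [sym_sub_right hf, hf.bilinear.smul_right, hxx', hf.symm x z, mul_one, sub_self]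
  have e := hGy _ hz
  rw [mulVec_sub, mulVec_smul, show K *ᵥ x' = u + l • x' by rw [hu, sub_add_cancel],
    huy _ (by rw [hf.symm, hz]), zero_smul, sub_zero] at e
  conv_lhs at e => rw [hu']
  linear_combination (norm := module) e

end CfsgLib.Classical22.TensorMax.OO
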