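/-
The symmetric form on a tensor product of two symmetric spaces, Kronecker Eichler elements, and the setting.
-/
import Cfsg.Agent.Lib.Classical22.OrthOrthTensor.Invariant
import Cfsg.Agent.Lib.Classical22.SpOrthTensor.Base

set_option autoImplicit false
set_option maxHeartbeats 800000

namespace CfsgLib.Classical22.TensorMax.OO

open Matrix Kronecker CfsgLib.Transvec CfsgLib.Classical22.TensorMax.SympO CfsgLib.Classical22.TensorMax.SpO
open scoped MatrixGroups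

variable {F : Type*} [Field F] {a b : ℕ} {f₁ : (Fin a → F) → (Fin a → F) → F}
  {f₂ : (Fin b → F) → (Fin b → F) → F}

lemma lin_ext {W : Type*} [AddCommGroup W] [Module F W] {L L' : (Fin a × Fin b → F) →ₗ[F] W}
    (h : ∀ x u, L (pt x u) = L' (pt x u)) : L = L' :=
  LinearMap.ext fun v => by
    rw [eq_sum_pt v, map_sum, map_sum]
    exact Finset.sum_congr rfl fun j _ => h _ _

variable (hl : Cfsg.Geo.IsSymmetricForm f₁) (hr : Cfsg.Geo.IsSymmetricForm f₂)

section Right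
include hr

lemma s2q (u : Fin b → F) (x : Fin a → F) (z : Fin b → F) : s2 f₂ u (pt x z) = f₂ z u • x := by
  rw [s2, sl_pt, sym_dot hr]

lemma eq_of_s2o {v w : Fin a × Fin b → F} (h : ∀ u, s2 f₂ u v = s2 f₂ u w) : v = w := by
  rw [eq_sum_pt v, eq_sum_pt w]
  refine Finset.sum_congr rfl fun j _ => ?_
  congr 1
  have hz : gram f₂ *ᵥ ((gram f₂)⁻¹ *ᵥ (Pi.single j (1 : F) : Fin b → F)) = Pi.single j 1 := by
    rw [mulVec_mulVec, sym_gram_mul_inv hr, one_mulVec]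
  have := h ((gram f₂)⁻¹ *ᵥ (Pi.single j (1 : F) : Fin b → F))
  rwa [s2, hz, sl_single, sl_single] at this

lemma mem_pure_of_s2o {e e' : Fin b → F} (hee' : f₂ e e' = 1) {v : Fin a × Fin b → F}
    (h : ∀ w, f₂ e w = 0 → s2 f₂ w v = 0) : v = pt (s2 f₂ e' v) e := by
  refine eq_of_s2o hr fun u => ?_
  have h0 := h (u - f₂ e u • e') (by rw [sym_sub_right hr, hr.bilinear.smul_right, hee', mul_one, sub_self])
  conv_lhs => rw [← sub_add_cancel u (f₂ e u • e'), s2_add, h0, zero_add, s2_smul]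
  rw [s2q hr]

end Right

section Both
include hl hr

lemma bform_pto (v : Fin a × Fin b → F) (p : Fin a → F) (u : Fin b → F) :
    bform f₁ f₂ v (pt p u) = f₁ (s2 f₂ u v) p := by
  obtain ⟨L, hL⟩ : ∃ L : (Fin b → F) →ₗ[F] F, ∀ z, L z = f₁ (s2 f₂ z v) p :=
    ⟨{ toFun := fun z => f₁ (s2 f₂ z v) p
       map_add' := fun x y => by rw [s2_add, hl.bilinear.add_left]
       map_smul' := fun c x => by rw [s2_smul, hl.bilinear.smul_left]; rfl }, fun z => rfl⟩
  rw [← hL]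
  conv_rhs => rw [pi_eq_sum_univ' u, map_sum]
  refine Finset.sum_congr rfl fun j _ => ?_
  rw [map_smul, hL, smul_eq_mul, show (fun i => pt p u (i, j)) = u j • p from funext fun i => by simp [pt, mul_comm],
    hl.bilinear.smul_right]

lemma bform_ptpt (x y : Fin a → F) (u w : Fin b → F) : bform f₁ f₂ (pt x u) (pt y w) = f₁ x y * f₂ u w := by
  rw [bform_pto hl hr, s2q hr, hl.bilinear.smul_left, mul_comm]

lemma bform_comm (v w : Fin a × Fin b → F) : bform f₁ f₂ w v = bform f₁ f₂ v w := by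
  rw [eq_sum_pt v, eq_sum_pt w]
  simp only [bform_sum_left hl, bform_sum_right hl, bform_ptpt hl hr]
  rw [Finset.sum_comm]
  refine Finset.sum_congr rfl fun i _ => Finset.sum_congr rfl fun j _ => ?_
  rw [hl.symm, hr.symm]

lemma bform_pto_slA (v : Fin a × Fin b → F) (p : Fin a → F) (u : Fin b → F) :
    bform f₁ f₂ v (pt p u) = f₂ (slA (gram f₁ *ᵥ p) v) u := by
  rw [bform_pto hl hr, sym_dot hl, sym_dot hr, s2]
  exact dot_sl_slA _ _ _

lemma bform_ndo {v : Fin a × Fin b → F} (h : ∀ w, bform f₁ f₂ v w = 0) : v = 0 :=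
  eq_of_s2o hr fun u => sym_eq hl fun p => by rw [← bform_pto hl hr, h, map_zero, sym_zero_left hl]

lemma iso_of_pureo {g : GL (Fin a × Fin b) F}
    (h : ∀ x u y w, bform f₁ f₂ (g.val *ᵥ pt x u) (g.val *ᵥ pt y w) = f₁ x y * f₂ u w) : Iso f₁ f₂ g := fun v w => by
  rw [eq_sum_pt v, eq_sum_pt w]
  simp only [Matrix.mulVec_sum, bform_sum_left hl, bform_sum_right hl, h, bform_ptpt hl hr]

lemma s2_imageo {g : GL (Fin a × Fin b) F} (hg : Iso f₁ f₂ g) {u w : Fin b → F} {x y : Fin a → F}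
    (h : g.val *ᵥ pt x u = pt y w) (v : Fin a × Fin b → F) :
    f₁ (s2 f₂ w (g.val *ᵥ v)) y = f₁ (s2 f₂ u v) x := by
  rw [← bform_pto hl hr, ← h, hg, bform_pto hl hr]

lemma iso_kro {A : GL (Fin a) F} {B : GL (Fin b) F} {m n : F}
    (hA : ∀ x y, f₁ (A.val *ᵥ x) (A.val *ᵥ y) = m * f₁ x y)
    (hB : ∀ x y, f₂ (B.val *ᵥ x) (B.val *ᵥ y) = n * f₂ x y) (hmn : m * n = 1) : Iso f₁ f₂ (kr A B) :=
  iso_of_pureo hl hr fun x p y q => by
    rw [kr_apply, kr_apply, bform_ptpt hl hr, hA, hB]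
    linear_combination (f₁ x y * f₂ p q) * hmn

end Both

/-- An element exchanging the two factors. -/
def Swaps (g : GL (Fin a × Fin b) F) : Prop :=
  ∃ (P : Matrix (Fin a) (Fin b) F) (R : Matrix (Fin b) (Fin a) F), ∀ x u, g.val *ᵥ pt x u = pt (P *ᵥ u) (R *ᵥ x)

/-- A member of the stabiliser of the unordered pair of factors. -/
def IsTw (g : GL (Fin a × Fin b) F) : Prop := IsKron g ∨ Swaps g

/-- An element acting as an Eichler transformation of the tensor form. -/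
def IsEich (f₁ : (Fin a → F) → (Fin a → F) → F) (f₂ : (Fin b → F) → (Fin b → F) → F)
    (g : GL (Fin a × Fin b) F) (z w : Fin a × Fin b → F) : Prop :=
  ∀ v, g.val *ᵥ v = v + bform f₁ f₂ v z • w - bform f₁ f₂ v w • z -
    (bform f₁ f₂ w w / 2 * bform f₁ f₂ v z) • z

/-- The Eichler matrix as a group element. -/
noncomputable def eU {k : ℕ} {f : (Fin k → F) → (Fin k → F) → F} (hf : Cfsg.Geo.IsSymmetricForm f) (h2 : (2 : F) ≠ 0)
    {u w : Fin k → F} (hu : f u u = 0) (huw : f u w = 0) : GL (Fin k) F :=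
  unitOf (eA f u w) (eA f u (-w)) (eA_mul_neg hf h2 hu huw)

/-- A subgroup between the tensor stabiliser and a group containing all unipotent isometries. -/
structure Ctx [Fintype F] (f₁ : (Fin a → F) → (Fin a → F) → F) (f₂ : (Fin b → F) → (Fin b → F) → F)
    (Ω M : Subgroup (GL (Fin a × Fin b) F)) : Prop where
  left : Cfsg.Geo.IsSymmetricForm f₁
  right : Cfsg.Geo.IsSymmetricForm f₂
  two : (2 : F) ≠ 0
  dim : 3 ≤ a
  side : a ≤ b
  four : 4 ≤ b
  res : 5 ≤ b ∨ b = 4 ∧ ∀ x y, x ≠ 0 → f₂ x x = 0 → f₂ y y = 0 → f₂ x y = 0 → y ∈ Submodule.span F {x}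
  small : a = 3 → 3 < Fintype.card F
  shape : a = 3 ∨ 5 ≤ a ∨ ∀ x y, x ≠ 0 → f₁ x x = 0 → f₁ y y = 0 → f₁ x y = 0 → y ∈ Submodule.span F {x}
  parity : Odd a ∨ Odd b ∨ 5 ≤ b ∨ a = b
  iso : ∀ g ∈ Ω, Iso f₁ f₂ g
  unip : ∀ g, Iso f₁ f₂ g → IsNilpotent (g.val - 1) → g ∈ Ω
  le : ∀ g, IsKron g → g ∈ Ω → g ∈ M
  sub : M ≤ Ω
  ne : ¬ ∃ z z', bform f₁ f₂ z z = 0 ∧ bform f₁ f₂ z' z' = 0 ∧ bform f₁ f₂ z z' ≠ 0 ∧
    (∀ w, bform f₁ f₂ z w = 0 → ∃ g ∈ M, IsEich f₁ f₂ g z w) ∧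
    ∀ w, bform f₁ f₂ z' w = 0 → ∃ g ∈ M, IsEich f₁ f₂ g z' w

variable [Fintype F] {Ω M : Subgroup (GL (Fin a × Fin b) F)} (C : Ctx f₁ f₂ Ω M)

/-- The Eichler element of the second factor. -/
noncomputable def TB {u w : Fin b → F} (hu : f₂ u u = 0) (huw : f₂ u w = 0) : GL (Fin a × Fin b) F :=
  kr 1 (eU C.right C.two hu huw)

/-- The Eichler element of the first factor. -/
noncomputable def TA {x y : Fin a → F} (hx : f₁ x x = 0) (hxy : f₁ x y = 0) : GL (Fin a × Fin b) F :=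
  kr (eU C.left C.two hx hxy) 1

include C

lemma isoM {g : GL (Fin a × Fin b) F} (hg : g ∈ M) : Iso f₁ f₂ g := C.iso g (C.sub hg)

lemma TB_apply {u w : Fin b → F} (hu : f₂ u u = 0) (huw : f₂ u w = 0) (x : Fin a → F) (z : Fin b → F) :
    (TB C hu huw).val *ᵥ pt x z = pt x (eA f₂ u w *ᵥ z) := by
  rw [TB, kr_apply, Units.val_one, one_mulVec]; rfl

lemma TA_apply {x y : Fin a → F} (hx : f₁ x x = 0) (hxy : f₁ x y = 0) (z : Fin a → F) (u : Fin b → F) :
    (TA C hx hxy).val *ᵥ pt z u = pt (eA f₁ x y *ᵥ z) u := by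
  rw [TA, kr_apply, Units.val_one, one_mulVec]; rfl

lemma TB_vec {u w : Fin b → F} (hu : f₂ u u = 0) (huw : f₂ u w = 0) (v : Fin a × Fin b → F) :
    (TB C hu huw).val *ᵥ v =
      v + pt (s2 f₂ u v) w - pt (s2 f₂ w v) u - (f₂ w w / 2) • pt (s2 f₂ u v) u := by
  have hr := C.right
  have e := lin_ext (L := Matrix.mulVecLin (TB C hu huw).val)
    (L' := LinearMap.id + (ptL w).comp (s2 f₂ u) - (ptL u).comp (s2 f₂ w) - (f₂ w w / 2) • (ptL u).comp (s2 f₂ u))
    fun x z => by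
      simp only [Matrix.mulVecLin_apply, TB_apply, LinearMap.sub_apply, LinearMap.add_apply, LinearMap.id_apply,
        LinearMap.comp_apply, LinearMap.smul_apply, ptL_apply, s2q hr, eA_mulVec hr, pt_smul_left, pt_sub_right,
        pt_add_right, pt_smul_right, smul_smul]
  exact LinearMap.congr_fun e v

lemma TB_nilp {u w : Fin b → F} (hu : f₂ u u = 0) (huw : f₂ u w = 0) : IsNilpotent ((TB C hu huw).val - 1) := by
  refine ⟨3, ?_⟩
  have e : (TB C hu huw).val - 1 = (1 : Matrix (Fin a) (Fin a) F) ⊗ₖ (eA f₂ u w - 1) := by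
    change (1 : Matrix (Fin a) (Fin a) F) ⊗ₖ (eA f₂ u w) - 1 = _
    rw [eq_comm, eq_sub_iff_add_eq]
    conv_lhs => arg 2; rw [← one_kronecker_one]
    rw [← kronecker_add, sub_add_cancel]
  rw [e, pow_succ', pow_two, ← mul_kronecker_mul, ← mul_kronecker_mul, eA_sub_one_cube C.right hu huw,
    kronecker_zero]

lemma TA_nilp {x y : Fin a → F} (hx : f₁ x x = 0) (hxy : f₁ x y = 0) :
    IsNilpotent ((TA C hx hxy).val - 1) := by
  refine ⟨3, ?_⟩
  have e : (TA C hx hxy).val - 1 = (eA f₁ x y - 1) ⊗ₖ (1 : Matrix (Fin b) (Fin b) F) := by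
    change (eA f₁ x y) ⊗ₖ (1 : Matrix (Fin b) (Fin b) F) - 1 = _
    rw [eq_comm, eq_sub_iff_add_eq]
    conv_lhs => arg 2; rw [← one_kronecker_one]
    rw [← add_kronecker, sub_add_cancel]
  rw [e, pow_succ', pow_two, ← mul_kronecker_mul, ← mul_kronecker_mul, eA_sub_one_cube C.left hx hxy,
    zero_kronecker]

lemma TB_mem {u w : Fin b → F} (hu : f₂ u u = 0) (huw : f₂ u w = 0) : TB C hu huw ∈ M :=
  C.le _ (isKron_kr _ _) (C.unip _ (iso_kro C.left C.right (m := 1) (n := 1)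
    (fun x y => by rw [Units.val_one, one_mulVec, one_mulVec, one_mul])
    (fun x y => by rw [one_mul]; exact eA_iso C.right C.two hu huw x y) (one_mul 1)) (TB_nilp C hu huw))

lemma TA_mem {x y : Fin a → F} (hx : f₁ x x = 0) (hxy : f₁ x y = 0) : TA C hx hxy ∈ M :=
  C.le _ (isKron_kr _ _) (C.unip _ (iso_kro C.left C.right (m := 1) (n := 1)
    (fun z z' => by rw [one_mul]; exact eA_iso C.left C.two hx hxy z z')
    (fun z z' => by rw [Units.val_one, one_mulVec, one_mulVec, one_mul]) (one_mul 1)) (TA_nilp C hx hxy))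

lemma isKron_TB {u w : Fin b → F} (hu : f₂ u u = 0) (huw : f₂ u w = 0) : IsKron (TB C hu huw) := isKron_kr _ _

end CfsgLib.Classical22.TensorMax.OO
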