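/-
Calculus of the Eichler transformations of the tensor form that lie in a given group.
-/
import Cfsg.Agent.Lib.Classical22.OrthOrthTensor.Base

set_option autoImplicit false
set_option maxHeartbeats 800000

namespace CfsgLib.Classical22.TensorMax.OO

open Matrix Kronecker CfsgLib.Transvec CfsgLib.Classical22.TensorMax.SympO CfsgLib.Classical22.TensorMax.SpO
open scoped MatrixGroups

variable {F : Type*} [Field F] {a b : ℕ} {f₁ : (Fin a → F) → (Fin a → F) → F}
  {f₂ : (Fin b → F) → (Fin b → F) → F}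

/-- The group contains the Eichler transformation at `z` and `w`. -/
def EM (f₁ : (Fin a → F) → (Fin a → F) → F) (f₂ : (Fin b → F) → (Fin b → F) → F)
    (M : Subgroup (GL (Fin a × Fin b) F)) (z w : Fin a × Fin b → F) : Prop :=
  ∃ g ∈ M, IsEich f₁ f₂ g z w

lemma pt_neg_left (x : Fin a → F) (u : Fin b → F) : pt (-x) u = - pt x u := (ptL u).map_neg x

lemma pt_sub_left (x y : Fin a → F) (u : Fin b → F) : pt (x - y) u = pt x u - pt y u := (ptL u).map_sub x y

variable (hl : Cfsg.Geo.IsSymmetricForm f₁)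
include hl

lemma bform_zero_right (v : Fin a × Fin b → F) : bform f₁ f₂ v 0 = 0 := by
  simpa using bform_smul_right (f₂ := f₂) hl 0 v 0

lemma bform_sub_left (v v' w : Fin a × Fin b → F) :
    bform f₁ f₂ (v - v') w = bform f₁ f₂ v w - bform f₁ f₂ v' w := by
  rw [sub_eq_add_neg, ← neg_one_smul F v', bform_add_left hl, bform_smul_left hl]; ring

lemma bform_sub_right (v w w' : Fin a × Fin b → F) :
    bform f₁ f₂ v (w - w') = bform f₁ f₂ v w - bform f₁ f₂ v w' := by
  rw [sub_eq_add_neg, ← neg_one_smul F w', bform_add_right hl, bform_smul_right hl]; ring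

variable [Fintype F] {Ω M : Subgroup (GL (Fin a × Fin b) F)} (C : Ctx f₁ f₂ Ω M)
include C

lemma em_zero (z : Fin a × Fin b → F) : EM f₁ f₂ M z 0 :=
  ⟨1, M.one_mem, fun v => by simp [bform_zero_right hl]⟩

lemma em_add {z w w' : Fin a × Fin b → F} (hz : bform f₁ f₂ z z = 0) (hw : bform f₁ f₂ z w = 0)
    (hw' : bform f₁ f₂ z w' = 0) (h : EM f₁ f₂ M z w) (h' : EM f₁ f₂ M z w') : EM f₁ f₂ M z (w + w') := by
  have h2 := C.two
  obtain ⟨g, hg, hgv⟩ := h
  obtain ⟨g', hg', hg'v⟩ := h'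
  refine ⟨g * g', M.mul_mem hg hg', fun v => ?_⟩
  rw [Units.val_mul, ← mulVec_mulVec, hgv, hg'v]
  simp only [bform_sub_left hl, bform_add_left hl, bform_add_right hl, bform_smul_left hl, hz, hw, hw',
    bform_comm hl C.right z w', bform_comm hl C.right z w, bform_comm hl C.right w w']
  match_scalars <;> field_simp <;> ring

lemma em_smul_left (c : F) {z w : Fin a × Fin b → F} (h : EM f₁ f₂ M z (c • w)) : EM f₁ f₂ M (c • z) w := by
  obtain ⟨g, hg, hgv⟩ := h
  refine ⟨g, hg, fun v => ?_⟩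
  rw [hgv]
  simp only [bform_smul_left hl, bform_smul_right hl]
  module

lemma em_smul_left' (c : F) {z w : Fin a × Fin b → F} (h : EM f₁ f₂ M (c • z) w) : EM f₁ f₂ M z (c • w) := by
  obtain ⟨g, hg, hgv⟩ := h
  refine ⟨g, hg, fun v => ?_⟩
  rw [hgv]
  simp only [bform_smul_left hl, bform_smul_right hl]
  module

lemma em_neg {z w : Fin a × Fin b → F} (hz : bform f₁ f₂ z z = 0) (hw : bform f₁ f₂ z w = 0)
    (h : EM f₁ f₂ M z w) : EM f₁ f₂ M z (-w) := by
  have h2 := C.two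
  obtain ⟨g, hg, hgv⟩ := h
  refine ⟨g⁻¹, M.inv_mem hg, fun v => mulVec_injective g ?_⟩
  simp only
  rw [Transvec.mulVec_inv_cancel, hgv]
  rw [← neg_one_smul F w]
  simp only [bform_sub_left hl, bform_add_left hl, bform_smul_left hl, bform_smul_right hl, hz, hw,
    bform_comm hl C.right z w]
  match_scalars <;> field_simp <;> ring

lemma em_sub {z w w' : Fin a × Fin b → F} (hz : bform f₁ f₂ z z = 0) (hw : bform f₁ f₂ z w = 0)
    (hw' : bform f₁ f₂ z w' = 0) (h : EM f₁ f₂ M z w) (h' : EM f₁ f₂ M z w') : EM f₁ f₂ M z (w - w') := by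
  rw [sub_eq_add_neg]
  refine em_add hl C hz hw ?_ h (em_neg hl C hz hw' h')
  rw [← neg_one_smul F w', bform_smul_right hl, hw', mul_zero]

lemma em_shift (d : F) {z w : Fin a × Fin b → F} (hz : bform f₁ f₂ z z = 0) (hw : bform f₁ f₂ z w = 0)
    (h : EM f₁ f₂ M z w) : EM f₁ f₂ M z (w + d • z) := by
  obtain ⟨g, hg, hgv⟩ := h
  refine ⟨g, hg, fun v => ?_⟩
  rw [hgv]
  simp only [bform_add_left hl, bform_add_right hl, bform_smul_left hl, bform_smul_right hl, hz, hw,
    bform_comm hl C.right z w]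
  module

lemma em_swap {z w : Fin a × Fin b → F} (hz : bform f₁ f₂ z z = 0) (hw : bform f₁ f₂ w w = 0)
    (h : EM f₁ f₂ M z w) : EM f₁ f₂ M w (-z) := by
  obtain ⟨g, hg, hgv⟩ := h
  refine ⟨g, hg, fun v => ?_⟩
  rw [hgv, ← neg_one_smul F z]
  simp only [bform_smul_left hl, bform_smul_right hl, hz, hw]
  match_scalars <;> ring

lemma em_conj {g : GL (Fin a × Fin b) F} (hg : g ∈ M) {z w z' w' : Fin a × Fin b → F} (hz : g.val *ᵥ z = z')
    (hw : g.val *ᵥ w = w') (h : EM f₁ f₂ M z w) : EM f₁ f₂ M z' w' := by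
  obtain ⟨k, hk, hkv⟩ := h
  refine ⟨g * k * g⁻¹, M.mul_mem (M.mul_mem hg hk) (M.inv_mem hg), fun v => ?_⟩
  obtain ⟨p, rfl⟩ : ∃ p, v = g.val *ᵥ p := ⟨g⁻¹.val *ᵥ v, (Transvec.mulVec_inv_cancel g v).symm⟩
  rw [Units.val_mul, Units.val_mul, ← mulVec_mulVec, ← mulVec_mulVec, Transvec.inv_mulVec_cancel, hkv, ← hz, ← hw,
    isoM C hg, isoM C hg, isoM C hg]
  simp only [mulVec_sub, mulVec_add, mulVec_smul]

/-- All Eichler transformations at `z` lie in the group. -/
def EFull (f₁ : (Fin a → F) → (Fin a → F) → F) (f₂ : (Fin b → F) → (Fin b → F) → F)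
    (M : Subgroup (GL (Fin a × Fin b) F)) (z : Fin a × Fin b → F) : Prop :=
  ∀ w, bform f₁ f₂ z w = 0 → EM f₁ f₂ M z w

end CfsgLib.Classical22.TensorMax.OO
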