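/-
The group contains no element moving vectors only along a singular pure subspace.
-/
import Cfsg.Agent.Lib.Classical22.OrthOrthTensor.Eich

set_option autoImplicit false
set_option maxHeartbeats 800000

namespace CfsgLib.Classical22.TensorMax.OO

open Matrix Kronecker CfsgLib.Transvec CfsgLib.Classical22.TensorMax.SympO CfsgLib.Classical22.TensorMax.SpO
open scoped MatrixGroups

variable {F : Type*} [Field F] {a b : ℕ} {f₁ : (Fin a → F) → (Fin a → F) → F}
  {f₂ : (Fin b → F) → (Fin b → F) → F}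

/-- All rank-two root elements `x ⊗ e ∧ x ⊗ u`. -/
def Good (f₁ : (Fin a → F) → (Fin a → F) → F) (f₂ : (Fin b → F) → (Fin b → F) → F)
    (M : Subgroup (GL (Fin a × Fin b) F)) (x : Fin a → F) (e : Fin b → F) : Prop :=
  ∀ u, f₂ u e = 0 → EM f₁ f₂ M (pt x e) (pt x u)

section Vectors
variable [Fintype F] {k : ℕ} {f : (Fin k → F) → (Fin k → F) → F} (hf : Cfsg.Geo.IsSymmetricForm f) (h2 : (2 : F) ≠ 0)
include hf h2

/-- A singular vector nonorthogonal to a given one in the orbit of the Eichler matrices. -/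
lemma exists_move_nonorth (hk : 3 ≤ k) {e : Fin k → F} (he : e ≠ 0) (hee : f e e = 0) :
    ∃ m w, f m m = 0 ∧ f m w = 0 ∧ f e (eA f m w *ᵥ e) ≠ 0 := by
  obtain ⟨m, hm, hem, hme⟩ := exists_partner_sym hf h2 he hee
  obtain ⟨w, hwe, hwm, hq⟩ := exists_aniso_pairW hf h2 hk hee hm hem
  refine ⟨m, w, hm, by rw [hf.symm, hwm], ?_⟩
  rw [eA_mulVec hf, hem, hf.symm e w, hwe, sym_sub_right hf, sym_sub_right hf, hf.bilinear.add_right,
    hf.bilinear.smul_right, hf.bilinear.smul_right, hf.bilinear.smul_right, hee, hf.symm e w, hwe, hem]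
  simp [hq, h2]

/-- A singular pair orthogonal to a given pair. -/
lemma exists_pair_pairW (hk : 5 ≤ k) {u v : Fin k → F} (huu : f u u = 0) (hvv : f v v = 0) (huv : f u v = 1) :
    ∃ r r', f r r = 0 ∧ f r' r' = 0 ∧ f r r' = 1 ∧ f r u = 0 ∧ f r v = 0 ∧ f r' u = 0 ∧ f r' v = 0 := by
  obtain ⟨r, hr0, hrr, hru, hrv⟩ := exists_singular_pairW hf h2 hk huu hvv huv
  obtain ⟨m, hm, hrm, -⟩ := exists_partner_sym hf h2 hr0 hrr
  obtain ⟨p, hp⟩ : ∃ p, p = m - f m u • v - f m v • u := ⟨_, rfl⟩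
  have hpu : f p u = 0 := by
    rw [hp, sym_sub_left hf, sym_sub_left hf, hf.bilinear.smul_left, hf.bilinear.smul_left, huu, hf.symm v u, huv]
    ring
  have hpv : f p v = 0 := by
    rw [hp, sym_sub_left hf, sym_sub_left hf, hf.bilinear.smul_left, hf.bilinear.smul_left, hvv, huv]
    ring
  have hrp : f r p = 1 := by
    rw [hp, sym_sub_right hf, sym_sub_right hf, hf.bilinear.smul_right, hf.bilinear.smul_right, hru, hrv, hrm]
    ring
  refine ⟨r, p - (f p p / 2) • r, hrr, ?_, ?_, hru, hrv, ?_, ?_⟩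
  · simp only [sym_sub_left hf, sym_sub_right hf, hf.bilinear.smul_left, hf.bilinear.smul_right, hrr, hrp,
      hf.symm p r]
    field_simp
    ring
  · rw [sym_sub_right hf, hf.bilinear.smul_right, hrp, hrr, mul_zero, sub_zero]
  · rw [sym_sub_left hf, hf.bilinear.smul_left, hpu, hru, mul_zero, sub_zero]
  · rw [sym_sub_left hf, hf.bilinear.smul_left, hpv, hrv, mul_zero, sub_zero]

/-- Singular vectors not orthogonal to a given one span the space. -/
lemma mem_of_nonorth (hk : 3 ≤ k) {x : Fin k → F} (hx : x ≠ 0) (hxx : f x x = 0) {S : Submodule F (Fin k → F)}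
    (hS : ∀ x', f x' x' = 0 → f x x' ≠ 0 → x' ∈ S) (y : Fin k → F) : y ∈ S := by
  obtain ⟨x₀, hx₀, hxx₀, -⟩ := exists_partner_sym hf h2 hx hxx
  have h0 : x₀ ∈ S := hS x₀ hx₀ (by rw [hxx₀]; exact one_ne_zero)
  have hperp : ∀ z, f z x = 0 → f z x₀ = 0 → z - (f z z / 2) • x ∈ S := fun z hz hz0 => by
    have hxz : f x z = 0 := by rw [hf.symm, hz]
    have e : eA f x z *ᵥ x₀ = x₀ + (z - (f z z / 2) • x) := by
      rw [eA_mulVec hf, hf.symm x₀ x, hxx₀, hf.symm x₀ z, hz0]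
      module
    have h1 := hS _ (by rw [eA_iso hf h2 hxx hxz, hx₀]) (by
      have := eA_iso hf h2 hxx hxz x x₀
      rw [eA_self hf hxx hxz, hxx₀] at this
      rw [this]; exact one_ne_zero)
    rw [e] at h1
    simpa using S.sub_mem h1 h0
  obtain ⟨z₀, hz₀, hz₀', hq⟩ := exists_aniso_pairW hf h2 hk hxx hx₀ hxx₀
  have hxS : x ∈ S := by
    have hn : f (-z₀) x = 0 ∧ f (-z₀) x₀ = 0 := by
      rw [sym_neg_left hf, sym_neg_left hf, hz₀, hz₀', neg_zero]; exact ⟨rfl, rfl⟩
    have h1 := S.add_mem (hperp z₀ hz₀ hz₀') (hperp _ hn.1 hn.2)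
    rw [sym_neg_left hf, sym_neg_right hf, neg_neg] at h1
    have h3 := S.smul_mem (-(f z₀ z₀))⁻¹ h1
    rwa [show z₀ - (f z₀ z₀ / 2) • x + (-z₀ - (f z₀ z₀ / 2) • x) = (-(f z₀ z₀)) • x by
      match_scalars <;> field_simp <;> ring, inv_smul_smul₀ (neg_ne_zero.mpr hq)] at h3
  obtain ⟨z, hz⟩ : ∃ z, z = y - f y x₀ • x - f y x • x₀ := ⟨_, rfl⟩
  have hzx : f z x = 0 := by
    rw [hz, sym_sub_left hf, sym_sub_left hf, hf.bilinear.smul_left, hf.bilinear.smul_left, hxx, hf.symm x₀ x, hxx₀]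
    ring
  have hzx₀ : f z x₀ = 0 := by
    rw [hz, sym_sub_left hf, sym_sub_left hf, hf.bilinear.smul_left, hf.bilinear.smul_left, hxx₀, hx₀]
    ring
  rw [show y = (z - (f z z / 2) • x) + (f z z / 2 + f y x₀) • x + f y x • x₀ by rw [hz]; module]
  exact S.add_mem (S.add_mem (hperp z hzx hzx₀) (S.smul_mem _ hxS)) (S.smul_mem _ h0)

end Vectors

variable [Fintype F] {Ω M : Subgroup (GL (Fin a × Fin b) F)} (C : Ctx f₁ f₂ Ω M)
include C

/-- A single root element gives all root elements at singular pure vectors. -/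
theorem good_all {x : Fin a → F} {e : Fin b → F} {t : F} (hx : x ≠ 0) (hxx : f₁ x x = 0) (he : e ≠ 0)
    (hee : f₂ e e = 0) (ht : t ≠ 0) {e₂ : Fin b → F} (hee₂ : f₂ e e₂ ≠ 0)
    (h : EM f₁ f₂ M (pt x e) (t • pt x e₂)) {x' : Fin a → F} {e' : Fin b → F} (hx' : x' ≠ 0)
    (hxx' : f₁ x' x' = 0) (he' : e' ≠ 0) (hee' : f₂ e' e' = 0) : Good f₁ f₂ M x' e' := by
  have hl := C.left
  have hr := C.right
  have h2 := C.two
  have hgood : Good f₁ f₂ M x e := fun u hu => by
    obtain ⟨c, hc⟩ : ∃ c, c = t * f₂ e₂ e := ⟨_, rfl⟩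
    have hc0 : c ≠ 0 := hc ▸ mul_ne_zero ht (by rwa [hr.symm])
    obtain ⟨u', hu'⟩ : ∃ u', u' = c⁻¹ • u := ⟨_, rfl⟩
    have heu : f₂ e u' = 0 := by rw [hu', hr.bilinear.smul_right, hr.symm e u, hu, mul_zero]
    have hz : bform f₁ f₂ (pt x e) (pt x e) = 0 := by rw [bform_ptpt hl hr, hxx, zero_mul]
    have hw : ∀ p, bform f₁ f₂ (pt x e) (pt x p) = 0 := fun p => by rw [bform_ptpt hl hr, hxx, zero_mul]
    have hT : (TB C hee heu).val *ᵥ pt x e = pt x e := by rw [TB_apply, eA_self hr hee heu]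
    have h1 := em_conj hl C (TB_mem C hee heu) hT rfl h
    have h2' := em_sub hl C hz (by rw [mulVec_smul, TB_apply, bform_smul_right hl, hw, mul_zero])
      (by rw [bform_smul_right hl, hw, mul_zero]) h1 h
    have h3 := em_shift hl C (t * f₂ e₂ u' + t * (f₂ u' u' / 2 * f₂ e₂ e)) hz (by
      simp only [mulVec_smul, TB_apply, bform_sub_right hl, bform_smul_right hl, hw, mul_zero, sub_zero]) h2'
    refine cast (congrArg (EM f₁ f₂ M _) ?_) h3
    rw [mulVec_smul, TB_apply, eA_mulVec hr, pt_sub_right, pt_sub_right, pt_add_right, pt_smul_right, pt_smul_right,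
      pt_smul_right, show pt x u = c • pt x u' by rw [hu', pt_smul_right, smul_inv_smul₀ hc0], hc]
    module
  have hB : ∀ e', e' ≠ 0 → f₂ e' e' = 0 → Good f₁ f₂ M x e' := fun e' he' hee' =>
    singular_all hr h2 (by have := C.four; omega) (P := fun e => Good f₁ f₂ M x e)
      (fun c p hc hp u hu => by
        rw [pt_smul_right]
        refine em_smul_left hl C c ?_
        rw [← pt_smul_right]
        refine hp _ ?_
        rw [hr.bilinear.smul_right, mul_eq_zero] at hu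
        rw [hr.bilinear.smul_left, hu.resolve_left hc, mul_zero])
      (fun m w p hm hmw hp u hu => by
        obtain ⟨u', hu'⟩ : ∃ u', u' = eA f₂ m (-w) *ᵥ u := ⟨_, rfl⟩
        have hmw' : f₂ m (-w) = 0 := by rw [sym_neg_right hr, hmw, neg_zero]
        have hback : eA f₂ m w *ᵥ u' = u := by rw [hu', mulVec_mulVec, eA_mul_neg hr h2 hm hmw, one_mulVec]
        refine em_conj hl C (TB_mem C hm hmw) (TB_apply C hm hmw x p) (by rw [TB_apply, hback]) (hp u' ?_)
        rw [← eA_iso hr h2 hm hmw, hback, hu])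
      he hee hgood he' hee'
  refine singular_all hl h2 C.dim (P := fun x => Good f₁ f₂ M x e')
    (fun c p hc hp u hu => by
      rw [pt_smul_left, pt_smul_left]
      refine em_smul_left hl C c ?_
      rw [smul_smul, ← pt_smul_right]
      exact hp _ (by rw [hr.bilinear.smul_left, hu, mul_zero]))
    (fun m w p hm hmw hp u hu => em_conj hl C (TA_mem C hm hmw) (TA_apply C hm hmw p e') (TA_apply C hm hmw p u)
      (hp u hu))
    hx hxx (hB e' he' hee') hx' hxx'

/-- A single translation gives a translation at every singular pure vector. -/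
theorem seed_all {x : Fin a → F} {e : Fin b → F} {t : F} (hx : x ≠ 0) (hxx : f₁ x x = 0) (he : e ≠ 0)
    (hee : f₂ e e = 0) (ht : t ≠ 0) {e₂ : Fin b → F} (hee₂ : f₂ e e₂ ≠ 0)
    (h : EM f₁ f₂ M (pt x e) (t • pt x e₂)) {x' : Fin a → F} {e' : Fin b → F} (hx' : x' ≠ 0)
    (hxx' : f₁ x' x' = 0) (he' : e' ≠ 0) (hee' : f₂ e' e' = 0) :
    ∃ (s : F) (u : Fin b → F), s ≠ 0 ∧ f₂ e' u ≠ 0 ∧ EM f₁ f₂ M (pt x' e') (s • pt x' u) := by
  have hl := C.left
  have hr := C.right
  have h2 := C.two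
  have hB : ∀ e', e' ≠ 0 → f₂ e' e' = 0 →
      ∃ (s : F) (u : Fin b → F), s ≠ 0 ∧ f₂ e' u ≠ 0 ∧ EM f₁ f₂ M (pt x e') (s • pt x u) := fun e' he' hee' =>
    singular_all hr h2 (by have := C.four; omega)
      (P := fun e => ∃ (s : F) (u : Fin b → F), s ≠ 0 ∧ f₂ e u ≠ 0 ∧ EM f₁ f₂ M (pt x e) (s • pt x u))
      (fun c p hc ⟨s, u, hs, hu, hem⟩ => ⟨s / c, u, div_ne_zero hs hc,
        by rw [hr.bilinear.smul_left]; exact mul_ne_zero hc hu, by
        rw [pt_smul_right]
        refine em_smul_left hl C c ?_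
        rwa [smul_smul, mul_div_cancel₀ _ hc]⟩)
      (fun m w p hm hmw ⟨s, u, hs, hu, hem⟩ => ⟨s, eA f₂ m w *ᵥ u, hs, by rwa [eA_iso hr h2 hm hmw],
        em_conj hl C (TB_mem C hm hmw) (TB_apply C hm hmw x p) (by rw [mulVec_smul, TB_apply]) hem⟩)
      he hee ⟨t, e₂, ht, hee₂, h⟩ he' hee'
  refine singular_all hl h2 C.dim
    (P := fun x => ∃ (s : F) (u : Fin b → F), s ≠ 0 ∧ f₂ e' u ≠ 0 ∧ EM f₁ f₂ M (pt x e') (s • pt x u))
    (fun c p hc ⟨s, u, hs, hu, hem⟩ => ⟨s / (c * c), u, div_ne_zero hs (mul_ne_zero hc hc), hu, by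
      rw [pt_smul_left, pt_smul_left]
      refine em_smul_left hl C c ?_
      rwa [smul_smul, smul_smul, show c * (s / (c * c)) * c = s by field_simp]⟩)
    (fun m w p hm hmw ⟨s, u, hs, hu, hem⟩ => ⟨s, u, hs, hu,
      em_conj hl C (TA_mem C hm hmw) (TA_apply C hm hmw p e') (by rw [mulVec_smul, TA_apply]) hem⟩)
    hx hxx (hB e' he' hee') hx' hxx'

/-- With all root elements at singular pure vectors and one translation at each, every such vector is full. -/
theorem efull_all (hgood : ∀ x e, x ≠ 0 → f₁ x x = 0 → e ≠ 0 → f₂ e e = 0 → Good f₁ f₂ M x e)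
    (hseed : ∀ x e, x ≠ 0 → f₁ x x = 0 → e ≠ 0 → f₂ e e = 0 →
      ∃ (t : F) (e₂ : Fin b → F), t ≠ 0 ∧ f₂ e e₂ ≠ 0 ∧ EM f₁ f₂ M (pt x e) (t • pt x e₂))
    {x : Fin a → F} {e : Fin b → F} (hx : x ≠ 0) (hxx : f₁ x x = 0) (he : e ≠ 0) (hee : f₂ e e = 0) :
    EFull f₁ f₂ M (pt x e) := by
  have hl := C.left
  have hr := C.right
  have h2 := C.two
  have hb : 3 ≤ b := by have := C.four; omega
  -- the translation towards a given partner
  have htrans : ∀ x e e', x ≠ 0 → f₁ x x = 0 → e ≠ 0 → f₂ e e = 0 → f₂ e e' = 1 →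
      ∃ α : F, α ≠ 0 ∧ EM f₁ f₂ M (pt x e) (α • pt x e') := by
    intro x e e' hx hxx he hee hee'
    obtain ⟨t, e₂, ht, hne, h⟩ := hseed x e hx hxx he hee
    have hw : ∀ p, bform f₁ f₂ (pt x e) (pt x p) = 0 := fun p => by rw [bform_ptpt hl hr, hxx, zero_mul]
    have hg := hgood x e hx hxx he hee (t • (e₂ - f₂ e e₂ • e')) (by
      rw [hr.bilinear.smul_left, sym_sub_left hr, hr.bilinear.smul_left, hr.symm e' e, hee', hr.symm e₂ e]; ring)
    refine ⟨t * f₂ e e₂, mul_ne_zero ht hne, cast (congrArg (EM f₁ f₂ M _) ?_)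
      (em_sub hl C (hw e) (by rw [bform_smul_right hl, hw, mul_zero]) (hw _) h hg)⟩
    rw [pt_smul_right, pt_sub_right, pt_smul_right]
    module
  -- the vectors `y ⊗ t` with `t ⊥ e`
  have hperp : ∀ (x : Fin a → F) (e : Fin b → F), x ≠ 0 → f₁ x x = 0 → e ≠ 0 → f₂ e e = 0 →
      ∀ (y : Fin a → F) (t : Fin b → F), f₂ t e = 0 → EM f₁ f₂ M (pt x e) (pt y t) := by
    intro x e hx hxx he hee y t ht
    have hz : bform f₁ f₂ (pt x e) (pt x e) = 0 := by rw [bform_ptpt hl hr, hxx, zero_mul]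
    have hzt : ∀ p t, f₂ t e = 0 → bform f₁ f₂ (pt x e) (pt p t) = 0 := fun p t ht => by
      rw [bform_ptpt hl hr, hr.symm e t, ht, mul_zero]
    have hstep : ∀ x', f₁ x' x' = 0 → f₁ x x' ≠ 0 → ∀ t, f₂ t e = 0 → EM f₁ f₂ M (pt x e) (pt x' t) := by
      intro x' hxx' hne
      have hx' : x' ≠ 0 := fun h => hne (by rw [h, sym_zero_right hl])
      obtain ⟨e', he', hee', he'e⟩ := exists_partner_sym hr h2 he hee
      -- one conjugation
      have hμ : ∀ v u, f₂ v e = 0 → f₂ u e = 0 →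
          EM f₁ f₂ M (pt x e) (pt x u + f₁ x x' • pt x' (f₂ u e • v - f₂ u v • e)) := by
        intro v u hve hu
        obtain ⟨g, hg, hgv⟩ := hgood x' e hx' hxx' he hee v hve
        refine em_conj hl C hg (z := pt x e) ?_ ?_ (hgood x e hx hxx he hee u hu)
        · rw [hgv]
          simp [bform_ptpt hl hr, hr.symm e, hee, hve, hxx']
        · rw [hgv]
          simp only [bform_ptpt hl hr, hxx', zero_mul, zero_div, zero_mul, zero_smul, sub_zero, pt_sub_right,
            pt_smul_right, smul_sub, smul_smul]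
          abel
      obtain ⟨i, hi⟩ : ∃ i, i = (f₁ x x')⁻¹ := ⟨_, rfl⟩
      have hi' : f₁ x x' * i = 1 := hi ▸ mul_inv_cancel₀ hne
      have hbot : ∀ s : F, EM f₁ f₂ M (pt x e) (pt x' (s • e)) := by
        intro s
        obtain ⟨v, hve, -, hq⟩ := exists_aniso_pairW hr h2 hb hee he' hee'
        have hu : f₂ ((-(i * s) / f₂ v v) • v) e = 0 := by rw [hr.bilinear.smul_left, hve, mul_zero]
        have h1 := em_sub hl C hz ?_ (hzt x _ hu) (hμ v _ hve hu) (hgood x e hx hxx he hee _ hu)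
        · rw [add_sub_cancel_left, ← pt_smul_right] at h1
          refine cast (congrArg (fun q => EM f₁ f₂ M (pt x e) (pt x' q)) ?_) h1
          simp only [hu, zero_smul, zero_sub, smul_neg, smul_smul, ← neg_smul, hr.bilinear.smul_left]
          match_scalars
          · field_simp
            linear_combination s * hi'
        · rw [bform_add_right hl, hzt x _ hu, bform_smul_right hl, hzt _ _ (by
            simp only [sym_sub_left hr, hr.bilinear.smul_left, hve, hee]; ring), mul_zero, add_zero]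
      obtain ⟨α, hα, hαe⟩ := htrans x e e' hx hxx he hee hee'
      have hW : ∀ s, f₂ s e = 0 → f₂ s e' = 0 → EM f₁ f₂ M (pt x e) (pt x' s) := by
        intro s hse hse'
        obtain ⟨g, hg, hgv⟩ := hgood x' e hx' hxx' he hee ((α⁻¹ * i) • s)
          (by rw [hr.bilinear.smul_left, hse, mul_zero])
        have hw : bform f₁ f₂ (pt x e) (α • pt x e') = 0 := by
          rw [bform_smul_right hl, bform_ptpt hl hr, hxx, zero_mul, mul_zero]
        have h1 : EM f₁ f₂ M (pt x e) (α • pt x e' + pt x' s) := by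
          refine em_conj hl C hg (z := pt x e) ?_ ?_ hαe
          · rw [hgv]
            simp [bform_ptpt hl hr, hee, hr.symm e s, hse, hr.bilinear.smul_right]
          · rw [hgv]
            simp only [bform_smul_left hl, bform_smul_right hl, bform_ptpt hl hr, hxx', hr.bilinear.smul_right, hr.symm e' s, hse', he'e,
              zero_mul, mul_zero, zero_div, zero_smul, sub_zero, mul_one, pt_smul_right, smul_smul]
            match_scalars <;> field_simp
            linear_combination hi'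
        have h3 := em_sub hl C hz (by rw [bform_add_right hl, hw, hzt _ _ hse, add_zero]) hw h1 hαe
        rwa [add_sub_cancel_left] at h3
      intro t ht
      have h1 := em_add hl C hz (hzt x' _ (by rw [hr.bilinear.smul_left, hee, mul_zero]))
        (hzt x' _ (by rw [sym_sub_left hr, hr.bilinear.smul_left, ht, hee, mul_zero, sub_zero]))
        (hbot (f₂ t e'))
        (hW (t - f₂ t e' • e) (by rw [sym_sub_left hr, hr.bilinear.smul_left, ht, hee, mul_zero, sub_zero])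
          (by rw [sym_sub_left hr, hr.bilinear.smul_left, hee', mul_one, sub_self]))
      rwa [← pt_add_right, add_sub_cancel] at h1
    obtain ⟨S, hS⟩ : ∃ S : Submodule F (Fin a → F), ∀ y, y ∈ S ↔ ∀ c : F, EM f₁ f₂ M (pt x e) (pt y (c • t)) :=
      ⟨{ carrier := {y | ∀ c : F, EM f₁ f₂ M (pt x e) (pt y (c • t))}
         zero_mem' := fun c => by simpa [pt_zero_left] using em_zero hl C (pt x e)
         add_mem' := fun {p q} hp hq c => by
          rw [pt_add_left]
          exact em_add hl C hz (hzt _ _ (by rw [hr.bilinear.smul_left, ht, mul_zero]))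
            (hzt _ _ (by rw [hr.bilinear.smul_left, ht, mul_zero])) (hp c) (hq c)
         smul_mem' := fun d p hp c => by
          have := hp (d * c)
          rwa [mul_smul, pt_smul_right, ← pt_smul_left] at this }, fun y => Iff.rfl⟩
    have hyS := mem_of_nonorth hl h2 C.dim hx hxx (S := S)
      (fun x' h1 h1' => (hS x').mpr fun c => hstep x' h1 h1' _ (by rw [hr.bilinear.smul_left, ht, mul_zero])) y
    simpa using (hS y).mp hyS 1
  intro w hw
  have hz : bform f₁ f₂ (pt x e) (pt x e) = 0 := by rw [bform_ptpt hl hr, hxx, zero_mul]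
  obtain ⟨e', he', hee', he'e⟩ := exists_partner_sym hr h2 he hee
  obtain ⟨x₀, hx₀, hxx₀, hx₀x⟩ := exists_partner_sym hl h2 hx hxx
  obtain ⟨S, hS⟩ : ∃ S : AddSubgroup (Fin a × Fin b → F),
      ∀ v, v ∈ S ↔ bform f₁ f₂ (pt x e) v = 0 ∧ EM f₁ f₂ M (pt x e) v :=
    ⟨{ carrier := {v | bform f₁ f₂ (pt x e) v = 0 ∧ EM f₁ f₂ M (pt x e) v}
       zero_mem' := ⟨bform_zero_right hl _, em_zero hl C _⟩
       add_mem' := fun {p q} hp hq => ⟨by rw [bform_add_right hl, hp.1, hq.1, add_zero],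
        em_add hl C hz hp.1 hq.1 hp.2 hq.2⟩
       neg_mem' := fun {p} hp => ⟨by rw [← neg_one_smul F p, bform_smul_right hl, hp.1, mul_zero],
        em_neg hl C hz hp.1 hp.2⟩ }, fun v => Iff.rfl⟩
  have hmem : ∀ y t, f₂ t e = 0 → pt y t ∈ S := fun y t ht =>
    (hS _).mpr ⟨by rw [bform_ptpt hl hr, hr.symm e t, ht, mul_zero], hperp x e hx hxx he hee y t ht⟩
  -- the vectors `y ⊗ e'`
  have htop : ∀ y, f₁ x y = 0 → pt y e' ∈ S := by
    obtain ⟨s₀, hse, hse', hss⟩ := exists_aniso_pairW hr h2 hb hee he' hee'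
    obtain ⟨σ, hσ⟩ : ∃ σ, σ = f₂ s₀ s₀ / 2 := ⟨_, rfl⟩
    have hσ2 : f₂ s₀ s₀ = 2 * σ := by rw [hσ]; field_simp
    obtain ⟨p, hp⟩ : ∃ p, p = e' + s₀ - σ • e := ⟨_, rfl⟩
    obtain ⟨q, hq⟩ : ∃ q, q = e' + σ • e := ⟨_, rfl⟩
    have hse0 : f₂ e s₀ = 0 := by rw [hr.symm, hse]
    have hse0' : f₂ e' s₀ = 0 := by rw [hr.symm, hse']
    have hep : f₂ e p = 1 := by
      simp only [hp, sym_sub_right hr, hr.bilinear.add_right, hr.bilinear.smul_right, hee, hee', hse0]; ring
    have hpp : f₂ p p = 0 := by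
      simp only [hp, sym_sub_left hr, sym_sub_right hr, hr.bilinear.add_left, hr.bilinear.add_right,
        hr.bilinear.smul_left, hr.bilinear.smul_right, hee, hee', he', he'e, hse, hse', hse0, hse0', hσ2]
      ring
    have hqp : f₂ q p = 0 := by
      simp only [hp, hq, sym_sub_right hr, hr.bilinear.add_left, hr.bilinear.add_right,
        hr.bilinear.smul_left, hr.bilinear.smul_right, hee, hee', he', he'e, hse0, hse0']
      ring
    have hsp : f₂ s₀ p = 2 * σ := by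
      simp only [hp, sym_sub_right hr, hr.bilinear.add_right, hr.bilinear.smul_right, hse, hse', hσ2]; ring
    have hsq : f₂ s₀ q = 0 := by
      simp only [hq, hr.bilinear.add_right, hr.bilinear.smul_right, hse, hse']; ring
    have heq : f₂ e q = 1 := by
      simp only [hq, hr.bilinear.add_right, hr.bilinear.smul_right, hee, hee']; ring
    have hqq : f₂ q q = 2 * σ := by
      simp only [hq, hr.bilinear.add_left, hr.bilinear.add_right, hr.bilinear.smul_left, hr.bilinear.smul_right, hee,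
        hee', he', he'e]
      ring
    have hp0 : p ≠ 0 := fun h => by rw [h, sym_zero_right hr] at hep; exact zero_ne_one hep
    have hσ0 : σ ≠ 0 := hσ ▸ div_ne_zero hss h2
    have key : ∀ y, f₁ x y = 0 → ∀ μ : F, μ • pt y e' - (μ * σ * f₁ y y) • pt x e' ∈ S := by
      intro y hy μ
      obtain ⟨g, hg, hgv⟩ := hperp x p hx hxx hp0 hpp y q hqp
      obtain ⟨u₀, hu₀⟩ : ∃ u₀, u₀ = (μ / (2 * σ)) • s₀ := ⟨_, rfl⟩
      have hu₀e : f₂ u₀ e = 0 := by rw [hu₀, hr.bilinear.smul_left, hse, mul_zero]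
      have hu₀p : f₂ u₀ p = μ := by rw [hu₀, hr.bilinear.smul_left, hsp]; field_simp
      have hu₀q : f₂ u₀ q = 0 := by rw [hu₀, hr.bilinear.smul_left, hsq, mul_zero]
      have hge : g.val *ᵥ pt x e = pt x e := by
        rw [hgv]
        simp [bform_ptpt hl hr, hxx, hy]
      have hgu : g.val *ᵥ pt x₀ u₀ =
          pt x₀ u₀ + μ • pt y q - (μ * σ * f₁ y y) • pt x p := by
        rw [hgv]
        simp only [bform_ptpt hl hr, hx₀x, hu₀p, hu₀q, hqq, mul_zero, zero_smul, sub_zero]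
        match_scalars <;> field_simp
      have h1 : EM f₁ f₂ M (pt x e) (g.val *ᵥ pt x₀ u₀) :=
        em_conj hl C hg hge rfl ((hS _).mp (hmem x₀ u₀ hu₀e)).2
      have h3 : g.val *ᵥ pt x₀ u₀ ∈ S := (hS _).mpr ⟨by
        rw [← hge, isoM C hg, ((hS _).mp (hmem x₀ u₀ hu₀e)).1], h1⟩
      have h5 := S.add_mem (S.sub_mem (S.sub_mem h3 (hmem x₀ u₀ hu₀e))
        (hmem y ((μ * σ) • e) (by rw [hr.bilinear.smul_left, hee, mul_zero])))
        (hmem x ((μ * σ * f₁ y y) • (s₀ - σ • e)) (by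
          rw [hr.bilinear.smul_left, sym_sub_left hr, hr.bilinear.smul_left, hse, hee]; ring))
      convert h5 using 1
      rw [hgu, hp, hq]
      simp only [pt_sub_right, pt_add_right, pt_smul_right]
      module
    intro y hy
    have h1 := S.add_mem (key y hy 1) (key x hxx (σ * f₁ y y))
    rw [hxx] at h1
    convert h1 using 1
    module
  have hy : f₁ x (s2 f₂ e w) = 0 := by
    rw [hl.symm, ← bform_pto hl hr, bform_comm hl hr, hw]
  obtain ⟨P, hP⟩ : ∃ P, P = w - pt (s2 f₂ e w) e' := ⟨_, rfl⟩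
  have hPz : s2 f₂ e P = 0 := by rw [hP, map_sub, s2q hr, he'e, one_smul, sub_self]
  have hPS : P ∈ S := by
    have e1 : P = ∑ j, pt (fun i => P (i, j)) (Pi.single j 1 - f₂ (Pi.single j 1) e • e') := by
      have e2 : ∑ j, f₂ (Pi.single j 1) e • pt (fun i => P (i, j)) e' = pt (s2 f₂ e P) e' := by
        conv_rhs => rw [eq_sum_pt P, map_sum, ← ptL_apply, map_sum]
        exact Finset.sum_congr rfl fun j _ => by rw [s2q hr, map_smul]; rfl
      simp only [pt_sub_right, pt_smul_right, Finset.sum_sub_distrib, e2, hPz, pt_zero_left, sub_zero]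
      exact eq_sum_pt P
    rw [e1]
    exact S.sum_mem fun j _ => hmem _ _ (by rw [sym_sub_left hr, hr.bilinear.smul_left, he'e, mul_one, sub_self])
  have := S.add_mem hPS (htop _ hy)
  rw [hP, sub_add_cancel] at this
  exact ((hS w).mp this).2

/-- No root element of the second type lies in the group. -/
theorem no_root {x w : Fin a → F} {e : Fin b → F} (hx : x ≠ 0) (hxx : f₁ x x = 0) (hxw : f₁ x w = 0)
    (hw : f₁ w w ≠ 0) (he : e ≠ 0) (hee : f₂ e e = 0) : ¬ EM f₁ f₂ M (pt x e) (pt w e) := by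
  intro h
  have hl := C.left
  have hr := C.right
  have h2 := C.two
  have hb : 3 ≤ b := by have := C.four; omega
  obtain ⟨m, v, hm, hmv, hne⟩ := exists_move_nonorth hr h2 hb he hee
  obtain ⟨e₂, he₂⟩ : ∃ e₂, e₂ = eA f₂ m v *ᵥ e := ⟨_, rfl⟩
  rw [← he₂] at hne
  have hee₂ : f₂ e₂ e₂ = 0 := by rw [he₂, eA_iso hr h2 hm hmv, hee]
  -- the second root element and its commutator with the first
  have h₂ : EM f₁ f₂ M (pt x e₂) (pt w e₂) :=
    em_conj hl C (TB_mem C hm hmv) (by rw [TB_apply, he₂]) (by rw [TB_apply, he₂]) h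
  obtain ⟨g, hg, hgv⟩ := h
  obtain ⟨c, hc⟩ : ∃ c, c = f₁ w w * f₂ e e₂ := ⟨_, rfl⟩
  have hz₂ : bform f₁ f₂ (pt x e₂) (pt x e₂) = 0 := by rw [bform_ptpt hl hr, hxx, zero_mul]
  have hw₂ : bform f₁ f₂ (pt x e₂) (pt w e₂) = 0 := by rw [bform_ptpt hl hr, hxw, zero_mul]
  have h₃ : EM f₁ f₂ M (pt x e₂) (pt w e₂ - c • pt x e) := by
    refine em_conj hl C hg ?_ ?_ h₂
    · rw [hgv]
      simp [bform_ptpt hl hr, hxx, hl.symm w x, hxw, hee]
    · rw [hgv]
      simp only [bform_ptpt hl hr, hl.symm w x, hxw, hee, hc, hr.symm e₂ e, zero_mul, mul_zero, zero_smul, zero_div,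
        sub_zero, add_zero]
  have h₄ := em_sub hl C hz₂ (by rw [bform_sub_right hl, hw₂, bform_smul_right hl, bform_ptpt hl hr, hxx]; ring)
    hw₂ h₃ h₂
  rw [sub_sub, add_comm, ← sub_sub, sub_self, zero_sub] at h₄
  have hz : bform f₁ f₂ (c • pt x e) (c • pt x e) = 0 := by
    rw [bform_smul_left hl, bform_smul_right hl, bform_ptpt hl hr, hxx]; ring
  have h₅ := em_swap hl C hz₂ (by
    rw [← neg_one_smul F (c • pt x e), bform_smul_left hl, bform_smul_right hl, hz, mul_zero, mul_zero]) h₄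
  rw [← neg_smul] at h₅
  have h₆ := em_smul_left' hl C (-c) h₅
  rw [← neg_one_smul F (pt x e₂), smul_smul] at h₆
  have hc0 : c ≠ 0 := hc ▸ mul_ne_zero hw hne
  have hgood : ∀ x e, x ≠ 0 → f₁ x x = 0 → e ≠ 0 → f₂ e e = 0 → Good f₁ f₂ M x e := fun x' e' h1 h2' h3 h4 =>
    good_all C hx hxx he hee (mul_ne_zero (neg_ne_zero.mpr hc0) (neg_ne_zero.mpr one_ne_zero)) hne h₆ h1 h2' h3 h4
  have hseed := fun x' e' h1 h2' h3 h4 =>
    seed_all C hx hxx he hee (mul_ne_zero (neg_ne_zero.mpr hc0) (neg_ne_zero.mpr one_ne_zero)) hne h₆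
      (x' := x') (e' := e') h1 h2' h3 h4
  obtain ⟨x₀, hx₀, hxx₀, -⟩ := exists_partner_sym hl h2 hx hxx
  have he₂0 : e₂ ≠ 0 := fun h => hne (by rw [h, sym_zero_right hr])
  have hx₀0 : x₀ ≠ 0 := fun h => by rw [h, sym_zero_right hl] at hxx₀; exact zero_ne_one hxx₀
  exact C.ne ⟨pt x e, pt x₀ e₂, by rw [bform_ptpt hl hr, hxx, zero_mul], by rw [bform_ptpt hl hr, hx₀, zero_mul],
    by rwa [bform_ptpt hl hr, hxx₀, one_mul], efull_all C hgood hseed hx hxx he hee,
    efull_all C hgood hseed hx₀0 hx₀ he₂0 hee₂⟩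

/-- An element of the group moving vectors only along a singular pure subspace is trivial. -/
theorem no_shear {g : GL (Fin a × Fin b) F} (hg : g ∈ M) {e : Fin b → F} (he : e ≠ 0) (hee : f₂ e e = 0)
    {S : Matrix (Fin a) (Fin a) F} (hgv : ∀ v, g.val *ᵥ v = v + pt (S *ᵥ s2 f₂ e v) e) : S = 0 := by
  classical
  have hl := C.left
  have hr := C.right
  have h2 := C.two
  by_contra hS0
  have hes : ∀ p, s2 f₂ e (pt p e) = (0 : Fin a → F) := fun p => by rw [s2q hr, hee, zero_smul]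
  obtain ⟨P, hP⟩ : ∃ P : AddSubgroup (Matrix (Fin a) (Fin a) F), ∀ T, T ∈ P ↔
      ∃ g ∈ M, ∀ v, g.val *ᵥ v = v + pt (T *ᵥ s2 f₂ e v) e :=
    ⟨{ carrier := {T | ∃ g ∈ M, ∀ v, g.val *ᵥ v = v + pt (T *ᵥ s2 f₂ e v) e}
       zero_mem' := ⟨1, M.one_mem, fun v => by simp [pt_zero_left]⟩
       add_mem' := fun {p q} ⟨g, hg, hgp⟩ ⟨k, hk, hkq⟩ => ⟨g * k, M.mul_mem hg hk, fun v => by
        rw [Units.val_mul, ← mulVec_mulVec, hgp, hkq, map_add, hes, add_zero, add_mulVec, pt_add_left]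
        abel⟩
       neg_mem' := fun {p} ⟨g, hg, hgp⟩ => ⟨g⁻¹, M.inv_mem hg, fun v => mulVec_injective g (by
        simp only
        rw [Transvec.mulVec_inv_cancel, hgp, map_add, hes, add_zero, neg_mulVec, pt_neg_left]
        abel)⟩ }, fun T => Iff.rfl⟩
  have hskew : ∀ T ∈ P, ∀ p q, f₁ (T *ᵥ p) q = - f₁ p (T *ᵥ q) := by
    intro T hT p q
    obtain ⟨g, hg, hgT⟩ := (hP T).mp hT
    obtain ⟨e', he', hee', he'e⟩ := exists_partner_sym hr h2 he hee
    have h := isoM C hg (pt p e') (pt q e')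
    rw [hgT, hgT] at h
    simp only [s2q hr, he'e, one_smul, bform_add_left hl, bform_add_right hl, bform_ptpt hl hr, hee, he', hee',
      mul_one, mul_zero, add_zero, zero_add] at h
    linear_combination h
  have hTA : ∀ x y, f₁ x x = 0 → f₁ x y = 0 → ∀ T ∈ P, eA f₁ x y * T * eA f₁ x (-y) ∈ P := by
    intro x y hx hxy T hT
    obtain ⟨g, hg, hgT⟩ := (hP T).mp hT
    have hxy' : f₁ x (-y) = 0 := by rw [sym_neg_right hl, hxy, neg_zero]
    refine (hP _).mpr ⟨TA C hx hxy * g * TA C hx hxy', M.mul_mem (M.mul_mem (TA_mem C hx hxy) hg) (TA_mem C hx hxy'),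
      fun v => ?_⟩
    have hs : s2 f₂ e ((TA C hx hxy').val *ᵥ v) = eA f₁ x (-y) *ᵥ s2 f₂ e v := by
      have e1 := lin_ext (L := (s2 f₂ e).comp (Matrix.mulVecLin (TA C hx hxy').val))
        (L' := (Matrix.mulVecLin (eA f₁ x (-y))).comp (s2 f₂ e)) fun p u => by
          simp only [LinearMap.comp_apply, Matrix.mulVecLin_apply, TA_apply, s2q hr, mulVec_smul]
      exact LinearMap.congr_fun e1 v
    have hinv : (TA C hx hxy).val *ᵥ ((TA C hx hxy').val *ᵥ v) = v := by
      rw [eq_sum_pt v]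
      simp only [Matrix.mulVec_sum, TA_apply, mulVec_mulVec, eA_mul_neg hl h2 hx hxy, one_mulVec]
    rw [Units.val_mul, Units.val_mul, ← mulVec_mulVec, ← mulVec_mulVec, hgT, mulVec_add, hinv, TA_apply, hs,
      mulVec_mulVec, mulVec_mulVec]
  obtain ⟨p, hpF⟩ := CharP.exists F
  haveI : Fact p.Prime := ⟨CharP.char_is_prime F p⟩
  have hchar : ∀ {A : Type _} [AddCommGroup A] [Module F A] (z : A), p • z = 0 := fun z => by
    rw [← Nat.cast_smul_eq_nsmul F, CharP.cast_eq_zero, zero_smul]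
  obtain ⟨x, hx, hxx⟩ := exists_singular_sym hl h2 C.dim
  obtain ⟨x', hx', hxx', hx'x⟩ := exists_partner_sym hl h2 hx hxx
  have hPne : P ≠ ⊥ := fun h => hS0 (by
    have : S ∈ P := (hP S).mpr ⟨g, hg, hgv⟩
    rwa [h, AddSubgroup.mem_bot] at this)
  haveI : Finite (Matrix (Fin a) (Fin a) F) := inferInstanceAs (Finite (Fin a → Fin a → F))
  have hWx : ∀ w : perpIn f₁ ⊤ x, f₁ x w.1 = 0 := fun w => by
    rw [hl.symm]; exact ((mem_perpIn hl).mp w.2).2
  obtain ⟨T, hTP, hT0, hTfix⟩ := exists_fixed_point (A := Matrix (Fin a) (Fin a) F) (fun z => hchar z)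
    (W := perpIn f₁ ⊤ x) (fun z => hchar z) hPne (fun w T => eA f₁ x w.1 * T * eA f₁ x (-w.1))
    (fun T => by simp [eA_zero hl])
    (fun w w' T _ => by
      simp only [← Matrix.mul_assoc]
      rw [eA_mul hl h2 hxx (hWx w) (hWx w'), Matrix.mul_assoc _ (eA f₁ x (-w'.1)), eA_mul hl h2 hxx
        (by rw [sym_neg_right hl, hWx, neg_zero]) (by rw [sym_neg_right hl, hWx, neg_zero]), Submodule.coe_add,
        neg_add, add_comm (-w.1) (-w'.1)])
    (fun w => by simp) (fun w T hT => hTA x w.1 hxx (hWx w) T hT)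
  have hcom : ∀ y, f₁ x y = 0 → eA f₁ x y * T = T * eA f₁ x y := fun y hy => by
    have h := hTfix ⟨y, (mem_perpIn hl).mpr ⟨Submodule.mem_top, by rw [hl.symm, hy]⟩⟩
    have hn : eA f₁ x (-y) * eA f₁ x y = 1 := mul_eq_one_comm.mp (eA_mul_neg hl h2 hxx hy)
    conv_rhs => rw [← h]
    rw [Matrix.mul_assoc, hn, Matrix.mul_one]
  obtain ⟨v, hvx, hvx', hTv⟩ := skew_fixed hl h2 C.dim hxx hx' hxx' (hskew T hTP) hcom
  -- an anisotropic second vector
  have key : ∀ w, f₁ x w = 0 → f₁ w w ≠ 0 → ∀ T' ∈ P, (∀ z, T' *ᵥ z = f₁ z x • w - f₁ z w • x) → False := by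
    intro w hxw hw T' hT' hTw
    obtain ⟨g, hg, hgT⟩ := (hP T').mp hT'
    refine no_root C hx hxx hxw hw he hee ⟨g, hg, fun u => ?_⟩
    rw [hgT, hTw, bform_pto hl hr, bform_pto hl hr, bform_ptpt hl hr, hee, pt_sub_left, pt_smul_left, pt_smul_left]
    module
  by_cases hq : f₁ v v ≠ 0
  · exact key v (by rw [hl.symm, hvx]) hq T hTP hTv
  push Not at hq
  have hv0 : v ≠ 0 := fun h => hT0 (Matrix.ext_iff_mulVec.mpr fun z => by
    rw [hTv, h, sym_zero_right hl, smul_zero, zero_smul, sub_zero, zero_mulVec])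
  have ha : 5 ≤ a := by
    rcases C.shape with h | h | h
    · exfalso
      obtain ⟨y, hyx, hyx', hy⟩ := exists_aniso_pairW hl h2 C.dim hxx hx' hxx'
      have hvW : v ∈ pairW f₁ x x' := (mem_pairW hl).mpr ⟨hvx, hvx'⟩
      have hle : Submodule.span F {y} ≤ pairW f₁ x x' :=
        (Submodule.span_singleton_le_iff_mem _ _).mpr ((mem_pairW hl).mpr ⟨hyx, hyx'⟩)
      have hdim : Module.finrank F (pairW f₁ x x') ≤ 1 := by
        have hxs : x ∉ perpIn f₁ ⊤ x' := fun hm => by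
          have := ((mem_perpIn hl).mp hm).2
          rw [hxx'] at this
          exact one_ne_zero this
        have h1 : perpIn f₁ ⊤ x' < ⊤ := lt_of_le_of_ne le_top fun h0 => hxs (by rw [h0]; exact Submodule.mem_top)
        have h1' := Submodule.finrank_lt h1.ne
        have h2' : pairW f₁ x x' < perpIn f₁ ⊤ x' := by
          refine lt_of_le_of_ne (fun z hz => (mem_perpIn hl).mpr ⟨Submodule.mem_top, ((mem_pairW hl).mp hz).2⟩) ?_
          intro h0
          have : x' ∈ pairW f₁ x x' := h0 ▸ (mem_perpIn hl).mpr ⟨Submodule.mem_top, hx'⟩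
          have := ((mem_pairW hl).mp this).1
          rw [hx'x] at this
          exact one_ne_zero this
        have := Submodule.finrank_lt_finrank_of_lt h2'
        rw [Module.finrank_fin_fun] at h1'
        omega
      have hy0 : y ≠ 0 := fun h => hy (by rw [h, sym_zero_left hl])
      have heq := Submodule.eq_of_le_of_finrank_le hle (by rwa [finrank_span_singleton hy0])
      rw [← heq, Submodule.mem_span_singleton] at hvW
      obtain ⟨c, rfl⟩ := hvW
      rw [sym_quad_smul hl, mul_eq_zero, mul_self_eq_zero] at hq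
      exact hv0 (by rw [hq.resolve_right hy, zero_smul])
    · exact h
    · exfalso
      obtain ⟨c, rfl⟩ := Submodule.mem_span_singleton.mp (h x v hx hxx hq (by rw [hl.symm, hvx]))
      rw [hl.bilinear.smul_left, hxx', mul_one] at hvx'
      exact hv0 (by rw [hvx', zero_smul])
  obtain ⟨m, hm, hvm, hmv⟩ := exists_partner_sym hl h2 hv0 hq
  obtain ⟨n₀, hn₀⟩ : ∃ n₀, n₀ = m - f₁ m x • x' := ⟨_, rfl⟩
  have hn₀x : f₁ n₀ x = 0 := by rw [hn₀, sym_sub_left hl, hl.bilinear.smul_left, hx'x]; ring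
  have hvn₀ : f₁ v n₀ = 1 := by rw [hn₀, sym_sub_right hl, hl.bilinear.smul_right, hvx', hvm]; ring
  obtain ⟨n, hn⟩ : ∃ n, n = n₀ - (f₁ n₀ n₀ / 2) • v := ⟨_, rfl⟩
  have hnx : f₁ n x = 0 := by rw [hn, sym_sub_left hl, hl.bilinear.smul_left, hn₀x, hvx]; ring
  have hvn : f₁ v n = 1 := by rw [hn, sym_sub_right hl, hl.bilinear.smul_right, hvn₀, hq]; ring
  have hnn : f₁ n n = 0 := by
    rw [hn]
    simp only [sym_sub_left hl, sym_sub_right hl, hl.bilinear.smul_left, hl.bilinear.smul_right, hq, hvn₀,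
      hl.symm n₀ v]
    field_simp
    ring
  obtain ⟨x'', hx''⟩ : ∃ x'', x'' = x' - f₁ x' n • v := ⟨_, rfl⟩
  have hxW : x ∈ pairW f₁ v n := (mem_pairW hl).mpr ⟨by rw [hl.symm, hvx], by rw [hl.symm, hnx]⟩
  have hx''W : x'' ∈ pairW f₁ v n := by
    rw [mem_pairW hl, hx'', sym_sub_left hl, sym_sub_left hl, hl.bilinear.smul_left, hl.bilinear.smul_left, hq, hvn,
      hl.symm x' v, hvx']
    constructor <;> ring
  have hxx'' : f₁ x x'' = 1 := by rw [hx'', sym_sub_right hl, hl.bilinear.smul_right, hxx', hl.symm x v, hvx]; ring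
  have hx''q : f₁ x'' x'' = 0 := by
    rw [hx'']
    simp only [sym_sub_left hl, sym_sub_right hl, hl.bilinear.smul_left, hl.bilinear.smul_right, hq, hx',
      hl.symm x' v, hvx']
    ring
  obtain ⟨y, hyW, hy⟩ := exists_aniso hl h2
    (nd_perpIn_pair hl (nd_pairW hl hq hnn hvn) hxW hx''W hxx hx''q hxx'') (by
      have := finrank_pairW hl v n
      have := finrank_perpIn hl (pairW f₁ v n) x
      have := finrank_perpIn hl (perpIn f₁ (pairW f₁ v n) x) x''
      omega)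
  obtain ⟨hyW', -⟩ := (mem_perpIn hl).mp hyW
  obtain ⟨hyW'', hyx⟩ := (mem_perpIn hl).mp hyW'
  obtain ⟨hyv, hyn⟩ := (mem_pairW hl).mp hyW''
  have hny : f₁ n y = 0 := by rw [hl.symm, hyn]
  obtain ⟨w, hw⟩ : ∃ w, w = y - (f₁ y y / 2) • n := ⟨_, rfl⟩
  have hvy : f₁ v y = 0 := by rw [hl.symm, hyv]
  have hαv : eA f₁ n y *ᵥ v = v + w := by
    rw [eA_mulVec hl, hvn, hvy, hw]; module
  have hαx : eA f₁ n y *ᵥ x = x := eA_fix hl (by rw [hl.symm, hnx]) (by rw [hl.symm, hyx])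
  refine key w (by rw [hw, sym_sub_right hl, hl.bilinear.smul_right, hl.symm x y, hyx, hl.symm x n, hnx]; ring) ?_
    _ (P.sub_mem (hTA n y hnn hny T hTP) hTP) fun z => ?_
  · rw [hw]
    simp only [sym_sub_left hl, sym_sub_right hl, hl.bilinear.smul_left, hl.bilinear.smul_right, hnn, hny, hyn]
    simpa using hy
  · rw [sub_mulVec, ← mulVec_mulVec, ← mulVec_mulVec, hTv, hTv, mulVec_sub, mulVec_smul, mulVec_smul, hαv, hαx]
    have hiso : ∀ p, f₁ (eA f₁ n (-y) *ᵥ z) p = f₁ z (eA f₁ n y *ᵥ p) := fun p => by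
      rw [← eA_iso hl h2 hnn hny, mulVec_mulVec, eA_mul_neg hl h2 hnn hny, one_mulVec]
    rw [hiso, hiso, hαx, hαv, hl.bilinear.add_right]
    module

end CfsgLib.Classical22.TensorMax.OO
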