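/-
The filtration attached to two square-zero matrices and the unipotent group respecting it.
-/
import Cfsg.Agent.Lib.Transvec.Basic
import Mathlib.Algebra.CharP.Lemmas
import Mathlib.GroupTheory.PGroup

set_option autoImplicit false

namespace CfsgLib.Classical22.TensorMax.OO

open Matrix
open scoped MatrixGroups

variable {F : Type*} [Field F] {n : Type} [Fintype n] [DecidableEq n]

/-- The filtration generated by two matrices. -/
def chain (N K : Matrix n n F) (G : Submodule F (n → F)) : ℕ → Submodule F (n → F)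
  | 0 => G
  | j + 1 => (chain N K G j).map (Matrix.mulVecLin N) ⊔ (chain N K G j).map (Matrix.mulVecLin K)

variable {N K : Matrix n n F} {G : Submodule F (n → F)}

lemma chain_antitone (hN : ∀ v ∈ G, N *ᵥ v ∈ G) (hK : ∀ v ∈ G, K *ᵥ v ∈ G) :
    ∀ j, chain N K G (j + 1) ≤ chain N K G j := by
  intro j
  induction j with
  | zero =>
    refine sup_le ?_ ?_ <;> rintro _ ⟨v, hv, rfl⟩
    exacts [hN v hv, hK v hv]
  | succ j ih => exact sup_le_sup (Submodule.map_mono ih) (Submodule.map_mono ih)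

lemma map_mem_chain {j : ℕ} {v : n → F} (hv : v ∈ chain N K G j) :
    N *ᵥ v ∈ chain N K G (j + 1) ∧ K *ᵥ v ∈ chain N K G (j + 1) :=
  ⟨Submodule.mem_sup_left ⟨v, hv, rfl⟩, Submodule.mem_sup_right ⟨v, hv, rfl⟩⟩

lemma mem_chain_two (hN2 : N * N = 0) (hK2 : K * K = 0) {j : ℕ} {w : n → F} (hw : w ∈ chain N K G (j + 2)) :
    ∃ v ∈ chain N K G j, ∃ v' ∈ chain N K G j, w = N *ᵥ (K *ᵥ v) + K *ᵥ (N *ᵥ v') := by
  obtain ⟨_, ⟨p, hp, rfl⟩, _, ⟨q, hq, rfl⟩, rfl⟩ := Submodule.mem_sup.mp hw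
  obtain ⟨_, ⟨p₁, hp₁, rfl⟩, _, ⟨p₂, hp₂, rfl⟩, rfl⟩ := Submodule.mem_sup.mp hp
  obtain ⟨_, ⟨q₁, hq₁, rfl⟩, _, ⟨q₂, hq₂, rfl⟩, rfl⟩ := Submodule.mem_sup.mp hq
  refine ⟨p₂, hp₂, q₁, hq₁, ?_⟩
  simp only [Matrix.mulVecLin_apply, mulVec_add]
  rw [mulVec_mulVec _ N N, mulVec_mulVec _ K K, hN2, hK2, zero_mulVec, zero_mulVec, zero_add, add_zero]

lemma chain_le_pow (hN : ∀ v ∈ G, N *ᵥ v ∈ G) (hK : ∀ v ∈ G, K *ᵥ v ∈ G) (hN2 : N * N = 0) (hK2 : K * K = 0) :
    ∀ j, chain N K G (2 * j + 2) ≤ G.map (Matrix.mulVecLin ((N * K + K * N) ^ j)) := by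
  have hstep : ∀ j, chain N K G (j + 4) ≤ (chain N K G (j + 2)).map (Matrix.mulVecLin (N * K + K * N)) := by
    intro j w hw
    obtain ⟨v, hv, v', hv', rfl⟩ := mem_chain_two hN2 hK2 hw
    obtain ⟨p, hp, p', -, rfl⟩ := mem_chain_two hN2 hK2 hv
    obtain ⟨q, -, q', hq', rfl⟩ := mem_chain_two hN2 hK2 hv'
    have h1 := (map_mem_chain (map_mem_chain hp).2).1
    have h2 := (map_mem_chain (map_mem_chain hq').1).2
    refine ⟨N *ᵥ (K *ᵥ p) + K *ᵥ (N *ᵥ q'), add_mem h1 h2, ?_⟩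
    simp only [Matrix.mulVecLin_apply, add_mulVec, ← mulVec_mulVec, mulVec_add]
    have eN : ∀ z, N *ᵥ (N *ᵥ z) = 0 := fun z => by rw [mulVec_mulVec, hN2, zero_mulVec]
    have eK : ∀ z, K *ᵥ (K *ᵥ z) = 0 := fun z => by rw [mulVec_mulVec, hK2, zero_mulVec]
    simp only [eN, eK, mulVec_zero, add_zero, zero_add]
  intro j
  induction j with
  | zero =>
    intro w hw
    exact ⟨w, chain_antitone hN hK 0 (chain_antitone hN hK 1 hw), by simp⟩
  | succ j ih =>
    intro w hw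
    obtain ⟨v, hv, rfl⟩ := hstep (2 * j) (by rwa [show 2 * j + 4 = 2 * (j + 1) + 2 by ring])
    obtain ⟨u, hu, rfl⟩ := ih hv
    exact ⟨u, hu, by simp only [Matrix.mulVecLin_apply, mulVec_mulVec, pow_succ']⟩

/-- The invertible matrices acting trivially on the factors of the filtration. -/
def chainGroup (hN : ∀ v ∈ G, N *ᵥ v ∈ G) (hK : ∀ v ∈ G, K *ᵥ v ∈ G) : Subgroup (GL n F) where
  carrier := {h | ∀ j, ∀ v ∈ chain N K G j, h.val *ᵥ v - v ∈ chain N K G (j + 1)}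
  one_mem' j v _ := by simp
  mul_mem' {g h} hg hh j v hv := by
    have h1 := hh j v hv
    have h2 := chain_antitone hN hK (j + 1) (hg (j + 1) _ h1)
    have : (g * h).val *ᵥ v - v = (g.val *ᵥ (h.val *ᵥ v - v) - (h.val *ᵥ v - v)) + (h.val *ᵥ v - v) +
        (g.val *ᵥ v - v) := by
      rw [Units.val_mul, ← mulVec_mulVec, mulVec_sub]; abel
    rw [this]
    exact add_mem (add_mem h2 h1) (hg j v hv)
  inv_mem' {g} hg j v hv := by
    have hmaps : ∀ v ∈ chain N K G j, g.val *ᵥ v ∈ chain N K G j := fun v hv => by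
      have := add_mem (chain_antitone hN hK j (hg j v hv)) hv
      rwa [sub_add_cancel] at this
    have he : (chain N K G j).map (Matrix.mulVecLin g.val) = chain N K G j :=
      Submodule.eq_of_le_of_finrank_eq (Submodule.map_le_iff_le_comap.mpr hmaps)
        (Submodule.equivMapOfInjective (Matrix.mulVecLin g.val) (fun _ _ h => Transvec.mulVec_injective g (by simpa using h))
          (chain N K G j)).finrank_eq.symm
    obtain ⟨u, hu, rfl⟩ := he.ge hv
    rw [Matrix.mulVecLin_apply, Transvec.inv_mulVec_cancel, ← neg_sub]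
    exact neg_mem (hg j u hu)

lemma mem_chainGroup {hN : ∀ v ∈ G, N *ᵥ v ∈ G} {hK : ∀ v ∈ G, K *ᵥ v ∈ G} {h : GL n F}
    (e : h.val - 1 = N ∨ h.val - 1 = K) : h ∈ chainGroup hN hK := fun j v hv => by
  have : h.val *ᵥ v - v = (h.val - 1) *ᵥ v := by rw [sub_mulVec, one_mulVec]
  rw [this]
  rcases e with e | e <;> rw [e]
  exacts [(map_mem_chain hv).1, (map_mem_chain hv).2]

/-- Where the power of the sum of the products vanishes, elements of the filtration group have prime power order. -/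
lemma exists_pow_fix {p : ℕ} [Fact p.Prime] [CharP F p] [Nonempty n] {hN : ∀ v ∈ G, N *ᵥ v ∈ G}
    {hK : ∀ v ∈ G, K *ᵥ v ∈ G} (hN2 : N * N = 0) (hK2 : K * K = 0) {m : ℕ}
    (hS : ∀ v ∈ G, ((N * K + K * N) ^ m) *ᵥ v = 0) {h : GL n F} (hh : h ∈ chainGroup hN hK) :
    ∀ v ∈ G, (h ^ p ^ (2 * m + 2)).val *ᵥ v = v := by
  intro v hv
  have hpow : ∀ i, ((h.val - 1) ^ i) *ᵥ v ∈ chain N K G i := fun i => by
    induction i with
    | zero => simpa [chain] using hv
    | succ i ih =>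
      rw [pow_succ', ← mulVec_mulVec, sub_mulVec, one_mulVec]
      exact hh i _ ih
  have h0 : ((h.val - 1) ^ (2 * m + 2)) *ᵥ v = 0 := by
    obtain ⟨u, hu, hu'⟩ := chain_le_pow hN hK hN2 hK2 m (hpow _)
    rw [← hu', Matrix.mulVecLin_apply, hS u hu]
  obtain ⟨d, hd⟩ := Nat.exists_eq_add_of_le (Nat.lt_pow_self (n := 2 * m + 2) (Fact.out : p.Prime).one_lt).le
  have h1 : ((h.val - 1) ^ p ^ (2 * m + 2)) *ᵥ v = 0 := by
    rw [hd, add_comm, pow_add, ← mulVec_mulVec, h0, mulVec_zero]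
  rwa [sub_pow_char_pow_of_commute _ _ (Commute.one_right _), one_pow, sub_mulVec, one_mulVec, sub_eq_zero,
    ← Units.val_pow_eq_pow_val] at h1

end CfsgLib.Classical22.TensorMax.OO
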