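/-
Elements inducing shears along a singular pure subspace are tensor products.
-/
import Cfsg.Agent.Lib.Classical22.OrthOrthTensor.Closure

set_option autoImplicit false
set_option maxHeartbeats 800000

namespace CfsgLib.Classical22.TensorMax.OO

open Matrix Kronecker CfsgLib.Transvec CfsgLib.Classical22.TensorMax.SympO CfsgLib.Classical22.TensorMax.SpO
open scoped MatrixGroups

variable {F : Type*} [Field F] {a b : ℕ} {f₁ : (Fin a → F) → (Fin a → F) → F}
  {f₂ : (Fin b → F) → (Fin b → F) → F}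

section Vectors
variable [Fintype F] {k : ℕ} {f : (Fin k → F) → (Fin k → F) → F} (hf : Cfsg.Geo.IsSymmetricForm f) (h2 : (2 : F) ≠ 0)
include hf h2

/-- A second pair and an anisotropic vector orthogonal to both pairs. -/
lemma exists_second_pair (hk : 5 ≤ k) {p m e : Fin k → F} (hpp : f p p = 0) (hmm : f m m = 0) (hpm : f p m = 1)
    (he : e ≠ 0) (hee : f e e = 0) (hep : f e p = 0) (hem : f e m = 0) :
    ∃ y, f y p = 0 ∧ f y m = 0 ∧ f y e = 0 ∧ f y y ≠ 0 := by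
  obtain ⟨e', he', hee', -⟩ := exists_partner_sym hf h2 he hee
  obtain ⟨q, hq⟩ : ∃ q, q = e' - f e' m • p - f e' p • m := ⟨_, rfl⟩
  have hqp : f q p = 0 := by
    rw [hq, sym_sub_left hf, sym_sub_left hf, hf.bilinear.smul_left, hf.bilinear.smul_left, hpp, hf.symm m p, hpm]
    ring
  have hqm : f q m = 0 := by
    rw [hq, sym_sub_left hf, sym_sub_left hf, hf.bilinear.smul_left, hf.bilinear.smul_left, hmm, hpm]
    ring
  have heq : f e q = 1 := by
    rw [hq, sym_sub_right hf, sym_sub_right hf, hf.bilinear.smul_right, hf.bilinear.smul_right, hep, hem, hee']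
    ring
  obtain ⟨n, hn⟩ : ∃ n, n = q - (f q q / 2) • e := ⟨_, rfl⟩
  have hnW : n ∈ pairW f p m := by
    rw [mem_pairW hf, hn, sym_sub_left hf, sym_sub_left hf, hf.bilinear.smul_left, hf.bilinear.smul_left, hqp, hqm,
      hep, hem]
    constructor <;> ring
  have heW : e ∈ pairW f p m := (mem_pairW hf).mpr ⟨hep, hem⟩
  have hen : f e n = 1 := by rw [hn, sym_sub_right hf, hf.bilinear.smul_right, hee, heq, mul_zero, sub_zero]
  have hnn : f n n = 0 := by
    rw [hn]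
    simp only [sym_sub_left hf, sym_sub_right hf, hf.bilinear.smul_left, hf.bilinear.smul_right, hee, heq, hf.symm q e]
    field_simp
    ring
  obtain ⟨y, hy, hqy⟩ := exists_aniso hf h2 (nd_perpIn_pair hf (nd_pairW hf hpp hmm hpm) heW hnW hee hnn hen) (by
    have := finrank_pairW hf p m
    have := finrank_perpIn hf (pairW f p m) e
    have := finrank_perpIn hf (perpIn f (pairW f p m) e) n
    omega)
  obtain ⟨hy', -⟩ := (mem_perpIn hf).mp hy
  obtain ⟨hy'', hye⟩ := (mem_perpIn hf).mp hy'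
  exact ⟨y, ((mem_pairW hf).mp hy'').1, ((mem_pairW hf).mp hy'').2, hye, hqy⟩

omit [Fintype F] h2 in
/-- With no singular line, the perpendicular of a hyperbolic pair is anisotropic. -/
lemma eq_zero_of_pairW_singular
    (hres : ∀ x y, x ≠ 0 → f x x = 0 → f y y = 0 → f x y = 0 → y ∈ Submodule.span F {x}) {e e' w : Fin k → F}
    (hee : f e e = 0) (hee' : f e e' = 1) (hwe : f w e = 0) (hwe' : f w e' = 0) (hww : f w w = 0) : w = 0 := by
  have he : e ≠ 0 := fun h => by rw [h, sym_zero_left hf] at hee'; exact zero_ne_one hee'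
  obtain ⟨c, rfl⟩ := Submodule.mem_span_singleton.mp (hres e w he hee hww (by rw [hf.symm, hwe]))
  rw [hf.bilinear.smul_left, hee', mul_one] at hwe'
  rw [hwe', zero_smul]

/-- A hyperbolic pair and two orthogonal vectors form a frame in dimension four. -/
lemma exists_frame_four (hk : k = 4) {e e' : Fin k → F} (hee : f e e = 0) (he' : f e' e' = 0) (hee' : f e e' = 1) :
    ∃ z₁ z₂, f z₁ e = 0 ∧ f z₁ e' = 0 ∧ f z₂ e = 0 ∧ f z₂ e' = 0 ∧ f z₁ z₂ = 0 ∧ f z₁ z₁ ≠ 0 ∧ f z₂ z₂ ≠ 0 ∧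
      ∀ u, u = f u e' • e + f u e • e' + (f u z₁ / f z₁ z₁) • z₁ + (f u z₂ / f z₂ z₂) • z₂ := by
  obtain ⟨z₁, hz₁, hq₁⟩ := exists_aniso hf h2 (nd_pairW hf hee he' hee') (by have := finrank_pairW hf e e'; omega)
  obtain ⟨z₂, hz₂, hq₂⟩ := exists_aniso hf h2 (nd_perpIn hf (nd_pairW hf hee he' hee') hz₁ hq₁)
    (by have := finrank_pairW hf e e'; have := finrank_perpIn hf (pairW f e e') z₁; omega)
  obtain ⟨hz₂', h21⟩ := (mem_perpIn hf).mp hz₂
  obtain ⟨h1e, h1e'⟩ := (mem_pairW hf).mp hz₁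
  obtain ⟨h2e, h2e'⟩ := (mem_pairW hf).mp hz₂'
  have h12 : f z₁ z₂ = 0 := by rw [hf.symm, h21]
  have he'e : f e' e = 1 := by rw [hf.symm, hee']
  have hs1 : f e z₁ = 0 ∧ f e' z₁ = 0 ∧ f e z₂ = 0 ∧ f e' z₂ = 0 :=
    ⟨by rw [hf.symm, h1e], by rw [hf.symm, h1e'], by rw [hf.symm, h2e], by rw [hf.symm, h2e']⟩
  obtain ⟨s1, s2, s3, s4⟩ := hs1
  refine ⟨z₁, z₂, h1e, h1e', h2e, h2e', h12, hq₁, hq₂, fun u => ?_⟩
  obtain ⟨r, hr⟩ : ∃ r, r = u - (f u e' • e + f u e • e' + (f u z₁ / f z₁ z₁) • z₁ + (f u z₂ / f z₂ z₂) • z₂) :=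
    ⟨_, rfl⟩
  have hli : LinearIndependent F ![e, e', z₁, z₂] := by
    rw [Fintype.linearIndependent_iff]
    intro c hc
    simp only [Fin.sum_univ_four, Matrix.cons_val_zero, Matrix.cons_val_one, Matrix.cons_val] at hc
    have k0 := congrArg (fun v => f v e') hc
    have k1 := congrArg (fun v => f v e) hc
    have k2 := congrArg (fun v => f v z₁) hc
    have k3 := congrArg (fun v => f v z₂) hc
    simp only [hf.bilinear.add_left, hf.bilinear.smul_left, hee, he', hee', he'e, h1e, h1e', h2e, h2e', h12, h21, s1,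
      s2, s3, s4, sym_zero_left hf, mul_zero, mul_one, zero_add, add_zero, mul_eq_zero, hq₁, hq₂, or_false]
      at k0 k1 k2 k3
    intro i
    fin_cases i <;> assumption
  have hspan := hli.span_eq_top_of_card_eq_finrank (by rw [Fintype.card_fin, Module.finrank_fin_fun, hk])
  have hperp : ∀ p ∈ Submodule.span F (Set.range ![e, e', z₁, z₂]), f r p = 0 := by
    intro p hp
    induction hp using Submodule.span_induction with
    | mem p hp =>
      obtain ⟨i, rfl⟩ := hp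
      rw [hr]
      fin_cases i <;>
        simp [sym_sub_left hf, hf.bilinear.add_left, hf.bilinear.smul_left, hee, he', hee', he'e, h1e, h1e', h2e,
          h2e', h12, h21, s1, s2, s3, s4, hq₁, hq₂]
    | zero => exact sym_zero_right hf _
    | add p q _ _ hp hq => rw [hf.bilinear.add_right, hp, hq, add_zero]
    | smul c p _ hp => rw [hf.bilinear.smul_right, hp, mul_zero]
  have h0 : r = 0 := sym_eq hf fun p => by rw [hperp p (hspan ▸ Submodule.mem_top), sym_zero_left hf]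
  rw [hr, sub_eq_zero] at h0
  exact h0

/-- The singular vectors orthogonal to a singular vector span its perpendicular. -/
lemma mem_of_singular_perp (hk : 5 ≤ k) {e : Fin k → F} (he : e ≠ 0) (hee : f e e = 0)
    {S : Submodule F (Fin k → F)} (hS : ∀ p, f p p = 0 → f p e = 0 → p ∈ S) {u : Fin k → F} (hu : f u e = 0) :
    u ∈ S := by
  obtain ⟨e', he', hee', -⟩ := exists_partner_sym hf h2 he hee
  obtain ⟨r, r', hrr, hrr', hpair, hre, -, hr'e, -⟩ := exists_pair_pairW hf h2 hk hee he' hee'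
  obtain ⟨z, hz⟩ : ∃ z, z = u - f u r' • r - f u r • r' := ⟨_, rfl⟩
  have hze : f z e = 0 := by
    simp only [hz, sym_sub_left hf, hf.bilinear.smul_left, hre, hr'e, hu]; ring
  have hzr : f z r = 0 := by
    simp only [hz, sym_sub_left hf, hf.bilinear.smul_left, hrr, hf.symm r' r, hpair]; ring
  have hzr' : f z r' = 0 := by
    simp only [hz, sym_sub_left hf, hf.bilinear.smul_left, hrr', hpair]; ring
  have hr : r ∈ S := hS r hrr hre
  have hr' : r' ∈ S := hS r' hrr' hr'e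
  obtain ⟨c, hc⟩ : ∃ c, c = f z z / 2 := ⟨_, rfl⟩
  have h1 : z - c • r + r' ∈ S := by
    refine hS _ ?_ ?_
    · simp only [sym_quad_add hf, sym_sub_left hf, sym_sub_right hf, hf.bilinear.smul_left, hf.bilinear.smul_right,
        hrr, hrr', hzr, hzr', hpair, hf.symm r z, hc]
      field_simp
      ring
    · rw [hf.bilinear.add_left, sym_sub_left hf, hf.bilinear.smul_left, hze, hre, hr'e]; ring
  rw [show u = (z - c • r + r') + (c + f u r') • r + (f u r - 1) • r' by rw [hz]; module]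
  exact S.add_mem (S.add_mem h1 (S.smul_mem _ hr)) (S.smul_mem _ hr')

end Vectors

section Perp
variable (hl : Cfsg.Geo.IsSymmetricForm f₁) (hr : Cfsg.Geo.IsSymmetricForm f₂)
include hr

/-- Maps agreeing on `A ⊗ e⊥` agree on the kernel of the contraction at `e`. -/
lemma lin_ext_perp {W : Type*} [AddCommGroup W] [Module F W] {L L' : (Fin a × Fin b → F) →ₗ[F] W}
    {e e' : Fin b → F} (he'e : f₂ e' e = 1) (h : ∀ x u, f₂ u e = 0 → L (pt x u) = L' (pt x u))
    {v : Fin a × Fin b → F} (hv : s2 f₂ e v = 0) : L v = L' v := by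
  have e1 : v = ∑ j, pt (fun i => v (i, j)) (Pi.single j 1 - f₂ (Pi.single j 1) e • e') := by
    have e2 : ∑ j, f₂ (Pi.single j 1) e • pt (fun i => v (i, j)) e' = pt (s2 f₂ e v) e' := by
      conv_rhs => rw [eq_sum_pt v, map_sum, ← ptL_apply, map_sum]
      exact Finset.sum_congr rfl fun j _ => by rw [s2q hr, map_smul]; rfl
    simp only [pt_sub_right, pt_smul_right, Finset.sum_sub_distrib, e2, hv, pt_zero_left, sub_zero]
    exact eq_sum_pt v
  rw [e1, map_sum, map_sum]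
  exact Finset.sum_congr rfl fun j _ =>
    h _ _ (by rw [sym_sub_left hr, hr.bilinear.smul_left, he'e, mul_one, sub_self])

include hl

lemma s2_of_fix {g : GL (Fin a × Fin b) F} (hg : Iso f₁ f₂ g) {e : Fin b → F}
    (h : ∀ x, g.val *ᵥ pt x e = pt x e) (v : Fin a × Fin b → F) : s2 f₂ e (g.val *ᵥ v) = s2 f₂ e v :=
  sym_eq hl fun p => s2_imageo hl hr hg (h p) v

end Perp

variable [Fintype F] {Ω M : Subgroup (GL (Fin a × Fin b) F)} (C : Ctx f₁ f₂ Ω M)
include C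

/-- Elements of the group are determined by their action on `A ⊗ e⊥`. -/
theorem eq_of_perp {g g' : GL (Fin a × Fin b) F} (hg : g ∈ M) (hg' : g' ∈ M) {e : Fin b → F} (he : e ≠ 0)
    (hee : f₂ e e = 0) (h : ∀ x u, f₂ u e = 0 → g.val *ᵥ pt x u = g'.val *ᵥ pt x u) : g = g' := by
  have hl := C.left
  have hr := C.right
  obtain ⟨e', he', hee', he'e⟩ := exists_partner_sym hr C.two he hee
  obtain ⟨k, hkdef⟩ : ∃ k, k = g'⁻¹ * g := ⟨_, rfl⟩
  have hk : k ∈ M := hkdef ▸ M.mul_mem (M.inv_mem hg') hg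
  have hfix : ∀ x u, f₂ u e = 0 → k.val *ᵥ pt x u = pt x u := fun x u hu => by
    rw [hkdef, Units.val_mul, ← mulVec_mulVec, h x u hu, Transvec.inv_mulVec_cancel]
  obtain ⟨S, hS⟩ : ∃ S : Matrix (Fin a) (Fin a) F, ∀ y, S *ᵥ y = s2 f₂ e' (k.val *ᵥ pt y e' - pt y e') :=
    ⟨LinearMap.toMatrix' ((s2 f₂ e').comp ((Matrix.mulVecLin k.val - LinearMap.id).comp (ptL e'))), fun y => by
      rw [LinearMap.toMatrix'_mulVec]; rfl⟩
  have hkv : ∀ v, k.val *ᵥ v = v + pt (S *ᵥ s2 f₂ e v) e := fun v => by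
    have h1 : k.val *ᵥ (v - pt (s2 f₂ e v) e') = v - pt (s2 f₂ e v) e' :=
      lin_ext_perp hr (L := Matrix.mulVecLin k.val) (L' := LinearMap.id) he'e hfix
        (by rw [map_sub, s2q hr, he'e, one_smul, sub_self])
    have h3 : k.val *ᵥ pt (s2 f₂ e v) e' - pt (s2 f₂ e v) e' = pt (S *ᵥ s2 f₂ e v) e := by
      rw [hS]
      refine mem_pure_of_s2o hr hee' fun w hw => ?_
      rw [map_sub, sub_eq_zero]
      exact sym_eq hl fun p => s2_imageo hl hr (isoM C hk) (hfix p w (by rw [hr.symm, hw])) _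
    rw [mulVec_sub] at h1
    rw [← h3]
    linear_combination (norm := abel) h1
  rw [no_shear C hk he hee hkv] at hkv
  have h1 : k = 1 := Transvec.gl_ext fun v => by
    rw [hkv, zero_mulVec, pt_zero_left, add_zero, Units.val_one, one_mulVec]
  rw [hkdef, inv_mul_eq_one] at h1
  exact h1.symm

/-- The single component of an element shearing along `e` commutes with the translations. -/
theorem shear_adjoint {g : GL (Fin a × Fin b) F} (hg : g ∈ M) {e : Fin b → F} (he : e ≠ 0) (hee : f₂ e e = 0)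
    (hfix : ∀ x, g.val *ᵥ pt x e = pt x e) (hsh : ∀ u, f₂ u e = 0 → ∀ x, ∃ y, g.val *ᵥ pt x u = pt x u + pt y e)
    {d : Fin b → F} (hd : f₂ d e = 0) {K : Matrix (Fin a) (Fin a) F}
    (hK : ∀ x, g.val *ᵥ pt x d = pt x d + pt (K *ᵥ x) e) (p q : Fin a → F) : f₁ (K *ᵥ p) q = f₁ p (K *ᵥ q) := by
  have hl := C.left
  have hr := C.right
  obtain ⟨e', he', hee', he'e⟩ := exists_partner_sym hr C.two he hee
  have hed : f₂ e d = 0 := by rw [hr.symm, hd]
  have hcom : g * TB C hee hed = TB C hee hed * g :=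
    eq_of_perp C (M.mul_mem hg (TB_mem C hee hed)) (M.mul_mem (TB_mem C hee hed) hg) he hee fun x u hu => by
      obtain ⟨y, hy⟩ := hsh u hu x
      rw [Units.val_mul, Units.val_mul, ← mulVec_mulVec, ← mulVec_mulVec, TB_apply, hy, mulVec_add, TB_apply,
        TB_apply, eA_mulVec hr, eA_mulVec hr e d e, hu, hee, hed]
      simp only [zero_smul, mul_zero, sub_zero, add_zero, pt_sub_right, pt_smul_right, mulVec_sub, mulVec_smul, hy,
        hfix]
      abel
  have h := congrArg (fun k : GL (Fin a × Fin b) F => k.val *ᵥ pt p e') hcom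
  simp only [Units.val_mul, ← mulVec_mulVec] at h
  rw [TB_apply, TB_vec, eA_mulVec hr, he'e, one_smul, s2_of_fix hl hr (isoM C hg) hfix, s2q hr, he'e,
    one_smul] at h
  simp only [pt_sub_right, pt_add_right, pt_smul_right, mulVec_sub, mulVec_add, mulVec_smul, hK, hfix] at h
  have h1 : pt (K *ᵥ p) e = f₂ e' d • pt p e - pt (s2 f₂ d (g.val *ᵥ pt p e')) e := by
    linear_combination (norm := module) h
  rw [← pt_smul_left, ← pt_sub_left] at h1
  have h2 := pt_injective he h1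
  have h3 := isoM C hg (pt p e') (pt q d)
  rw [hK, bform_add_right hl, bform_pto hl hr, bform_pto hl hr, s2_of_fix hl hr (isoM C hg) hfix, s2q hr, he'e,
    one_smul, bform_ptpt hl hr] at h3
  rw [h2, sym_sub_left hl, hl.bilinear.smul_left]
  linear_combination -h3

/-- In dimension four the components of a shear are scalar. -/
theorem scal_four (hb : b = 4) (hres : ∀ x y, x ≠ 0 → f₂ x x = 0 → f₂ y y = 0 → f₂ x y = 0 →
      y ∈ Submodule.span F {x}) {g : GL (Fin a × Fin b) F} (hg : g ∈ M) {e : Fin b → F} (he : e ≠ 0)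
    (hee : f₂ e e = 0) (hfix : ∀ x, g.val *ᵥ pt x e = pt x e) {L : (Fin b → F) →ₗ[F] Matrix (Fin a) (Fin a) F}
    (hLg : ∀ u, f₂ u e = 0 → ∀ x, g.val *ᵥ pt x u = pt x u + pt (L u *ᵥ x) e) {u : Fin b → F}
    (hu : f₂ u e = 0) : ∃ c : F, L u = c • 1 := by
  classical
  have hl := C.left
  have hr := C.right
  have h2 := C.two
  obtain ⟨e', he', hee', he'e⟩ := exists_partner_sym hr h2 he hee
  obtain ⟨z₁, z₂, h1e, h1e', h2e, h2e', h12, hq₁, hq₂, hexp⟩ := exists_frame_four hr h2 hb hee he' hee'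
  have h21 : f₂ z₂ z₁ = 0 := by rw [hr.symm, h12]
  have he1 : f₂ e z₁ = 0 := by rw [hr.symm, h1e]
  have he2 : f₂ e z₂ = 0 := by rw [hr.symm, h2e]
  have hLe : L e = 0 := Matrix.ext_iff_mulVec.mpr fun x => by
    have h := hLg e hee x
    rw [hfix, left_eq_add] at h
    rw [zero_mulVec, pt_eq_zero he h]
  -- the components
  obtain ⟨N, hN⟩ : ∃ N : Matrix (Fin a) (Fin a) F × Matrix (Fin a) (Fin a) F → (Fin b → F) →
      Matrix (Fin a) (Fin a) F, ∀ G u, N G u = f₂ u z₁ • G.1 + f₂ u z₂ • G.2 := ⟨_, fun G u => rfl⟩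
  have hNe : ∀ G, N G e = 0 := fun G => by rw [hN, he1, he2]; simp
  obtain ⟨Rad, hRad⟩ : ∃ Rad : Matrix (Fin a) (Fin a) F × Matrix (Fin a) (Fin a) F → Prop, ∀ G, Rad G ↔
      ∃ k ∈ M, ∀ x u, f₂ u e = 0 → k.val *ᵥ pt x u = pt x u + pt (N G u *ᵥ x) e := ⟨_, fun G => Iff.rfl⟩
  have hkfix : ∀ {G} {k : GL (Fin a × Fin b) F},
      (∀ x u, f₂ u e = 0 → k.val *ᵥ pt x u = pt x u + pt (N G u *ᵥ x) e) → ∀ x, k.val *ᵥ pt x e = pt x e :=
    fun hk x => by rw [hk x e hee, hNe, zero_mulVec, pt_zero_left, add_zero]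
  obtain ⟨P, hP⟩ : ∃ P : AddSubgroup (Matrix (Fin a) (Fin a) F × Matrix (Fin a) (Fin a) F), ∀ G, G ∈ P ↔ Rad G :=
    ⟨{ carrier := {G | Rad G}
       zero_mem' := (hRad _).mpr ⟨1, M.one_mem, fun x u _ => by simp [hN, pt_zero_left]⟩
       add_mem' := fun {G G'} hG hG' => by
        obtain ⟨k, hk, hkG⟩ := (hRad _).mp hG
        obtain ⟨k', hk', hkG'⟩ := (hRad _).mp hG'
        refine (hRad _).mpr ⟨k * k', M.mul_mem hk hk', fun x u hu => ?_⟩
        rw [Units.val_mul, ← mulVec_mulVec, hkG' x u hu, mulVec_add, hkG x u hu, hkfix hkG, add_assoc, ← pt_add_left,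
          ← add_mulVec]
        congr 3
        simp only [hN, Prod.fst_add, Prod.snd_add, smul_add]
        abel
       neg_mem' := fun {G} hG => by
        obtain ⟨k, hk, hkG⟩ := (hRad _).mp hG
        refine (hRad _).mpr ⟨k⁻¹, M.inv_mem hk, fun x u hu => mulVec_injective k ?_⟩
        simp only
        rw [Transvec.mulVec_inv_cancel, mulVec_add, hkG x u hu, hkfix hkG, hN, hN, Prod.fst_neg, Prod.snd_neg,
          smul_neg, smul_neg, ← neg_add, neg_mulVec, pt_neg_left]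
        abel }, fun G => Iff.rfl⟩
  -- the given shear
  have hN0 : ∀ u, f₂ u e = 0 → N ((f₂ z₁ z₁)⁻¹ • L z₁, (f₂ z₂ z₂)⁻¹ • L z₂) u = L u := fun u hu => by
    conv_rhs => rw [hexp u, hu]
    simp only [map_add, map_smul, hLe, hN, smul_zero, zero_smul, map_zero, zero_add, smul_smul, div_eq_mul_inv]
  have hg0 : ((f₂ z₁ z₁)⁻¹ • L z₁, (f₂ z₂ z₂)⁻¹ • L z₂) ∈ P :=
    (hP _).mpr ((hRad _).mpr ⟨g, hg, fun x u hu => by rw [hN0 u hu, hLg u hu]⟩)
  have hadj : ∀ G ∈ P, (∀ x y, f₁ (G.1 *ᵥ x) y = f₁ x (G.1 *ᵥ y)) ∧ ∀ x y, f₁ (G.2 *ᵥ x) y = f₁ x (G.2 *ᵥ y) := by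
    intro G hG
    obtain ⟨k, hk, hkG⟩ := (hRad _).mp ((hP G).mp hG)
    have h := fun (d : Fin b → F) (hd : f₂ d e = 0) => shear_adjoint C hk he hee (hkfix hkG)
      (fun u hu x => ⟨_, hkG x u hu⟩) hd (K := N G d) (fun x => hkG x d hd)
    constructor <;> intro x y
    · have h' := h z₁ h1e x y
      rw [hN, h12, zero_smul, add_zero, smul_mulVec, smul_mulVec, hl.bilinear.smul_left,
        hl.bilinear.smul_right] at h'
      exact mul_left_cancel₀ hq₁ h'
    · have h' := h z₂ h2e x y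
      rw [hN, h21, zero_smul, zero_add, smul_mulVec, smul_mulVec, hl.bilinear.smul_left,
        hl.bilinear.smul_right] at h'
      exact mul_left_cancel₀ hq₂ h'
  have hscalar : ∀ s t : F, (s • (1 : Matrix (Fin a) (Fin a) F), t • (1 : Matrix (Fin a) (Fin a) F)) ∈ P := by
    intro s t
    obtain ⟨w, hw⟩ : ∃ w, w = (-s) • z₁ + (-t) • z₂ := ⟨_, rfl⟩
    have hew : f₂ e w = 0 := by
      rw [hw, hr.bilinear.add_right, hr.bilinear.smul_right, hr.bilinear.smul_right, he1, he2]; ring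
    refine (hP _).mpr ((hRad _).mpr ⟨TB C hee hew, TB_mem C hee hew, fun x u hu => ?_⟩)
    rw [TB_apply, eA_mulVec hr, hu, hN, hw, hr.bilinear.add_right, hr.bilinear.smul_right, hr.bilinear.smul_right,
      smul_smul, smul_smul, ← add_smul, smul_mulVec, one_mulVec, pt_smul_left]
    simp only [zero_smul, mul_zero, sub_zero, add_zero, pt_sub_right, pt_smul_right]
    module
  have hTA : ∀ x y, f₁ x x = 0 → f₁ x y = 0 → ∀ G ∈ P,
      (eA f₁ x y * G.1 * eA f₁ x (-y), eA f₁ x y * G.2 * eA f₁ x (-y)) ∈ P := by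
    intro x y hx hxy G hG
    obtain ⟨k, hk, hkG⟩ := (hRad _).mp ((hP G).mp hG)
    have hxy' : f₁ x (-y) = 0 := by rw [sym_neg_right hl, hxy, neg_zero]
    refine (hP _).mpr ((hRad _).mpr ⟨TA C hx hxy * k * TA C hx hxy',
      M.mul_mem (M.mul_mem (TA_mem C hx hxy) hk) (TA_mem C hx hxy'), fun z u hu => ?_⟩)
    rw [Units.val_mul, Units.val_mul, ← mulVec_mulVec, ← mulVec_mulVec, TA_apply, hkG _ u hu, mulVec_add, TA_apply,
      TA_apply, mulVec_mulVec, eA_mul_neg hl h2 hx hxy, one_mulVec, mulVec_mulVec, mulVec_mulVec, hN, hN]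
    simp only [Matrix.mul_add, Matrix.add_mul, mul_smul_comm, smul_mul_assoc, ← Matrix.mul_assoc]
  -- the components of two shears
  have hcomm : ∀ G ∈ P, ∀ G' ∈ P, ∀ y,
      f₂ z₁ z₁ • (G.1 *ᵥ (G'.1 *ᵥ y)) + f₂ z₂ z₂ • (G.2 *ᵥ (G'.2 *ᵥ y)) =
        f₂ z₁ z₁ • (G'.1 *ᵥ (G.1 *ᵥ y)) + f₂ z₂ z₂ • (G'.2 *ᵥ (G.2 *ᵥ y)) := by
    intro G hG G' hG' y
    obtain ⟨k, hk, hkG⟩ := (hRad _).mp ((hP G).mp hG)
    obtain ⟨k', hk', hkG'⟩ := (hRad _).mp ((hP G').mp hG')
    have hcom : k * k' = k' * k := eq_of_perp C (M.mul_mem hk hk') (M.mul_mem hk' hk) he hee fun x u hu => by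
      rw [Units.val_mul, Units.val_mul, ← mulVec_mulVec, ← mulVec_mulVec, hkG' x u hu, hkG x u hu, mulVec_add,
        mulVec_add, hkG x u hu, hkG' x u hu, hkfix hkG, hkfix hkG']
      abel
    obtain ⟨v, hv⟩ : ∃ v, v = pt y e' := ⟨_, rfl⟩
    have hev : s2 f₂ e v = y := by rw [hv, s2q hr, he'e, one_smul]
    have act : ∀ (G : Matrix (Fin a) (Fin a) F × Matrix (Fin a) (Fin a) F) (h : GL (Fin a × Fin b) F),
        (∀ x u, f₂ u e = 0 → h.val *ᵥ pt x u = pt x u + pt (N G u *ᵥ x) e) →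
        ∀ z, s2 f₂ e z = 0 → h.val *ᵥ z = z + pt (G.1 *ᵥ s2 f₂ z₁ z + G.2 *ᵥ s2 f₂ z₂ z) e := fun G h hh z hz =>
      (lin_ext_perp hr (L := Matrix.mulVecLin h.val)
        (L' := LinearMap.id + (ptL e).comp ((Matrix.mulVecLin G.1).comp (s2 f₂ z₁) +
          (Matrix.mulVecLin G.2).comp (s2 f₂ z₂))) he'e (fun x u hu => by
          simp only [Matrix.mulVecLin_apply, LinearMap.add_apply, LinearMap.id_apply, LinearMap.comp_apply,
            ptL_apply, s2q hr, hh x u hu, hN, add_mulVec, smul_mulVec, mulVec_smul]) hz).trans rfl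
    have diff : ∀ (G : Matrix (Fin a) (Fin a) F × Matrix (Fin a) (Fin a) F) (h : GL (Fin a × Fin b) F), h ∈ M →
        G ∈ P → (∀ x u, f₂ u e = 0 → h.val *ᵥ pt x u = pt x u + pt (N G u *ᵥ x) e) →
        s2 f₂ e (h.val *ᵥ v - v) = 0 ∧ s2 f₂ z₁ (h.val *ᵥ v - v) = -(f₂ z₁ z₁ • (G.1 *ᵥ y)) ∧
          s2 f₂ z₂ (h.val *ᵥ v - v) = -(f₂ z₂ z₂ • (G.2 *ᵥ y)) := by
      intro G h hh hG hhG
      have hfe : s2 f₂ e (h.val *ᵥ v) = y := by rw [s2_of_fix hl hr (isoM C hh) (hkfix hhG), hev]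
      refine ⟨by rw [map_sub, hfe, hev, sub_self], sym_eq hl fun z => ?_, sym_eq hl fun z => ?_⟩
      · have h1 := isoM C hh v (pt z z₁)
        rw [hhG z z₁ h1e, hN, h12, zero_smul, add_zero, smul_mulVec, bform_add_right hl, bform_pto hl hr,
          bform_pto hl hr, bform_pto hl hr, hfe, hl.bilinear.smul_right] at h1
        rw [map_sub, sym_sub_left hl, sym_neg_left hl, hl.bilinear.smul_left, (hadj G hG).1]
        linear_combination h1
      · have h1 := isoM C hh v (pt z z₂)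
        rw [hhG z z₂ h2e, hN, h21, zero_smul, zero_add, smul_mulVec, bform_add_right hl, bform_pto hl hr,
          bform_pto hl hr, bform_pto hl hr, hfe, hl.bilinear.smul_right] at h1
        rw [map_sub, sym_sub_left hl, sym_neg_left hl, hl.bilinear.smul_left, (hadj G hG).2]
        linear_combination h1
    obtain ⟨hd0, hd1, hd2⟩ := diff G k hk hG hkG
    obtain ⟨hd0', hd1', hd2'⟩ := diff G' k' hk' hG' hkG'
    have h := congrArg (fun h : GL (Fin a × Fin b) F => h.val *ᵥ v) hcom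
    simp only [Units.val_mul, ← mulVec_mulVec] at h
    rw [← add_sub_cancel v (k'.val *ᵥ v), mulVec_add, act G k hkG _ hd0', hd1', hd2',
      ← add_sub_cancel v (k.val *ᵥ v), mulVec_add k'.val, act G' k' hkG' _ hd0, hd1, hd2] at h
    simp only [add_sub_cancel, mulVec_neg, mulVec_smul, ← neg_add, pt_neg_left] at h
    refine pt_injective he ?_
    simp only [ptL_apply]
    linear_combination (norm := module) -(1 : F) • h
  -- a fixed point modulo scalars
  obtain ⟨i₀⟩ : Nonempty (Fin a) := ⟨⟨0, by have := C.dim; omega⟩⟩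
  obtain ⟨π, hπ⟩ : ∃ π : Matrix (Fin a) (Fin a) F → Matrix (Fin a) (Fin a) F,
      ∀ G, π G = G - G i₀ i₀ • 1 := ⟨_, fun G => rfl⟩
  have hπ0 : ∀ G, π G i₀ i₀ = 0 := fun G => by simp [hπ]
  have hπs : ∀ (G : Matrix (Fin a) (Fin a) F) (c : F), π (G + c • 1) = π G := fun G c => by simp [hπ, add_smul]
  obtain ⟨P₀, hP₀⟩ : ∃ P₀ : AddSubgroup (Matrix (Fin a) (Fin a) F × Matrix (Fin a) (Fin a) F),
      ∀ G, G ∈ P₀ ↔ G ∈ P ∧ G.1 i₀ i₀ = 0 ∧ G.2 i₀ i₀ = 0 :=
    ⟨{ carrier := {G | G ∈ P ∧ G.1 i₀ i₀ = 0 ∧ G.2 i₀ i₀ = 0}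
       zero_mem' := ⟨P.zero_mem, rfl, rfl⟩
       add_mem' := fun {G G'} hG hG' => ⟨P.add_mem hG.1 hG'.1,
        by rw [Prod.fst_add, Matrix.add_apply, hG.2.1, hG'.2.1, add_zero],
        by rw [Prod.snd_add, Matrix.add_apply, hG.2.2, hG'.2.2, add_zero]⟩
       neg_mem' := fun {G} hG => ⟨P.neg_mem hG.1, by rw [Prod.fst_neg, Matrix.neg_apply, hG.2.1, neg_zero],
        by rw [Prod.snd_neg, Matrix.neg_apply, hG.2.2, neg_zero]⟩ }, fun G => Iff.rfl⟩
  have hπP : ∀ G ∈ P, (π G.1, π G.2) ∈ P₀ := fun G hG =>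
    (hP₀ _).mpr ⟨by
      have h := P.sub_mem hG (hscalar (G.1 i₀ i₀) (G.2 i₀ i₀))
      rw [hπ, hπ]
      exact h, hπ0 _, hπ0 _⟩
  by_contra hns
  have hne : P₀ ≠ ⊥ := fun h => hns (by
    have h1 := hπP _ hg0
    rw [h, AddSubgroup.mem_bot, Prod.ext_iff, hπ, hπ, Prod.fst_zero, Prod.snd_zero, sub_eq_zero, sub_eq_zero] at h1
    have hN1 := hN0 u hu
    rw [hN, h1.1, h1.2, smul_smul, smul_smul, ← add_smul] at hN1
    exact ⟨_, hN1.symm⟩)
  obtain ⟨pc, hpF⟩ := CharP.exists F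
  haveI : Fact pc.Prime := ⟨CharP.char_is_prime F pc⟩
  have hchar : ∀ {A : Type _} [AddCommGroup A] [Module F A] (z : A), pc • z = 0 := fun z => by
    rw [← Nat.cast_smul_eq_nsmul F, CharP.cast_eq_zero, zero_smul]
  haveI : Finite (Matrix (Fin a) (Fin a) F) := inferInstanceAs (Finite (Fin a → Fin a → F))
  obtain ⟨x, hx, hxx⟩ := exists_singular_sym hl h2 C.dim
  obtain ⟨x', hx', hxx', hx'x⟩ := exists_partner_sym hl h2 hx hxx
  have hWx : ∀ w : perpIn f₁ ⊤ x, f₁ x w.1 = 0 := fun w => by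
    rw [hl.symm]; exact ((mem_perpIn hl).mp w.2).2
  have hconj1 : ∀ (y : Fin a → F) (c : F) G, f₁ x y = 0 →
      eA f₁ x y * (G + c • 1) * eA f₁ x (-y) = eA f₁ x y * G * eA f₁ x (-y) + c • 1 := fun y c G hy => by
    rw [Matrix.mul_add, Matrix.add_mul, mul_smul_comm, mul_one, smul_mul_assoc, eA_mul_neg hl h2 hxx hy]
  have hcmp : ∀ (w w' : perpIn f₁ ⊤ x) G, π (eA f₁ x (w + w').1 * G * eA f₁ x (-(w + w').1)) =
      π (eA f₁ x w.1 * π (eA f₁ x w'.1 * G * eA f₁ x (-w'.1)) * eA f₁ x (-w.1)) := fun w w' G => by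
    rw [show π (eA f₁ x w'.1 * G * eA f₁ x (-w'.1)) = eA f₁ x w'.1 * G * eA f₁ x (-w'.1) +
      (-(eA f₁ x w'.1 * G * eA f₁ x (-w'.1)) i₀ i₀) • 1 by rw [hπ, neg_smul, sub_eq_add_neg],
      hconj1 _ _ _ (hWx w), hπs]
    simp only [← Matrix.mul_assoc]
    rw [eA_mul hl h2 hxx (hWx w) (hWx w'), Matrix.mul_assoc _ (eA f₁ x (-w'.1)), eA_mul hl h2 hxx
      (by rw [sym_neg_right hl, hWx, neg_zero]) (by rw [sym_neg_right hl, hWx, neg_zero]), Submodule.coe_add,
      neg_add, add_comm (-w.1) (-w'.1)]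
  obtain ⟨G, hGP, hG0, hGfix⟩ := exists_fixed_point (A := Matrix (Fin a) (Fin a) F × Matrix (Fin a) (Fin a) F)
    (fun z => hchar z) (W := perpIn f₁ ⊤ x) (fun z => hchar z) hne
    (fun w G => if G.1 i₀ i₀ = 0 ∧ G.2 i₀ i₀ = 0 then
      (π (eA f₁ x w.1 * G.1 * eA f₁ x (-w.1)), π (eA f₁ x w.1 * G.2 * eA f₁ x (-w.1))) else G)
    (fun G => by
      by_cases h0 : G.1 i₀ i₀ = 0 ∧ G.2 i₀ i₀ = 0
      · simp [eA_zero hl, hπ, h0]
      · simp [h0])
    (fun w w' G hG => by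
      simp only [((hP₀ G).mp hG).2, hπ0, and_self, if_true, hcmp])
    (fun w => by simp [hπ])
    (fun w G hG => by
      simp only [((hP₀ G).mp hG).2, and_self, if_true]
      exact hπP _ (hTA x w.1 hxx (hWx w) G ((hP₀ G).mp hG).1))
  obtain ⟨hGP', hG00⟩ := (hP₀ G).mp hGP
  have hfixed : ∀ K : Matrix (Fin a) (Fin a) F, (∀ p q, f₁ (K *ᵥ p) q = f₁ p (K *ᵥ q)) → K i₀ i₀ = 0 →
      (∀ w : perpIn f₁ ⊤ x, π (eA f₁ x w.1 * K * eA f₁ x (-w.1)) = K) →
      ∃ l m : F, (∀ z, K *ᵥ z = l • z + (m * f₁ z x) • x) ∧ (m = 0 → K = 0) := by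
    intro K hK hK00 hKfix
    obtain ⟨l, m, hlm⟩ := sym_fixed hl h2 C.dim C.small hxx hx' hxx' hK fun y hy => by
      have h := hKfix ⟨y, (mem_perpIn hl).mpr ⟨Submodule.mem_top, by rw [hl.symm, hy]⟩⟩
      simp only [hπ] at h
      refine ⟨(eA f₁ x y * K * eA f₁ x (-y)) i₀ i₀, ?_⟩
      have hn : eA f₁ x (-y) * eA f₁ x y = 1 := mul_eq_one_comm.mp (eA_mul_neg hl h2 hxx hy)
      rw [← sub_eq_iff_eq_add.mp h, Matrix.mul_assoc, hn, Matrix.mul_one]
    refine ⟨l, m, hlm, fun h0 => ?_⟩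
    have hG : K = l • 1 := Matrix.ext_iff_mulVec.mpr fun z => by
      rw [hlm, h0, zero_mul, zero_smul, add_zero, smul_mulVec, one_mulVec]
    rw [hG] at hK00 ⊢
    simp at hK00
    rw [hK00, zero_smul]
  have hGfix' : ∀ w : perpIn f₁ ⊤ x, π (eA f₁ x w.1 * G.1 * eA f₁ x (-w.1)) = G.1 ∧
      π (eA f₁ x w.1 * G.2 * eA f₁ x (-w.1)) = G.2 := fun w => by
    have h := hGfix w
    simp only [hG00, and_self, if_true] at h
    exact Prod.ext_iff.mp h
  obtain ⟨l₁, m₁, hlm₁, hz₁⟩ := hfixed G.1 (hadj G hGP').1 hG00.1 fun w => (hGfix' w).1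
  obtain ⟨l₂, m₂, hlm₂, hz₂⟩ := hfixed G.2 (hadj G hGP').2 hG00.2 fun w => (hGfix' w).2
  obtain ⟨c, hc⟩ : ∃ c, c = f₂ z₁ z₁ * (m₁ * m₁) + f₂ z₂ z₂ * (m₂ * m₂) := ⟨_, rfl⟩
  have hc0 : c ≠ 0 := fun h0 => hG0 (by
    obtain ⟨w, hw⟩ : ∃ w, w = m₁ • z₁ + m₂ • z₂ := ⟨_, rfl⟩
    have hw0 : w = 0 := eq_zero_of_pairW_singular hr hres hee hee'
      (by rw [hw, hr.bilinear.add_left, hr.bilinear.smul_left, hr.bilinear.smul_left, h1e, h2e]; ring)
      (by rw [hw, hr.bilinear.add_left, hr.bilinear.smul_left, hr.bilinear.smul_left, h1e', h2e']; ring)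
      (by
        rw [hw]
        simp only [hr.bilinear.add_left, hr.bilinear.add_right, hr.bilinear.smul_left, hr.bilinear.smul_right,
          h12, h21]
        rw [hc] at h0
        linear_combination h0)
    have k1 := congrArg (fun v => f₂ v z₁) hw0
    have k2 := congrArg (fun v => f₂ v z₂) hw0
    simp only [hw, hr.bilinear.add_left, hr.bilinear.smul_left, h12, h21, sym_zero_left hr, mul_zero, add_zero,
      zero_add, mul_eq_zero, hq₁, hq₂, or_false] at k1 k2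
    exact Prod.ext (hz₁ k1) (hz₂ k2))
  obtain ⟨q, w, hq, hqw, hne₂⟩ := exists_move_nonorth hl h2 C.dim hx hxx
  obtain ⟨x₂, hx₂⟩ : ∃ x₂, x₂ = eA f₁ q w *ᵥ x := ⟨_, rfl⟩
  rw [← hx₂] at hne₂
  have hmv : ∀ (K : Matrix (Fin a) (Fin a) F) (l m : F), (∀ z, K *ᵥ z = l • z + (m * f₁ z x) • x) →
      ∀ z, (eA f₁ q w * K * eA f₁ q (-w)) *ᵥ z = l • z + (m * f₁ z x₂) • x₂ := by
    intro K l m hK z
    obtain ⟨z', hz'⟩ : ∃ z', z' = eA f₁ q (-w) *ᵥ z := ⟨_, rfl⟩
    have hback : eA f₁ q w *ᵥ z' = z := by rw [hz', mulVec_mulVec, eA_mul_neg hl h2 hq hqw, one_mulVec]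
    rw [← mulVec_mulVec, ← mulVec_mulVec, ← hz', hK, mulVec_add, mulVec_smul, mulVec_smul, hback, ← hx₂,
      ← eA_iso hl h2 hq hqw z' x, hback, ← hx₂]
  have h := hcomm G hGP' _ (hTA q w hq hqw G hGP') x
  simp only [hmv _ _ _ hlm₁, hmv _ _ _ hlm₂, hlm₁, hlm₂, hl.bilinear.add_left, hl.bilinear.smul_left, hl.symm x₂ x,
    hxx, mul_zero, zero_smul, add_zero, zero_add] at h
  have h' : (c * (f₁ x x₂ * f₁ x x₂)) • x = 0 := by rw [hc]; linear_combination (norm := module) h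
  exact hx ((smul_eq_zero.mp h').resolve_left (mul_ne_zero hc0 (mul_ne_zero hne₂ hne₂)))

/-- An element shearing along a singular pure subspace is a tensor product. -/
theorem kron_of_rad {g : GL (Fin a × Fin b) F} (hg : g ∈ M) {e : Fin b → F} (he : e ≠ 0) (hee : f₂ e e = 0)
    (hfix : ∀ x, g.val *ᵥ pt x e = pt x e)
    (hsh : ∀ u, f₂ u e = 0 → ∀ x, ∃ y, g.val *ᵥ pt x u = pt x u + pt y e) :
    ∃ w, ∃ hew : f₂ e w = 0, g = TB C hee hew := by
  classical
  have hl := C.left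
  have hr := C.right
  have h2 := C.two
  obtain ⟨e', he', hee', he'e⟩ := exists_partner_sym hr h2 he hee
  obtain ⟨L, hL⟩ : ∃ L : (Fin b → F) →ₗ[F] Matrix (Fin a) (Fin a) F,
      ∀ u x, L u *ᵥ x = s2 f₂ e' (g.val *ᵥ pt x u - pt x u) := by
    refine ⟨{ toFun := fun u =>
                LinearMap.toMatrix' ((s2 f₂ e').comp ((Matrix.mulVecLin g.val - LinearMap.id).comp (ptL u)))
              map_add' := fun u w => Matrix.ext_iff_mulVec.mpr fun x => ?_
              map_smul' := fun c u => Matrix.ext_iff_mulVec.mpr fun x => ?_ },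
      fun u x => by simp [LinearMap.toMatrix'_mulVec, ptL_apply]⟩
    · simp only [LinearMap.toMatrix'_mulVec, add_mulVec, LinearMap.comp_apply, ptL_apply, pt_add_right, map_add]
    · simp only [LinearMap.toMatrix'_mulVec, smul_mulVec, LinearMap.comp_apply, ptL_apply, pt_smul_right, map_smul,
        RingHom.id_apply]
  have hLg : ∀ u, f₂ u e = 0 → ∀ x, g.val *ᵥ pt x u = pt x u + pt (L u *ᵥ x) e := fun u hu x => by
    obtain ⟨y, hy⟩ := hsh u hu x
    rw [hL, hy, add_sub_cancel_left, s2q hr, hee', one_smul]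
  obtain ⟨S, hS⟩ : ∃ S : Submodule F (Fin b → F), ∀ u, u ∈ S ↔ ∃ c : F, L u = c • 1 :=
    ⟨(Submodule.span F {(1 : Matrix (Fin a) (Fin a) F)}).comap L, fun u => by
      rw [Submodule.mem_comap, Submodule.mem_span_singleton]
      exact ⟨fun ⟨c, hc⟩ => ⟨c, hc.symm⟩, fun ⟨c, hc⟩ => ⟨c, hc.symm⟩⟩⟩
  have hscal : ∀ u, f₂ u e = 0 → ∃ c : F, L u = c • 1 := by
    intro u hu
    rcases C.res with hb | ⟨hb4, hres⟩
    swap
    · exact scal_four C hb4 hres hg he hee hfix hLg hu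
    refine (hS u).mp (mem_of_singular_perp hr h2 hb he hee (fun p hpp hpe => (hS p).mpr ?_) hu)
    by_cases hpsp : p ∈ Submodule.span F {e}
    · obtain ⟨c, rfl⟩ := Submodule.mem_span_singleton.mp hpsp
      refine ⟨0, Matrix.ext_iff_mulVec.mpr fun x => ?_⟩
      rw [map_smul, smul_mulVec, hL, hfix, sub_self, map_zero, smul_zero, zero_smul, zero_mulVec]
    by_contra hns
    -- a hyperbolic partner orthogonal to `e`
    obtain ⟨φ, hφ0, hφ1⟩ := exists_functional hpsp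
    obtain ⟨z, hz⟩ := sym_repr hr φ
    have hze : f₂ z e = 0 := by rw [hr.symm, hz, hφ0 e (Submodule.mem_span_singleton_self e)]
    obtain ⟨m, hm⟩ : ∃ m, m = z - (f₂ z z / 2) • p := ⟨_, rfl⟩
    have hpz : f₂ p z = 1 := by rw [hz, hφ1]
    have hme : f₂ m e = 0 := by rw [hm, sym_sub_left hr, hr.bilinear.smul_left, hze, hpe]; ring
    have hpm : f₂ p m = 1 := by rw [hm, sym_sub_right hr, hr.bilinear.smul_right, hpp, hpz]; ring
    have hmm : f₂ m m = 0 := by
      rw [hm]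
      simp only [sym_sub_left hr, sym_sub_right hr, hr.bilinear.smul_left, hr.bilinear.smul_right, hpp, hpz,
        hr.symm z p]
      field_simp
      ring
    obtain ⟨t, htp, htm, hte, htt⟩ := exists_second_pair hr h2 hb hpp hmm hpm he hee (by rw [hr.symm, hpe])
      (by rw [hr.symm, hme])
    -- the group of single components
    obtain ⟨InP, hInP⟩ : ∃ InP : (Fin b → F) → Matrix (Fin a) (Fin a) F → Prop, ∀ p K, InP p K ↔
        ∃ k ∈ M, ∀ x u, f₂ u e = 0 → k.val *ᵥ pt x u = pt x u + f₂ u p • pt (K *ᵥ x) e := ⟨_, fun p K => Iff.rfl⟩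
    have hpt : f₂ p t = 0 := by rw [hr.symm, htp]
    have hpt' : f₂ p (-t) = 0 := by rw [sym_neg_right hr, hpt, neg_zero]
    have hkfix : ∀ {q : Fin b → F} {K : Matrix (Fin a) (Fin a) F} {k : GL (Fin a × Fin b) F}, f₂ q e = 0 →
        (∀ x u, f₂ u e = 0 → k.val *ᵥ pt x u = pt x u + f₂ u q • pt (K *ᵥ x) e) →
        ∀ x, k.val *ᵥ pt x e = pt x e := fun hq hk x => by
      rw [hk x e hee, hr.symm e, hq, zero_smul, add_zero]
    -- isolation
    have hmem0 : InP p ((-(f₂ t t)) • L p) := by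
      obtain ⟨B, hB⟩ : ∃ B, B = eA f₂ p (-t) := ⟨_, rfl⟩
      have hBe : B *ᵥ e = e := hB ▸ eA_fix hr (by rw [hr.symm, hpe]) (by
        rw [sym_neg_right hr, hr.symm, hte, neg_zero])
      have hBperp : ∀ u, f₂ u e = 0 → f₂ (B *ᵥ u) e = 0 := fun u hu => by
        conv_lhs => arg 2; rw [← hBe]
        rw [hB, eA_iso hr h2 hpp hpt', hu]
      have hback : ∀ u, eA f₂ p t *ᵥ (B *ᵥ u) = u := fun u => by
        rw [hB, mulVec_mulVec, eA_mul_neg hr h2 hpp hpt, one_mulVec]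
      have hTe : ∀ x, (TB C hpp hpt).val *ᵥ pt x e = pt x e := fun x => by
        rw [TB_apply, eA_fix hr (by rw [hr.symm, hpe]) (by rw [hr.symm, hte])]
      -- one commutator step
      have hstep : ∀ (k : GL (Fin a × Fin b) F) (N : (Fin b → F) → Matrix (Fin a) (Fin a) F), k ∈ M →
          (∀ x u, f₂ u e = 0 → k.val *ᵥ pt x u = pt x u + pt (N u *ᵥ x) e) → N e = 0 →
          ∃ k' ∈ M, ∀ x u, f₂ u e = 0 → k'.val *ᵥ pt x u = pt x u + pt ((N (B *ᵥ u) - N u) *ᵥ x) e := by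
        intro k N hk hN hNe
        have hke : ∀ x, k.val *ᵥ pt x e = pt x e := fun x => by rw [hN x e hee, hNe, zero_mulVec, pt_zero_left, add_zero]
        have hki : ∀ x u, f₂ u e = 0 → k⁻¹.val *ᵥ pt x u = pt x u - pt (N u *ᵥ x) e := fun x u hu =>
          mulVec_injective k (by
            simp only
            rw [Transvec.mulVec_inv_cancel, mulVec_sub, hN x u hu, hke, add_sub_cancel_right])
        refine ⟨TB C hpp hpt * k * TB C hpp hpt' * k⁻¹,
          M.mul_mem (M.mul_mem (M.mul_mem (TB_mem C hpp hpt) hk) (TB_mem C hpp hpt')) (M.inv_mem hk), fun x u hu => ?_⟩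
        rw [Units.val_mul, Units.val_mul, Units.val_mul, ← mulVec_mulVec, ← mulVec_mulVec, ← mulVec_mulVec, hki x u hu,
          mulVec_sub, TB_apply, TB_apply, ← hB, hBe, mulVec_sub, hN x _ (hBperp u hu), hke, mulVec_sub, mulVec_add,
          TB_apply, hback, hTe, hTe, sub_mulVec, pt_sub_left]
        abel
      obtain ⟨k₁, hk₁, hk₁'⟩ := hstep g (fun u => L u) hg (fun x u hu => hLg u hu x)
        (Matrix.ext_iff_mulVec.mpr fun x => by rw [hL, hfix, sub_self, map_zero, zero_mulVec])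
      obtain ⟨k₂, hk₂, hk₂'⟩ := hstep k₁ (fun u => L (B *ᵥ u) - L u) hk₁ hk₁' (by rw [hBe, sub_self])
      refine (hInP _ _).mpr ⟨k₂, hk₂, fun x u hu => ?_⟩
      rw [hk₂' x u hu, ← map_sub, ← map_sub, ← map_sub,
        show B *ᵥ (B *ᵥ u) - B *ᵥ u - (B *ᵥ u - u) = (B - 1) *ᵥ ((B - 1) *ᵥ u) by
          simp only [sub_mulVec, one_mulVec, mulVec_sub],
        hB, eA_sub_one_sq hr hpp hpt', map_smul, smul_mulVec, pt_smul_left, smul_mulVec, pt_smul_left, smul_smul,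
        sym_neg_left hr, sym_neg_right hr]
      congr 2
      ring
    have hadj : ∀ K, InP p K → ∀ x y, f₁ (K *ᵥ x) y = f₁ x (K *ᵥ y) := fun K hK => by
      obtain ⟨k, hk, hkK⟩ := (hInP _ _).mp hK
      refine shear_adjoint C hk he hee (hkfix hpe hkK) (fun u hu x => ⟨f₂ u p • (K *ᵥ x), ?_⟩) hme fun x => ?_
      · rw [pt_smul_left]; exact hkK x u hu
      · rw [hkK x m hme, hr.symm m p, hpm, one_smul]
    obtain ⟨P, hP⟩ : ∃ P : AddSubgroup (Matrix (Fin a) (Fin a) F), ∀ K, K ∈ P ↔ InP p K :=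
      ⟨{ carrier := {K | InP p K}
         zero_mem' := (hInP _ _).mpr ⟨1, M.one_mem, fun x u _ => by simp [pt_zero_left]⟩
         add_mem' := fun {K K'} hK hK' => by
          obtain ⟨k, hk, hkK⟩ := (hInP _ _).mp hK
          obtain ⟨k', hk', hkK'⟩ := (hInP _ _).mp hK'
          refine (hInP _ _).mpr ⟨k * k', M.mul_mem hk hk', fun x u hu => ?_⟩
          rw [Units.val_mul, ← mulVec_mulVec, hkK' x u hu, mulVec_add, mulVec_smul, hkK x u hu, hkfix hpe hkK,
            add_mulVec, pt_add_left]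
          module
         neg_mem' := fun {K} hK => by
          obtain ⟨k, hk, hkK⟩ := (hInP _ _).mp hK
          refine (hInP _ _).mpr ⟨k⁻¹, M.inv_mem hk, fun x u hu => mulVec_injective k ?_⟩
          simp only
          rw [Transvec.mulVec_inv_cancel, mulVec_add, mulVec_smul, hkK x u hu, hkfix hpe hkK, neg_mulVec, pt_neg_left]
          module }, fun K => Iff.rfl⟩
    have hscalar : ∀ c : F, c • (1 : Matrix (Fin a) (Fin a) F) ∈ P := fun c => by
      have hep : f₂ e ((-c) • p) = 0 := by rw [hr.bilinear.smul_right, hr.symm e p, hpe, mul_zero]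
      refine (hP _).mpr ((hInP _ _).mpr ⟨TB C hee hep, TB_mem C hee hep, fun x u hu => ?_⟩)
      rw [TB_apply, eA_mulVec hr, hu, hr.bilinear.smul_right, smul_mulVec, one_mulVec, pt_smul_left]
      simp only [zero_smul, mul_zero, sub_zero, add_zero, pt_sub_right, pt_smul_right]
      module
    have hTA : ∀ x y, f₁ x x = 0 → f₁ x y = 0 → ∀ K ∈ P, eA f₁ x y * K * eA f₁ x (-y) ∈ P := by
      intro x y hx hxy K hK
      obtain ⟨k, hk, hkK⟩ := (hInP _ _).mp ((hP K).mp hK)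
      have hxy' : f₁ x (-y) = 0 := by rw [sym_neg_right hl, hxy, neg_zero]
      refine (hP _).mpr ((hInP _ _).mpr ⟨TA C hx hxy * k * TA C hx hxy',
        M.mul_mem (M.mul_mem (TA_mem C hx hxy) hk) (TA_mem C hx hxy'), fun z u hu => ?_⟩)
      rw [Units.val_mul, Units.val_mul, ← mulVec_mulVec, ← mulVec_mulVec, TA_apply, hkK _ u hu, mulVec_add,
        mulVec_smul, TA_apply, TA_apply, mulVec_mulVec, eA_mul_neg hl h2 hx hxy, one_mulVec, mulVec_mulVec,
        mulVec_mulVec]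
    -- a second position
    have hmt : f₂ m t = 0 := by rw [hr.symm, htm]
    obtain ⟨p₂, hp₂⟩ : ∃ p₂, p₂ = eA f₂ m t *ᵥ p := ⟨_, rfl⟩
    have hmfix : eA f₂ m t *ᵥ e = e := eA_fix hr (by rw [hr.symm, hme]) (by rw [hr.symm, hte])
    have hpp₂ : f₂ p p₂ ≠ 0 := by
      rw [hp₂, eA_mulVec hr, hpm, hpt, sym_sub_right hr, sym_sub_right hr, hr.bilinear.add_right,
        hr.bilinear.smul_right, hr.bilinear.smul_right, hr.bilinear.smul_right, hpp, hpt, hpm]
      simp [htt, h2]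
    have hp₂e : f₂ p₂ e = 0 := by
      rw [hp₂]
      conv_lhs => arg 2; rw [← hmfix]
      rw [eA_iso hr h2 hmm hmt, hpe]
    have hmove : ∀ K ∈ P, InP p₂ K := fun K hK => by
      obtain ⟨k, hk, hkK⟩ := (hInP _ _).mp ((hP K).mp hK)
      have hmt' : f₂ m (-t) = 0 := by rw [sym_neg_right hr, hmt, neg_zero]
      refine (hInP _ _).mpr ⟨TB C hmm hmt * k * TB C hmm hmt',
        M.mul_mem (M.mul_mem (TB_mem C hmm hmt) hk) (TB_mem C hmm hmt'), fun x u hu => ?_⟩
      have hback : eA f₂ m t *ᵥ (eA f₂ m (-t) *ᵥ u) = u := by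
        rw [mulVec_mulVec, eA_mul_neg hr h2 hmm hmt, one_mulVec]
      obtain ⟨u', hu'⟩ : ∃ u', u' = eA f₂ m (-t) *ᵥ u := ⟨_, rfl⟩
      rw [← hu'] at hback
      have hu'e : f₂ u' e = 0 := by rw [← eA_iso hr h2 hmm hmt, hback, hmfix, hu]
      have hu'p : f₂ u' p = f₂ u p₂ := by rw [← eA_iso hr h2 hmm hmt, hback, hp₂]
      rw [Units.val_mul, Units.val_mul, ← mulVec_mulVec, ← mulVec_mulVec, TB_apply, ← hu', hkK x u' hu'e, mulVec_add,
        mulVec_smul, TB_apply, TB_apply, hback, hmfix, hu'p]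
    -- the components commute
    have hcomm : ∀ K ∈ P, ∀ K' ∈ P, ∀ y, K *ᵥ (K' *ᵥ y) = K' *ᵥ (K *ᵥ y) := by
      intro K hK K' hK' y
      obtain ⟨k, hk, hkK⟩ := (hInP _ _).mp ((hP K).mp hK)
      obtain ⟨k', hk', hkK'⟩ := (hInP _ _).mp (hmove K' hK')
      have hcom : k * k' = k' * k := eq_of_perp C (M.mul_mem hk hk') (M.mul_mem hk' hk) he hee fun x u hu => by
        rw [Units.val_mul, Units.val_mul, ← mulVec_mulVec, ← mulVec_mulVec, hkK' x u hu, hkK x u hu, mulVec_add,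
          mulVec_add, mulVec_smul, mulVec_smul, hkK x u hu, hkK' x u hu, hkfix hpe hkK, hkfix hp₂e hkK']
        abel
      obtain ⟨v, hv⟩ : ∃ v, v = pt y e' := ⟨_, rfl⟩
      have act : ∀ (q : Fin b → F) (G : Matrix (Fin a) (Fin a) F) (h : GL (Fin a × Fin b) F),
          (∀ x u, f₂ u e = 0 → h.val *ᵥ pt x u = pt x u + f₂ u q • pt (G *ᵥ x) e) →
          ∀ z, s2 f₂ e z = 0 → h.val *ᵥ z = z + pt (G *ᵥ s2 f₂ q z) e := fun q G h hh z hz =>
        (lin_ext_perp hr (L := Matrix.mulVecLin h.val)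
          (L' := LinearMap.id + (ptL e).comp ((Matrix.mulVecLin G).comp (s2 f₂ q))) he'e (fun x u hu => by
            simp only [Matrix.mulVecLin_apply, LinearMap.add_apply, LinearMap.id_apply, LinearMap.comp_apply,
              ptL_apply, s2q hr, hh x u hu, mulVec_smul, pt_smul_left]) hz).trans rfl
      have diff : ∀ (q r : Fin b → F) (G : Matrix (Fin a) (Fin a) F) (h : GL (Fin a × Fin b) F), h ∈ M →
          f₂ q e = 0 → f₂ r e = 0 → (∀ x u, f₂ u e = 0 → h.val *ᵥ pt x u = pt x u + f₂ u q • pt (G *ᵥ x) e) →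
          (∀ x z, f₁ (G *ᵥ x) z = f₁ x (G *ᵥ z)) →
          s2 f₂ e (h.val *ᵥ v - v) = 0 ∧ s2 f₂ r (h.val *ᵥ v - v) = -(f₂ r q • (G *ᵥ y)) := by
        intro q r G h hh hq hre hhG hG
        refine ⟨by rw [map_sub, s2_of_fix hl hr (isoM C hh) (hkfix hq hhG), sub_self], sym_eq hl fun z => ?_⟩
        have h1 := isoM C hh v (pt z r)
        rw [hhG z r hre, bform_add_right hl, bform_smul_right hl, bform_pto hl hr, bform_pto hl hr, bform_pto hl hr,
          s2_of_fix hl hr (isoM C hh) (hkfix hq hhG)] at h1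
        rw [map_sub, sym_sub_left hl, sym_neg_left hl, hl.bilinear.smul_left, hG]
        have h3 : s2 f₂ e v = y := by rw [hv, s2q hr, he'e, one_smul]
        rw [h3] at h1
        linear_combination h1
      obtain ⟨hd1, hd2⟩ := diff p p₂ K k hk hpe hp₂e hkK (hadj K ((hP K).mp hK))
      obtain ⟨hd1', hd2'⟩ := diff p₂ p K' k' hk' hp₂e hpe hkK' (hadj K' ((hP K').mp hK'))
      have h := congrArg (fun h : GL (Fin a × Fin b) F => h.val *ᵥ v) hcom
      simp only [Units.val_mul, ← mulVec_mulVec] at h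
      rw [← add_sub_cancel v (k'.val *ᵥ v), mulVec_add, act p K k hkK _ hd1', hd2',
        ← add_sub_cancel v (k.val *ᵥ v), mulVec_add k'.val, act p₂ K' k' hkK' _ hd1, hd2] at h
      simp only [add_sub_cancel, mulVec_neg, mulVec_smul, pt_neg_left, pt_smul_left] at h
      have h' : f₂ p p₂ • pt (K *ᵥ (K' *ᵥ y)) e = f₂ p p₂ • pt (K' *ᵥ (K *ᵥ y)) e := by
        rw [hr.symm p₂ p] at h
        linear_combination (norm := module) -(1 : F) • h
      exact pt_injective he (smul_right_injective _ hpp₂ h')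
    -- a fixed point modulo scalars
    obtain ⟨i₀⟩ : Nonempty (Fin a) := ⟨⟨0, by have := C.dim; omega⟩⟩
    obtain ⟨π, hπ⟩ : ∃ π : Matrix (Fin a) (Fin a) F → Matrix (Fin a) (Fin a) F,
        ∀ G, π G = G - G i₀ i₀ • 1 := ⟨_, fun G => rfl⟩
    obtain ⟨P₀, hP₀⟩ : ∃ P₀ : AddSubgroup (Matrix (Fin a) (Fin a) F), ∀ G, G ∈ P₀ ↔ G ∈ P ∧ G i₀ i₀ = 0 :=
      ⟨{ carrier := {G | G ∈ P ∧ G i₀ i₀ = 0}
         zero_mem' := ⟨P.zero_mem, rfl⟩
         add_mem' := fun {G G'} hG hG' => ⟨P.add_mem hG.1 hG'.1, by rw [Matrix.add_apply, hG.2, hG'.2, add_zero]⟩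
         neg_mem' := fun {G} hG => ⟨P.neg_mem hG.1, by rw [Matrix.neg_apply, hG.2, neg_zero]⟩ }, fun G => Iff.rfl⟩
    have hπ0 : ∀ G, π G i₀ i₀ = 0 := fun G => by simp [hπ]
    have hπP : ∀ G ∈ P, π G ∈ P₀ := fun G hG => (hP₀ _).mpr ⟨hπ G ▸ P.sub_mem hG (hscalar _), hπ0 G⟩
    have hπs : ∀ (G : Matrix (Fin a) (Fin a) F) (c : F), π (G + c • 1) = π G := fun G c => by
      simp [hπ, add_smul]
    have hne : P₀ ≠ ⊥ := fun h => hns ⟨L p i₀ i₀, by
      have h1 := hπP _ ((hP _).mpr hmem0)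
      rw [h, AddSubgroup.mem_bot, hπ, sub_eq_zero] at h1
      have h3 : (-(f₂ t t)) ≠ 0 := neg_ne_zero.mpr htt
      have h4 := congrArg ((-(f₂ t t))⁻¹ • ·) h1
      simpa [smul_smul, inv_mul_cancel₀ h3, Matrix.smul_apply, htt] using h4⟩
    obtain ⟨pc, hpF⟩ := CharP.exists F
    haveI : Fact pc.Prime := ⟨CharP.char_is_prime F pc⟩
    have hchar : ∀ {A : Type _} [AddCommGroup A] [Module F A] (z : A), pc • z = 0 := fun z => by
      rw [← Nat.cast_smul_eq_nsmul F, CharP.cast_eq_zero, zero_smul]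
    haveI : Finite (Matrix (Fin a) (Fin a) F) := inferInstanceAs (Finite (Fin a → Fin a → F))
    obtain ⟨x, hx, hxx⟩ := exists_singular_sym hl h2 C.dim
    obtain ⟨x', hx', hxx', hx'x⟩ := exists_partner_sym hl h2 hx hxx
    have hWx : ∀ w : perpIn f₁ ⊤ x, f₁ x w.1 = 0 := fun w => by
      rw [hl.symm]; exact ((mem_perpIn hl).mp w.2).2
    have hconj1 : ∀ (y : Fin a → F) (c : F) G, f₁ x y = 0 →
        eA f₁ x y * (G + c • 1) * eA f₁ x (-y) = eA f₁ x y * G * eA f₁ x (-y) + c • 1 := fun y c G hy => by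
      rw [Matrix.mul_add, Matrix.add_mul, mul_smul_comm, mul_one, smul_mul_assoc, eA_mul_neg hl h2 hxx hy]
    obtain ⟨G, hGP, hG0, hGfix⟩ := exists_fixed_point (A := Matrix (Fin a) (Fin a) F) (fun z => hchar z)
      (W := perpIn f₁ ⊤ x) (fun z => hchar z) hne
      (fun w G => if G i₀ i₀ = 0 then π (eA f₁ x w.1 * G * eA f₁ x (-w.1)) else G)
      (fun G => by
        by_cases h0 : G i₀ i₀ = 0
        · simp [eA_zero hl, hπ, h0]
        · simp [h0])
      (fun w w' G hG => by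
        simp only [((hP₀ G).mp hG).2, if_true, hπ0]
        rw [show π (eA f₁ x w'.1 * G * eA f₁ x (-w'.1)) = eA f₁ x w'.1 * G * eA f₁ x (-w'.1) +
          (-(eA f₁ x w'.1 * G * eA f₁ x (-w'.1)) i₀ i₀) • 1 by rw [hπ, neg_smul, sub_eq_add_neg],
          hconj1 _ _ _ (hWx w), hπs]
        simp only [← Matrix.mul_assoc]
        rw [eA_mul hl h2 hxx (hWx w) (hWx w'), Matrix.mul_assoc _ (eA f₁ x (-w'.1)), eA_mul hl h2 hxx
          (by rw [sym_neg_right hl, hWx, neg_zero]) (by rw [sym_neg_right hl, hWx, neg_zero]), Submodule.coe_add,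
          neg_add, add_comm (-w.1) (-w'.1)])
      (fun w => by simp [hπ])
      (fun w G hG => by
        simp only [((hP₀ G).mp hG).2, if_true]
        exact hπP _ (hTA x w.1 hxx (hWx w) G ((hP₀ G).mp hG).1))
    obtain ⟨hGP', hG00⟩ := (hP₀ G).mp hGP
    obtain ⟨l, μ, hlμ⟩ := sym_fixed hl h2 C.dim C.small hxx hx' hxx' (hadj G ((hP G).mp hGP')) fun y hy => by
      have h := hGfix ⟨y, (mem_perpIn hl).mpr ⟨Submodule.mem_top, by rw [hl.symm, hy]⟩⟩
      simp only [hG00, if_true, hπ] at h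
      refine ⟨(eA f₁ x y * G * eA f₁ x (-y)) i₀ i₀, ?_⟩
      have hn : eA f₁ x (-y) * eA f₁ x y = 1 := mul_eq_one_comm.mp (eA_mul_neg hl h2 hxx hy)
      rw [← sub_eq_iff_eq_add.mp h, Matrix.mul_assoc, hn, Matrix.mul_one]
    have hμ : μ ≠ 0 := fun h0 => hG0 (by
      have hG : G = l • 1 := Matrix.ext_iff_mulVec.mpr fun z => by
        rw [hlμ, h0, zero_mul, zero_smul, add_zero, smul_mulVec, one_mulVec]
      rw [hG] at hG00 ⊢
      simp at hG00
      rw [hG00, zero_smul])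
    obtain ⟨q, w, hq, hqw, hne₂⟩ := exists_move_nonorth hl h2 C.dim hx hxx
    obtain ⟨x₂, hx₂⟩ : ∃ x₂, x₂ = eA f₁ q w *ᵥ x := ⟨_, rfl⟩
    rw [← hx₂] at hne₂
    have hG₂ : ∀ z, (eA f₁ q w * G * eA f₁ q (-w)) *ᵥ z = l • z + (μ * f₁ z x₂) • x₂ := fun z => by
      obtain ⟨z', hz'⟩ : ∃ z', z' = eA f₁ q (-w) *ᵥ z := ⟨_, rfl⟩
      have hback : eA f₁ q w *ᵥ z' = z := by rw [hz', mulVec_mulVec, eA_mul_neg hl h2 hq hqw, one_mulVec]
      rw [← mulVec_mulVec, ← mulVec_mulVec, ← hz', hlμ, mulVec_add, mulVec_smul, mulVec_smul, hback, ← hx₂,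
        ← eA_iso hl h2 hq hqw z' x, hback, ← hx₂]
    have h := hcomm G hGP' _ (hTA q w hq hqw G hGP') x
    simp only [hG₂, hlμ, hl.bilinear.add_left, hl.bilinear.smul_left, hl.symm x₂ x, hxx, mul_zero, zero_smul,
      add_zero, zero_add] at h
    have h' : (μ * μ * (f₁ x x₂ * f₁ x x₂)) • x = 0 := by linear_combination (norm := module) h
    exact hx ((smul_eq_zero.mp h').resolve_left (mul_ne_zero (mul_ne_zero hμ hμ) (mul_ne_zero hne₂ hne₂)))
  -- the translation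
  obtain ⟨κ, hκ⟩ : ∃ κ : (Fin b → F) →ₗ[F] F, ∀ u, f₂ u e = 0 → L u = κ u • 1 := by
    obtain ⟨i₀⟩ : Nonempty (Fin a) := ⟨⟨0, by have := C.dim; omega⟩⟩
    refine ⟨{ toFun := fun u => L u i₀ i₀
              map_add' := fun u w => by rw [map_add]; rfl
              map_smul' := fun c u => by rw [map_smul]; rfl }, fun u hu => ?_⟩
    obtain ⟨c, hc⟩ := hscal u hu
    simp [hc]
  obtain ⟨w, hw⟩ := sym_repr hr (fun j => -κ (Pi.single j 1))
  have hκw : ∀ u, f₂ u w = - κ u := fun u => by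
    rw [hw]
    conv_rhs => rw [pi_eq_sum_univ' u, map_sum, ← Finset.sum_neg_distrib]
    exact Finset.sum_congr rfl fun j _ => by rw [map_smul, smul_eq_mul]; ring
  have hew : f₂ e w = 0 := by
    obtain ⟨x₁, hx₁, -⟩ := exists_singular_sym hl h2 C.dim
    have h1 := hLg e hee x₁
    rw [hfix, hκ e hee, smul_mulVec, one_mulVec, pt_smul_left, left_eq_add, smul_eq_zero] at h1
    rw [hκw, h1.resolve_right fun h0 => hx₁ (pt_eq_zero he h0), neg_zero]
  refine ⟨w, hew, eq_of_perp C hg (TB_mem C hee hew) he hee fun x u hu => ?_⟩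
  rw [hLg u hu, hκ u hu, TB_apply, eA_mulVec hr, hu, hκw, smul_mulVec, one_mulVec, pt_smul_left]
  simp only [zero_smul, mul_zero, sub_zero, add_zero, pt_sub_right, pt_smul_right]
  module

end CfsgLib.Classical22.TensorMax.OO
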