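/-
Every element of the group fixing a singular pure subspace is a tensor product.
-/
import Cfsg.Agent.Lib.Classical22.OrthOrthTensor.Radical
import Cfsg.Agent.Lib.Classical22.SpOrthTensor.Flag

set_option autoImplicit false
set_option maxHeartbeats 800000

namespace CfsgLib.Classical22.TensorMax.OO

open Matrix Kronecker CfsgLib.Transvec CfsgLib.Classical22.TensorMax.SympO CfsgLib.Classical22.TensorMax.SpO
open scoped MatrixGroups

variable {F : Type*} [Field F] {a b : ℕ} {f₁ : (Fin a → F) → (Fin a → F) → F}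
  {f₂ : (Fin b → F) → (Fin b → F) → F} [Fintype F] {Ω M : Subgroup (GL (Fin a × Fin b) F)} (C : Ctx f₁ f₂ Ω M)
include C

/-- An element fixing a singular pure subspace is a tensor product. -/
theorem kron_of_fix {y : GL (Fin a × Fin b) F} (hy : y ∈ M) {e : Fin b → F} (he : e ≠ 0) (hee : f₂ e e = 0)
    (hW : ∀ x, ∃ z, y.val *ᵥ pt x e = pt z e) : IsKron y := by
  classical
  have hl := C.left
  have hr := C.right
  have h2 := C.two
  obtain ⟨e', he', hee', he'e⟩ := exists_partner_sym hr h2 he hee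
  obtain ⟨A, hA⟩ : ∃ A : Matrix (Fin a) (Fin a) F, ∀ x, y.val *ᵥ pt x e = pt (A *ᵥ x) e := by
    refine ⟨LinearMap.toMatrix' ((s2 f₂ e').comp ((Matrix.mulVecLin y.val).comp (ptL e))), fun x => ?_⟩
    obtain ⟨z, hz⟩ := hW x
    rw [LinearMap.toMatrix'_mulVec, LinearMap.comp_apply, LinearMap.comp_apply, ptL_apply, Matrix.mulVecLin_apply, hz,
      s2q hr, hee', one_smul]
  have hAu : IsUnit A := Matrix.mulVec_injective_iff_isUnit.mp fun x x' h => pt_injective he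
    (mulVec_injective y (by simp only [ptL_apply]; rw [hA, hA]; exact congrArg (fun z => pt z e) h))
  obtain ⟨Ag, hAg⟩ : ∃ Ag : GL (Fin a) F, Ag.val = A := ⟨hAu.unit, hAu.unit_spec⟩
  have hAA : ∀ x, A *ᵥ (Ag⁻¹.val *ᵥ x) = x := fun x => by rw [← hAg, Transvec.mulVec_inv_cancel]
  have hpre : ∀ x, y⁻¹.val *ᵥ pt x e = pt (Ag⁻¹.val *ᵥ x) e := fun x => by
    conv_lhs => rw [← hAA x, ← hA, Transvec.inv_mulVec_cancel]
  have hse : ∀ v, s2 f₂ e v = 0 → s2 f₂ e (y.val *ᵥ v) = 0 := fun v hv => sym_eq hl fun p => by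
    rw [sym_zero_left hl, ← hAA p, s2_imageo hl hr (isoM C hy) (hA _), hv, sym_zero_left hl]
  -- conjugates of translations
  have hconj : ∀ w, f₂ e w = 0 → ∃ w', ∀ x u, f₂ u e = 0 →
      s2 f₂ w (y.val *ᵥ pt x u) = f₂ u w' • (A *ᵥ x) := by
    intro w hw
    obtain ⟨g, hgdef⟩ : ∃ g, g = y⁻¹ * TB C hee hw * y := ⟨_, rfl⟩
    have hTv : ∀ v, s2 f₂ e v = 0 → (TB C hee hw).val *ᵥ v = v - pt (s2 f₂ w v) e := fun v hv => by
      rw [TB_vec, hv]; simp [pt_zero_left]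
    have hgv : ∀ v, s2 f₂ e v = 0 → g.val *ᵥ v = v - pt (Ag⁻¹.val *ᵥ s2 f₂ w (y.val *ᵥ v)) e := fun v hv => by
      rw [hgdef, Units.val_mul, Units.val_mul, ← mulVec_mulVec, ← mulVec_mulVec, hTv _ (hse v hv), mulVec_sub,
        Transvec.inv_mulVec_cancel, hpre]
    have hg0 : ∀ p, s2 f₂ e (pt p e) = (0 : Fin a → F) := fun p => by rw [s2q hr, hee, zero_smul]
    have hgfix : ∀ x, g.val *ᵥ pt x e = pt x e := fun x => by
      rw [hgv _ (hg0 x), hA, s2q hr, hw, zero_smul, mulVec_zero, pt_zero_left, sub_zero]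
    have hgsh : ∀ u, f₂ u e = 0 → ∀ x, ∃ z, g.val *ᵥ pt x u = pt x u + pt z e := fun u hu x =>
      ⟨-(Ag⁻¹.val *ᵥ s2 f₂ w (y.val *ᵥ pt x u)), by
        rw [hgv _ (by rw [s2q hr, hu, zero_smul]), pt_neg_left, sub_eq_add_neg]⟩
    obtain ⟨w', hw', hgT⟩ := kron_of_rad C (hgdef ▸ M.mul_mem (M.mul_mem (M.inv_mem hy) (TB_mem C hee hw)) hy)
      he hee hgfix hgsh
    refine ⟨w', fun x u hu => ?_⟩
    have h := hgv (pt x u) (by rw [s2q hr, hu, zero_smul])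
    rw [hgT, TB_apply, eA_mulVec hr, hu] at h
    simp only [zero_smul, mul_zero, sub_zero, add_zero, pt_sub_right, pt_smul_right, sub_right_inj,
      ← pt_smul_left] at h
    have h' := congrArg (A *ᵥ ·) (pt_injective he h : f₂ u w' • x = Ag⁻¹.val *ᵥ s2 f₂ w (y.val *ᵥ pt x u))
    simp only [mulVec_smul, hAA] at h'
    exact h'.symm
  obtain ⟨x₁, hx₁, hx₁x₁⟩ := exists_singular_sym hl h2 C.dim
  obtain ⟨ψ, hψ⟩ : ∃ ψ : Fin a → F, ψ ⬝ᵥ (A *ᵥ x₁) = 1 := by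
    have hne : A *ᵥ x₁ ≠ 0 := hAg ▸ mulVec_ne_zero Ag hx₁
    obtain ⟨ψ, -, h⟩ := exists_functional (E := (⊥ : Submodule F (Fin a → F))) (u := A *ᵥ x₁) (by simpa using hne)
    exact ⟨ψ, h⟩
  obtain ⟨t, ht⟩ : ∃ t : (Fin b → F) →ₗ[F] (Fin b → F), ∀ u, t u = slA ψ (y.val *ᵥ pt x₁ u) :=
    ⟨(slA ψ).comp ((Matrix.mulVecLin y.val).comp (ptR x₁)), fun u => rfl⟩
  have htd : ∀ u w, f₂ (t u) w = ψ ⬝ᵥ s2 f₂ w (y.val *ᵥ pt x₁ u) := fun u w => by
    rw [sym_dot hr, ht, ← dot_sl_slA]; rfl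
  have hlevi : ∀ w, f₂ w e = 0 → ∀ u, f₂ u e = 0 → ∀ x, s2 f₂ w (y.val *ᵥ pt x u) = f₂ (t u) w • (A *ᵥ x) := by
    intro w hw u hu x
    obtain ⟨w', hw'⟩ := hconj w (by rw [hr.symm, hw])
    rw [hw' x u hu, htd, hw' x₁ u hu, dotProduct_smul, hψ, smul_eq_mul, mul_one]
  have hte : ∀ u, f₂ u e = 0 → f₂ (t u) e = 0 := fun u hu => by
    rw [htd, hse _ (by rw [s2q hr, hu, zero_smul]), dotProduct_zero]
  have htP : ∀ u, f₂ u e = 0 → ∀ x, y.val *ᵥ pt x u =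
      pt (A *ᵥ x) (t u) + pt (s2 f₂ e' (y.val *ᵥ pt x u - pt (A *ᵥ x) (t u))) e := fun u hu x => by
    rw [← mem_pure_of_s2o hr hee' fun w hw => ?_, add_sub_cancel]
    rw [map_sub, hlevi w (by rw [hr.symm, hw]) u hu, s2q hr, sub_self]
  have hiso : ∀ x x' u v, f₂ u e = 0 → f₂ v e = 0 →
      f₁ (A *ᵥ x) (A *ᵥ x') * f₂ (t u) (t v) = f₁ x x' * f₂ u v := fun x x' u v hu hv => by
    have h := isoM C hy (pt x u) (pt x' v)
    rw [htP u hu, htP v hv] at h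
    simp only [bform_add_left hl, bform_add_right hl, bform_ptpt hl hr, hee, hte u hu, hr.symm e (t v),
      hte v hv, mul_zero, add_zero] at h
    exact h
  -- the multiplier
  obtain ⟨u₁, hu₁e, -, hq⟩ := exists_aniso_pairW hr h2 (by have := C.four; omega) hee he' hee'
  obtain ⟨x₂, hx₂, hx₁₂, -⟩ := exists_partner_sym hl h2 hx₁ hx₁x₁
  have hq' : f₂ (t u₁) (t u₁) ≠ 0 := fun h0 => by
    have h := hiso x₁ x₂ u₁ u₁ hu₁e hu₁e
    rw [h0, mul_zero, hx₁₂, one_mul] at h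
    exact hq h.symm
  obtain ⟨μ, hμ⟩ : ∃ μ, μ = f₂ u₁ u₁ / f₂ (t u₁) (t u₁) := ⟨_, rfl⟩
  have hμ0 : μ ≠ 0 := hμ ▸ div_ne_zero hq hq'
  have hform : ∀ x x', f₁ (A *ᵥ x) (A *ᵥ x') = μ * f₁ x x' := fun x x' => by
    have h := hiso x x' u₁ u₁ hu₁e hu₁e
    rw [hμ, div_mul_eq_mul_div, eq_div_iff hq', h]
    ring
  have htform : ∀ u v, f₂ u e = 0 → f₂ v e = 0 → f₂ (t u) (t v) = μ⁻¹ * f₂ u v := fun u v hu hv => by
    have h := hiso x₁ x₂ u v hu hv
    rw [hform, hx₁₂, mul_one, one_mul] at h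
    rw [← h, inv_mul_cancel_left₀ hμ0]
  have hte1 : t e = e := by rw [ht, hA, slA_pt, hψ, one_smul]
  -- the factor of the second space
  obtain ⟨Bu, hBu⟩ : ∃ Bu : (Fin b → F) →ₗ[F] (Fin b → F), ∀ u, Bu u = t u - f₂ (t u) e' • e :=
    ⟨{ toFun := fun u => t u - f₂ (t u) e' • e
       map_add' := fun p q => by rw [map_add, hr.bilinear.add_left, add_smul]; abel
       map_smul' := fun c p => by rw [map_smul, hr.bilinear.smul_left, RingHom.id_apply, smul_sub, smul_smul] },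
      fun u => rfl⟩
  obtain ⟨π, hπ⟩ : ∃ π : (Fin b → F) →ₗ[F] (Fin b → F), ∀ u, π u = u - f₂ u e' • e - f₂ u e • e' :=
    ⟨{ toFun := fun u => u - f₂ u e' • e - f₂ u e • e'
       map_add' := fun p q => by rw [hr.bilinear.add_left, hr.bilinear.add_left, add_smul, add_smul]; abel
       map_smul' := fun c p => by
        rw [hr.bilinear.smul_left, hr.bilinear.smul_left, RingHom.id_apply, smul_sub, smul_sub, smul_smul, smul_smul] },
      fun u => rfl⟩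
  obtain ⟨H, hH⟩ : ∃ H : (Fin b → F) →ₗ[F] (Fin b → F),
      ∀ u, H u = Bu (π u) + f₂ u e' • e + (μ⁻¹ * f₂ u e) • e' :=
    ⟨{ toFun := fun u => Bu (π u) + f₂ u e' • e + (μ⁻¹ * f₂ u e) • e'
       map_add' := fun p q => by
        rw [map_add, map_add, hr.bilinear.add_left, hr.bilinear.add_left, mul_add, add_smul, add_smul]; abel
       map_smul' := fun c p => by
        rw [map_smul, map_smul, hr.bilinear.smul_left, hr.bilinear.smul_left, RingHom.id_apply, smul_add, smul_add,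
          smul_smul, smul_smul, mul_left_comm c] }, fun u => rfl⟩
  have hπe : ∀ u, f₂ (π u) e = 0 := fun u => by
    rw [hπ, sym_sub_left hr, sym_sub_left hr, hr.bilinear.smul_left, hr.bilinear.smul_left, hee, he'e]; ring
  have hπe' : ∀ u, f₂ (π u) e' = 0 := fun u => by
    rw [hπ, sym_sub_left hr, sym_sub_left hr, hr.bilinear.smul_left, hr.bilinear.smul_left, he', hee']; ring
  have hBp : ∀ u, f₂ u e = 0 → f₂ (Bu u) e = 0 ∧ f₂ (Bu u) e' = 0 := fun u hu => by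
    rw [hBu, sym_sub_left hr, sym_sub_left hr, hr.bilinear.smul_left, hr.bilinear.smul_left, hee, hee', hte u hu]
    constructor <;> ring
  have hBform : ∀ u v, f₂ u e = 0 → f₂ v e = 0 → f₂ (Bu u) (Bu v) = μ⁻¹ * f₂ u v := fun u v hu hv => by
    rw [hBu, hBu]
    simp only [sym_sub_left hr, sym_sub_right hr, hr.bilinear.smul_left, hr.bilinear.smul_right, hee, hte u hu,
      hr.symm e (t v), hte v hv, htform u v hu hv]
    ring
  have hHform : ∀ u v, f₂ (H u) (H v) = μ⁻¹ * f₂ u v := fun u v => by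
    obtain ⟨p1, p2⟩ := hBp _ (hπe u)
    obtain ⟨q1, q2⟩ := hBp _ (hπe v)
    rw [hH, hH]
    simp only [hr.bilinear.add_left, hr.bilinear.add_right, hr.bilinear.smul_left, hr.bilinear.smul_right,
      hBform _ _ (hπe u) (hπe v), p1, p2, hr.symm e (Bu _), hr.symm e' (Bu _), q1, q2, hee, he', hee', he'e]
    conv_rhs => rw [show u = π u + f₂ u e' • e + f₂ u e • e' by rw [hπ]; abel,
      show v = π v + f₂ v e' • e + f₂ v e • e' by rw [hπ]; abel]
    simp only [hr.bilinear.add_left, hr.bilinear.add_right, hr.bilinear.smul_left, hr.bilinear.smul_right,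
      hπe u, hπe' u, hr.symm e (π _), hr.symm e' (π _), hπe v, hπe' v, hee, he', hee', he'e]
    ring
  have hHinj : Function.Injective H := fun u v huv => sym_eq hr fun p => by
    have h := congrArg (fun z => f₂ z (H p)) huv
    simp only [hHform] at h
    exact mul_left_cancel₀ (inv_ne_zero hμ0) h
  obtain ⟨h, hhdef⟩ : ∃ h, h = kr Ag (glOfLin H hHinj) := ⟨_, rfl⟩
  have hhiso : Iso f₁ f₂ h := hhdef ▸ iso_kro hl hr (m := μ) (n := μ⁻¹) (fun x x' => by rw [hAg]; exact hform x x')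
    (fun u v => by rw [glOfLin_mulVec, glOfLin_mulVec, hHform]) (mul_inv_cancel₀ hμ0)
  have hact : ∀ x u, h.val *ᵥ pt x u = pt (A *ᵥ x) (H u) := fun x u => by
    rw [hhdef, kr_apply, hAg, glOfLin_mulVec]
  have hHe : H e = e := by
    have hπ0 : π e = 0 := by rw [hπ, hee, hee']; simp
    rw [hH, hπ0, map_zero, hee, hee']; simp
  have hhe : ∀ x, h.val *ᵥ pt x e = pt (A *ᵥ x) e := fun x => by rw [hact, hHe]
  obtain ⟨g, hgdef⟩ : ∃ g, g = h⁻¹ * y := ⟨_, rfl⟩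
  have hgiso : Iso f₁ f₂ g := hgdef ▸ iso_mul (iso_inv hhiso) (isoM C hy)
  have hgfix : ∀ x, g.val *ᵥ pt x e = pt x e := fun x => by
    rw [hgdef, Units.val_mul, ← mulVec_mulVec, hA, ← hhe, Transvec.inv_mulVec_cancel]
  have hgsh : ∀ u, f₂ u e = 0 → ∀ x, ∃ z, g.val *ᵥ pt x u = pt x u + pt z e := by
    intro u hu x
    have hHu : ∃ c : F, H u = t u + c • e := by
      refine ⟨f₂ u e' - f₂ u e' * 1 - f₂ (t (π u)) e', ?_⟩
      rw [hH, hBu, hu, hπ, hu]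
      simp only [zero_smul, mul_zero, sub_zero, add_zero, map_sub, map_smul, hte1]
      module
    obtain ⟨c, hc⟩ := hHu
    obtain ⟨z, hz⟩ : ∃ z, y.val *ᵥ pt x u = h.val *ᵥ pt x u + pt z e := by
      refine ⟨s2 f₂ e' (y.val *ᵥ pt x u - pt (A *ᵥ x) (t u)) - c • (A *ᵥ x), ?_⟩
      rw [hact, hc, pt_add_right, pt_smul_right, pt_sub_left, pt_smul_left]
      conv_lhs => rw [htP u hu]
      abel
    refine ⟨Ag⁻¹.val *ᵥ z, ?_⟩
    rw [hgdef, Units.val_mul, ← mulVec_mulVec, hz, mulVec_add, Transvec.inv_mulVec_cancel]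
    congr 1
    conv_lhs => rw [← hAA z, ← hhe, Transvec.inv_mulVec_cancel]
  have hnil : IsNilpotent (g.val - 1) := by
    refine ⟨3, ?_⟩
    rw [pow_succ', pow_two]
    refine Matrix.ext_iff_mulVec.mpr fun v => ?_
    obtain ⟨v₁, hv₁⟩ : ∃ v₁, v₁ = (g.val - 1) *ᵥ v := ⟨_, rfl⟩
    have h1 : s2 f₂ e v₁ = 0 := by
      rw [hv₁, sub_mulVec, one_mulVec, map_sub, s2_of_fix hl hr hgiso hgfix, sub_self]
    have h3 : (g.val - 1) *ᵥ ((g.val - 1) *ᵥ v₁) = 0 := by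
      refine lin_ext_perp hr (L := (Matrix.mulVecLin (g.val - 1)).comp (Matrix.mulVecLin (g.val - 1))) (L' := 0) he'e
        (fun x u hu => ?_) h1
      obtain ⟨z, hz⟩ := hgsh u hu x
      simp only [LinearMap.comp_apply, Matrix.mulVecLin_apply, sub_mulVec, one_mulVec, hz, add_sub_cancel_left,
        hgfix, sub_self, LinearMap.zero_apply]
    rw [← mulVec_mulVec, ← mulVec_mulVec, ← hv₁, h3, zero_mulVec]
  have hgΩ : g ∈ Ω := C.unip g hgiso hnil
  have hhΩ : h ∈ Ω := by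
    have h1 : h = y * g⁻¹ := by rw [hgdef]; group
    exact h1 ▸ Ω.mul_mem (C.sub hy) (Ω.inv_mem hgΩ)
  have hhM : h ∈ M := C.le h (hhdef ▸ isKron_kr _ _) hhΩ
  obtain ⟨w, hw, hgT⟩ := kron_of_rad C (hgdef ▸ M.mul_mem (M.inv_mem hhM) hy) he hee hgfix hgsh
  rw [show y = h * g by rw [hgdef, mul_inv_cancel_left]]
  exact isKron_mul (hhdef ▸ isKron_kr _ _) (hgT ▸ isKron_TB C hee hw)

end CfsgLib.Classical22.TensorMax.OO
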