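/-
Subspaces of tensors with all rows in a given subspace, and the root elements attached to singular lines.
-/
import Cfsg.Agent.Lib.Classical22.OrthOrthTensor.Flag

set_option autoImplicit false
set_option maxHeartbeats 800000

namespace CfsgLib.Classical22.TensorMax.OO

open Matrix Kronecker CfsgLib.Transvec CfsgLib.Classical22.TensorMax.SympO CfsgLib.Classical22.TensorMax.SpO
open scoped MatrixGroups

variable {F : Type*} [Field F] {a b : ℕ} {f₁ : (Fin a → F) → (Fin a → F) → F}
  {f₂ : (Fin b → F) → (Fin b → F) → F}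

/-- The tensors all of whose rows lie in `S`. -/
def tens (a : ℕ) (S : Submodule F (Fin b → F)) : Submodule F (Fin a × Fin b → F) :=
  ⨅ ψ : Fin a → F, S.comap (slA ψ)

lemma mem_tens {S : Submodule F (Fin b → F)} {v : Fin a × Fin b → F} : v ∈ tens a S ↔ ∀ ψ, slA ψ v ∈ S := by
  simp [tens]

lemma pt_mem_tens (x : Fin a → F) {u : Fin b → F} {S : Submodule F (Fin b → F)} (hu : u ∈ S) :
    pt x u ∈ tens a S := mem_tens.mpr fun ψ => by rw [slA_pt]; exact S.smul_mem _ hu

lemma tens_mono {S T : Submodule F (Fin b → F)} (h : S ≤ T) : tens a S ≤ tens a T :=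
  fun _ hv => mem_tens.mpr fun ψ => h (mem_tens.mp hv ψ)

lemma mem_of_pt_mem_tens {x : Fin a → F} {u : Fin b → F} {S : Submodule F (Fin b → F)} (hx : x ≠ 0)
    (h : pt x u ∈ tens a S) : u ∈ S := by
  obtain ⟨ψ, -, hψ⟩ := exists_functional (E := (⊥ : Submodule F (Fin a → F))) (u := x) (by simpa using hx)
  have := mem_tens.mp h ψ
  rwa [slA_pt, hψ, one_smul] at this

/-- A tensor as a sum over its rows. -/
lemma eq_sum_rows (v : Fin a × Fin b → F) :
    v = ∑ i, pt (Pi.single i (1 : F)) (slA (Pi.single i (1 : F)) v) := funext fun p => by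
  rw [Finset.sum_apply, Finset.sum_eq_single p.1]
  · simp [pt, slA, Pi.single_apply]
  · intro i _ hi
    simp [pt, Pi.single_eq_of_ne (Ne.symm hi)]
  · intro h; exact absurd (Finset.mem_univ _) h

lemma lin_ext_tens {W : Type*} [AddCommGroup W] [Module F W] {L L' : (Fin a × Fin b → F) →ₗ[F] W}
    {S : Submodule F (Fin b → F)} (h : ∀ x u, u ∈ S → L (pt x u) = L' (pt x u)) {v : Fin a × Fin b → F}
    (hv : v ∈ tens a S) : L v = L' v := by
  rw [eq_sum_rows v, map_sum, map_sum]
  exact Finset.sum_congr rfl fun i _ => h _ _ (mem_tens.mp hv _)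

lemma finrank_tens (S : Submodule F (Fin b → F)) :
    Module.finrank F (tens a S) = a * Module.finrank F S := by
  obtain ⟨Φ, hΦ⟩ : ∃ Φ : (Fin a → S) →ₗ[F] (Fin a × Fin b → F), ∀ c p, Φ c p = (c p.1).1 p.2 :=
    ⟨{ toFun := fun c p => (c p.1).1 p.2
       map_add' := fun c d => funext fun p => rfl
       map_smul' := fun t c => funext fun p => rfl }, fun c p => rfl⟩
  have hrange : LinearMap.range Φ = tens a S := by
    refine le_antisymm ?_ fun v hv => ⟨fun i => ⟨slA (Pi.single i (1 : F)) v, mem_tens.mp hv _⟩, ?_⟩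
    · rintro _ ⟨c, rfl⟩
      refine mem_tens.mpr fun ψ => ?_
      have : slA ψ (Φ c) = ∑ i, ψ i • (c i).1 := funext fun j => by simp [slA, hΦ]
      rw [this]
      exact S.sum_mem fun i _ => S.smul_mem _ (c i).2
    · funext p
      rw [hΦ]
      simp [slA, Pi.single_apply]
  rw [← hrange, LinearMap.finrank_range_of_inj, Module.finrank_pi_fintype, Finset.sum_const, Finset.card_univ,
    Fintype.card_fin, smul_eq_mul]
  intro c d hcd
  funext i
  exact Subtype.ext (funext fun j => by simpa [hΦ] using congrFun hcd (i, j))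

/-- A tensor with rows on a line is pure. -/
lemma exists_pt_of_tens {u : Fin b → F} {v : Fin a × Fin b → F} (hv : v ∈ tens a (Submodule.span F {u})) :
    ∃ z, v = pt z u := by
  choose c hc using fun i => Submodule.mem_span_singleton.mp (mem_tens.mp hv (Pi.single i (1 : F)))
  refine ⟨c, funext fun p => ?_⟩
  have h := congrFun (hc p.1) p.2
  simp [slA, Pi.single_apply] at h
  simpa [pt, mul_comm] using h.symm

/-- A basis of a totally singular line. -/
def IsLine (f₂ : (Fin b → F) → (Fin b → F) → F) (e p : Fin b → F) : Prop :=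
  f₂ e e = 0 ∧ f₂ p p = 0 ∧ f₂ e p = 0 ∧ e ≠ 0 ∧ p ∉ Submodule.span F {e}

section Line
variable (hr : Cfsg.Geo.IsSymmetricForm f₂) {e p : Fin b → F} (hL : IsLine f₂ e p)
include hr hL

/-- Dual vectors of a singular line. -/
lemma exists_duals : ∃ e' p', f₂ e' e = 1 ∧ f₂ e' p = 0 ∧ f₂ p' e = 0 ∧ f₂ p' p = 1 := by
  obtain ⟨-, -, -, he, hp⟩ := hL
  have hes : e ∉ Submodule.span F {p} := fun h => by
    obtain ⟨c, hc⟩ := Submodule.mem_span_singleton.mp h
    have hc0 : c ≠ 0 := fun h0 => he (by rw [← hc, h0, zero_smul])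
    exact hp (Submodule.mem_span_singleton.mpr ⟨c⁻¹, by rw [← hc, inv_smul_smul₀ hc0]⟩)
  obtain ⟨φ, hφ0, hφ1⟩ := exists_functional hp
  obtain ⟨χ, hχ0, hχ1⟩ := exists_functional hes
  obtain ⟨p', hp'⟩ := sym_repr hr φ
  obtain ⟨e', he'⟩ := sym_repr hr χ
  exact ⟨e', p', by rw [hr.symm, he', hχ1], by rw [hr.symm, he', hχ0 p (Submodule.mem_span_singleton_self p)],
    by rw [hr.symm, hp', hφ0 e (Submodule.mem_span_singleton_self e)], by rw [hr.symm, hp', hφ1]⟩

lemma finrank_line : Module.finrank F (Submodule.span F ({e, p} : Set (Fin b → F))) = 2 := by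
  have hle : Module.finrank F (Submodule.span F ({e, p} : Set (Fin b → F))) ≤ 2 := by
    classical
    refine (finrank_span_le_card ({e, p} : Set (Fin b → F))).trans ?_
    rw [Set.toFinset_insert, Set.toFinset_singleton]
    exact Finset.card_le_two
  refine le_antisymm hle ?_
  have hlt : Submodule.span F {e} < Submodule.span F ({e, p} : Set (Fin b → F)) := by
    refine lt_of_le_of_ne (Submodule.span_mono (by simp)) fun h => hL.2.2.2.2 ?_
    rw [h]; exact Submodule.subset_span (by simp)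
  have := Submodule.finrank_lt_finrank_of_lt hlt
  rw [finrank_span_singleton hL.2.2.2.1] at this
  omega

lemma line_singular {l l' : Fin b → F} (hl : l ∈ Submodule.span F ({e, p} : Set (Fin b → F)))
    (hl' : l' ∈ Submodule.span F ({e, p} : Set (Fin b → F))) : f₂ l l' = 0 := by
  obtain ⟨h1, h2, h3, -, -⟩ := hL
  obtain ⟨s, t, rfl⟩ := Submodule.mem_span_pair.mp hl
  obtain ⟨s', t', rfl⟩ := Submodule.mem_span_pair.mp hl'
  simp only [hr.bilinear.add_left, hr.bilinear.add_right, hr.bilinear.smul_left, hr.bilinear.smul_right, h1, h2, h3,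
    hr.symm p e]
  ring

end Line

variable [Fintype F] {Ω M : Subgroup (GL (Fin a × Fin b) F)} (C : Ctx f₁ f₂ Ω M)

/-- The root element of a singular line. -/
noncomputable def rootL {e p : Fin b → F} (hL : IsLine f₂ e p) : GL (Fin a × Fin b) F := TB C hL.1 hL.2.2.1

variable {e p : Fin b → F} (hL : IsLine f₂ e p)
include C hL

lemma five_of_line : 5 ≤ b := by
  rcases C.res with h | ⟨-, h⟩
  · exact h
  · exact absurd (h e p hL.2.2.2.1 hL.1 hL.2.1 hL.2.2.1) hL.2.2.2.2

lemma rootL_mem : rootL C hL ∈ M := TB_mem C _ _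

lemma isKron_rootL : IsKron (rootL C hL) := isKron_TB C _ _

lemma rootL_vec (v : Fin a × Fin b → F) :
    (rootL C hL).val *ᵥ v = v + pt (s2 f₂ e v) p - pt (s2 f₂ p v) e := by
  rw [rootL, TB_vec, hL.2.1]; simp

lemma rootL_sub (v : Fin a × Fin b → F) :
    ((rootL C hL).val - 1) *ᵥ v = pt (s2 f₂ e v) p - pt (s2 f₂ p v) e := by
  rw [sub_mulVec, one_mulVec, rootL_vec]; abel

lemma rootL_sub_mem (v : Fin a × Fin b → F) :
    ((rootL C hL).val - 1) *ᵥ v ∈ tens a (Submodule.span F ({e, p} : Set (Fin b → F))) := by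
  rw [rootL_sub]
  exact sub_mem (pt_mem_tens _ (Submodule.subset_span (by simp))) (pt_mem_tens _ (Submodule.subset_span (by simp)))

lemma rootL_surj {w : Fin a × Fin b → F} (hw : w ∈ tens a (Submodule.span F ({e, p} : Set (Fin b → F)))) :
    ∃ v, ((rootL C hL).val - 1) *ᵥ v = w := by
  have hr := C.right
  obtain ⟨e', p', he'e, he'p, hp'e, hp'p⟩ := exists_duals hr hL
  have hle : tens a (Submodule.span F ({e, p} : Set (Fin b → F))) ≤
      LinearMap.range (Matrix.mulVecLin ((rootL C hL).val - 1)) := fun u hu => by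
    rw [eq_sum_rows u]
    refine Submodule.sum_mem _ fun i _ => ?_
    obtain ⟨s, t, hst⟩ := Submodule.mem_span_pair.mp (mem_tens.mp hu (Pi.single i (1 : F)))
    refine ⟨pt (t • Pi.single i (1 : F)) e' - pt (s • Pi.single i (1 : F)) p', ?_⟩
    rw [Matrix.mulVecLin_apply, mulVec_sub, rootL_sub, rootL_sub, s2q hr, s2q hr, s2q hr, s2q hr, he'e, he'p, hp'e,
      hp'p, ← hst, pt_add_right, pt_smul_right, pt_smul_right]
    simp only [one_smul, zero_smul, pt_zero_left, zero_sub, sub_zero, pt_smul_left]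
    abel
  obtain ⟨v, hv⟩ := hle hw
  exact ⟨v, hv⟩

lemma rootL_sq : ((rootL C hL).val - 1) * ((rootL C hL).val - 1) = 0 :=
  Matrix.ext_iff_mulVec.mpr fun v => by
    rw [← mulVec_mulVec, zero_mulVec, rootL_sub, rootL_sub]
    simp [s2q C.right, hL.1, hL.2.1, hL.2.2.1, C.right.symm p e, pt_zero_left]

lemma rootL_fix {v : Fin a × Fin b → F} (he : s2 f₂ e v = 0) (hp : s2 f₂ p v = 0) :
    (rootL C hL).val *ᵥ v = v := by
  rw [rootL_vec, he, hp, pt_zero_left, pt_zero_left, add_zero, sub_zero]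

end CfsgLib.Classical22.TensorMax.OO
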