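/-
Elements exchanging two tensor factors of one dimension.
-/
import Cfsg.Agent.Lib.Classical22.OrthOrthTensor.Tens
import Cfsg.Agent.Lib.Classical22.TensorMaxFinal

set_option autoImplicit false
set_option linter.unusedSectionVars false

namespace CfsgLib.Classical22.TensorMax.OO

open Matrix Kronecker CfsgLib.Transvec CfsgLib.Classical22.TensorMax.SympO CfsgLib.Classical22.TensorMax.SpO
open scoped MatrixGroups

variable {F : Type*} [Field F] {a b : ℕ}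

lemma pt_ne_zero {x : Fin a → F} {u : Fin b → F} (hx : x ≠ 0) (hu : u ≠ 0) : pt x u ≠ 0 :=
  fun h => hx (pt_eq_zero hu h)

lemma sv_ne (i : Fin a) : (Pi.single i (1 : F) : Fin a → F) ≠ 0 := by simp

/-- A map given on pure vectors by two matrices has Kronecker form. -/
lemma isKron_of_mat (ha : 0 < a) (hb : 0 < b) {g : GL (Fin a × Fin b) F} (A : Matrix (Fin a) (Fin a) F)
    (B : Matrix (Fin b) (Fin b) F) (h : ∀ x u, g.val *ᵥ pt x u = pt (A *ᵥ x) (B *ᵥ u)) : IsKron g := by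
  have hne : ∀ x u, x ≠ 0 → u ≠ 0 → pt (A *ᵥ x) (B *ᵥ u) ≠ 0 := fun x u hx hu => by
    rw [← h]; exact mulVec_ne_zero g (pt_ne_zero hx hu)
  have hA : IsUnit A := Matrix.mulVec_injective_iff_isUnit.mp fun x y hxy => by
    by_contra hne'
    refine hne (x - y) (Pi.single ⟨0, hb⟩ 1) (sub_ne_zero.mpr hne') (sv_ne _) ?_
    rw [mulVec_sub, show A *ᵥ x = A *ᵥ y from hxy, sub_self, pt_zero_left]
  have hB : IsUnit B := Matrix.mulVec_injective_iff_isUnit.mp fun x y hxy => by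
    by_contra hne'
    refine hne (Pi.single ⟨0, ha⟩ 1) (x - y) (sv_ne _) (sub_ne_zero.mpr hne') ?_
    rw [mulVec_sub, show B *ᵥ x = B *ᵥ y from hxy, sub_self, pt_zero_right]
  exact isKron_of_apply hA.unit hB.unit fun x u => by rw [hA.unit_spec, hB.unit_spec]; exact h x u

lemma isKron_swaps_swaps (ha : 0 < a) (hb : 0 < b) {g h : GL (Fin a × Fin b) F} (hg : Swaps g) (hh : Swaps h) :
    IsKron (g * h) := by
  obtain ⟨P, R, hPR⟩ := hg
  obtain ⟨P', R', hPR'⟩ := hh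
  refine isKron_of_mat ha hb (P * R') (R * P') fun x u => ?_
  rw [Units.val_mul, ← mulVec_mulVec, hPR', hPR, mulVec_mulVec, mulVec_mulVec]

lemma swaps_mul_kron {g h : GL (Fin a × Fin b) F} (hg : Swaps g) (hh : IsKron h) : Swaps (g * h) := by
  obtain ⟨P, R, hPR⟩ := hg
  obtain ⟨A, B, hAB⟩ := isKron_apply hh
  exact ⟨P * B.val, R * A.val, fun x u => by
    rw [Units.val_mul, ← mulVec_mulVec, hAB, hPR, mulVec_mulVec, mulVec_mulVec]⟩

lemma kron_mul_swaps {g h : GL (Fin a × Fin b) F} (hg : IsKron g) (hh : Swaps h) : Swaps (g * h) := by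
  obtain ⟨A, B, hAB⟩ := isKron_apply hg
  obtain ⟨P, R, hPR⟩ := hh
  exact ⟨A.val * P, B.val * R, fun x u => by
    rw [Units.val_mul, ← mulVec_mulVec, hPR, hAB, mulVec_mulVec, mulVec_mulVec]⟩

lemma isKron_inv {g : GL (Fin a × Fin b) F} (hg : IsKron g) : IsKron g⁻¹ :=
  (Cfsg.Geo.kroneckerSubgroup a b F).inv_mem hg

/-- Left division by an exchanging element. -/
lemma swaps_of_mul (ha : 0 < a) (hb : 0 < b) {τ n : GL (Fin a × Fin b) F} (hτ : Swaps τ) (hn : IsKron (τ * n)) :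
    Swaps n := by
  have e : n = (τ * τ)⁻¹ * (τ * (τ * n)) := by group
  rw [e]
  exact kron_mul_swaps (isKron_inv (isKron_swaps_swaps ha hb hτ hτ)) (swaps_mul_kron hτ hn)

/-- Factors of different dimensions cannot be exchanged. -/
lemma not_swaps_of_lt (ha : 0 < a) (hab : a < b) {g : GL (Fin a × Fin b) F} : ¬ Swaps g := by
  rintro ⟨P, R, hPR⟩
  obtain ⟨u, hu, hu0⟩ : ∃ u : Fin b → F, u ≠ 0 ∧ P *ᵥ u = 0 := by
    have hk : LinearMap.ker (Matrix.mulVecLin P) ≠ ⊥ :=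
      LinearMap.ker_ne_bot_of_finrank_lt (by rw [Module.finrank_fin_fun, Module.finrank_fin_fun]; exact hab)
    obtain ⟨u, hu, hu0⟩ := Submodule.exists_mem_ne_zero_of_ne_bot hk
    exact ⟨u, hu0, LinearMap.mem_ker.mp hu⟩
  refine mulVec_ne_zero g (pt_ne_zero (sv_ne (F := F) ⟨0, ha⟩) hu) ?_
  rw [hPR, hu0, pt_zero_left]

variable {f₁ : (Fin a → F) → (Fin a → F) → F} {f₂ : (Fin b → F) → (Fin b → F) → F} [Fintype F]
  {Ω M : Subgroup (GL (Fin a × Fin b) F)} (C : Ctx f₁ f₂ Ω M)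
include C

lemma pos_dims : 0 < a ∧ 0 < b := ⟨by have := C.dim; omega, by have := C.four; omega⟩

/-- A root element is no scalar. -/
lemma rootL_ne_smul {e p : Fin b → F} (hL : IsLine f₂ e p) (c : F) :
    ¬ ∀ v, (rootL C hL).val *ᵥ v = c • v := fun h => by
  have hr := C.right
  obtain ⟨e', p', he'e, he'p, hp'e, hp'p⟩ := exists_duals hr hL
  obtain ⟨x, hx, -⟩ := exists_singular_sym C.left C.two C.dim
  have h1 := h (pt x e)
  rw [rootL_vec, s2q hr, s2q hr, hL.1, hL.2.2.1, zero_smul, pt_zero_left, pt_zero_left, add_zero, sub_zero] at h1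
  have hc : c = 1 := by
    by_contra hc
    refine pt_ne_zero hx hL.2.2.2.1 ((smul_eq_zero.mp (?_ : (c - 1) • pt x e = 0)).resolve_left (sub_ne_zero.mpr hc))
    rw [sub_smul, ← h1, one_smul, sub_self]
  have h2 := h (pt x p')
  rw [rootL_vec, s2q hr, s2q hr, hp'e, hp'p, zero_smul, one_smul, pt_zero_left, add_zero, hc, one_smul,
    sub_eq_self] at h2
  exact pt_ne_zero hx hL.2.2.2.1 h2

/-- A conjugate of a root element by an exchanging element is not a left factor. -/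
lemma not_left_swap {τ n : GL (Fin a × Fin b) F} (hτ : Swaps τ) {e p : Fin b → F} (hL : IsLine f₂ e p)
    {A : Matrix (Fin a) (Fin a) F} (hA : ∀ x u, (n * rootL C hL * n⁻¹).val *ᵥ pt x u = pt (A *ᵥ x) u) :
    ¬ ∃ A', ∀ x u, (τ * n * rootL C hL * (τ * n)⁻¹).val *ᵥ pt x u = pt (A' *ᵥ x) u := by
  rintro ⟨A', hA'⟩
  obtain ⟨y, hy⟩ : ∃ y, y = n * rootL C hL * n⁻¹ := ⟨_, rfl⟩
  rw [← hy] at hA
  rw [show τ * n * rootL C hL * (τ * n)⁻¹ = τ * y * τ⁻¹ by rw [hy]; group] at hA'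
  obtain ⟨P, R, hPR⟩ := hτ
  obtain ⟨ha, hb⟩ := pos_dims C
  have e1 : ∀ x u, pt (A' *ᵥ (P *ᵥ u)) (R *ᵥ x) = pt (P *ᵥ u) (R *ᵥ (A *ᵥ x)) := fun x u => by
    rw [← hA', ← hPR, Units.val_mul, Units.val_mul, ← mulVec_mulVec, ← mulVec_mulVec, Transvec.inv_mulVec_cancel,
      hA, hPR]
  obtain ⟨u, hu⟩ : ∃ u : Fin b → F, P *ᵥ u ≠ 0 := by
    refine ⟨Pi.single ⟨0, hb⟩ 1, fun h0 => mulVec_ne_zero τ (pt_ne_zero (sv_ne (F := F) ⟨0, ha⟩) (sv_ne ⟨0, hb⟩)) ?_⟩
    rw [hPR, h0, pt_zero_left]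
  obtain ⟨φ, -, hφ⟩ := exists_functional (E := (⊥ : Submodule F (Fin a → F))) (u := P *ᵥ u) (by simpa using hu)
  have hscal : ∃ c : F, A = c • 1 := by
    by_contra hns
    obtain ⟨z, -, hz⟩ := exists_not_eigen C.left C.two C.dim hns
    refine hz (φ ⬝ᵥ (A' *ᵥ (P *ᵥ u))) ?_
    have h := congrArg (slA φ) (e1 z u)
    rw [slA_pt, slA_pt, hφ, one_smul] at h
    by_contra hne
    refine mulVec_ne_zero τ (pt_ne_zero (sub_ne_zero.mpr hne) (u := u) fun h0 => hu (by rw [h0, mulVec_zero])) ?_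
    rw [hPR, mulVec_sub, mulVec_smul, h, sub_self, pt_zero_right]
  obtain ⟨c, rfl⟩ := hscal
  refine rootL_ne_smul C hL c fun v => ?_
  have hyv : ∀ w, y.val *ᵥ w = c • w := fun w => by
    rw [eq_sum_pt w, Matrix.mulVec_sum, Finset.smul_sum]
    exact Finset.sum_congr rfl fun j _ => by rw [hA, smul_mulVec, one_mulVec, pt_smul_left]
  refine mulVec_injective n ?_
  simp only [mulVec_smul]
  rw [← hyv, hy, Units.val_mul, Units.val_mul, ← mulVec_mulVec, ← mulVec_mulVec, Transvec.inv_mulVec_cancel]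

end CfsgLib.Classical22.TensorMax.OO
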