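/-
Conjugates of root elements that are tensor products, and unipotent subgroups containing root elements.
-/
import Cfsg.Agent.Lib.Classical22.OrthOrthTensor.Swap
import Mathlib.GroupTheory.Nilpotent

set_option autoImplicit false
set_option maxHeartbeats 800000

namespace CfsgLib.Classical22.TensorMax.OO

open Matrix Kronecker CfsgLib.Transvec CfsgLib.Classical22.TensorMax.SympO CfsgLib.Classical22.TensorMax.SpO
open scoped MatrixGroups

variable {F : Type*} [Field F] {a b : ℕ} {f₁ : (Fin a → F) → (Fin a → F) → F}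
  {f₂ : (Fin b → F) → (Fin b → F) → F}

lemma conj_sub_one (n g : GL (Fin a × Fin b) F) :
    (n * g * n⁻¹).val - 1 = n.val * (g.val - 1) * n⁻¹.val := by
  rw [Units.val_mul, Units.val_mul, Matrix.mul_sub, Matrix.sub_mul, Matrix.mul_one, Units.mul_inv]

variable [Fintype F] {Ω M : Subgroup (GL (Fin a × Fin b) F)} (C : Ctx f₁ f₂ Ω M)
include C

/-- Elements moving a singular pure subspace to another are tensor products. -/
theorem kron_of_move {n : GL (Fin a × Fin b) F} (hn : n ∈ M) {e u : Fin b → F} (he : e ≠ 0) (hee : f₂ e e = 0)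
    (hu : u ≠ 0) (huu : f₂ u u = 0) (hW : ∀ x, ∃ z, n.val *ᵥ pt x e = pt z u) : IsKron n := by
  have hr := C.right
  have h2 := C.two
  have hP : ∃ h ∈ M, IsKron h ∧ ∀ z, ∃ x, h.val *ᵥ pt x e = pt z u := by
    refine singular_all hr h2 (by have := C.four; omega)
      (P := fun u => ∃ h ∈ M, IsKron h ∧ ∀ z, ∃ x, h.val *ᵥ pt x e = pt z u) ?_ ?_ he hee
      ⟨1, M.one_mem, (Cfsg.Geo.kroneckerSubgroup a b F).one_mem, fun z => ⟨z, by rw [Units.val_one, one_mulVec]⟩⟩
      hu huu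
    · rintro c q - ⟨h, hh, hk, hx⟩
      exact ⟨h, hh, hk, fun z => (hx (c • z)).imp fun x hx' => by rw [hx', pt_smul_left, pt_smul_right]⟩
    · rintro m w q hm hmw ⟨h, hh, hk, hx⟩
      refine ⟨TB C hm hmw * h, M.mul_mem (TB_mem C hm hmw) hh, isKron_mul (isKron_TB C hm hmw) hk, fun z => ?_⟩
      obtain ⟨x, hx'⟩ := hx z
      exact ⟨x, by rw [Units.val_mul, ← mulVec_mulVec, hx', TB_apply]⟩
  obtain ⟨h, hh, hk, hx⟩ := hP
  have h1 : IsKron (h⁻¹ * n) := kron_of_fix C (M.mul_mem (M.inv_mem hh) hn) he hee fun x => by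
    obtain ⟨z, hz⟩ := hW x
    obtain ⟨x', hx'⟩ := hx z
    exact ⟨x', by rw [Units.val_mul, ← mulVec_mulVec, hz, ← hx', Transvec.inv_mulVec_cancel]⟩
  have := isKron_mul hk h1
  rwa [mul_inv_cancel_left] at this

/-- An element whose conjugate of a root element is a tensor product is a tensor product. -/
theorem kron_of_conj {n : GL (Fin a × Fin b) F} (hn : n ∈ M) {e p : Fin b → F} (hL : IsLine f₂ e p)
    (hk : IsKron (n * rootL C hL * n⁻¹))
    (hside : a < b ∨ ¬ ∃ A, ∀ x u, (n * rootL C hL * n⁻¹).val *ᵥ pt x u = pt (A *ᵥ x) u) : IsKron n := by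
  classical
  have hl := C.left
  have hr := C.right
  have h2 := C.two
  obtain ⟨y, hy⟩ : ∃ y, y = n * rootL C hL * n⁻¹ := ⟨_, rfl⟩
  rw [← hy] at hk hside
  have hyM : y ∈ M := hy ▸ M.mul_mem (M.mul_mem hn (rootL_mem C hL)) (M.inv_mem hn)
  have hysub : ∀ v, (y.val - 1) *ᵥ v = n.val *ᵥ (((rootL C hL).val - 1) *ᵥ (n⁻¹.val *ᵥ v)) := fun v => by
    rw [hy, conj_sub_one, ← mulVec_mulVec, ← mulVec_mulVec]
  have hrange : ∀ v, v ∈ tens a (Submodule.span F ({e, p} : Set (Fin b → F))) →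
      ∃ w, (y.val - 1) *ᵥ w = n.val *ᵥ v := fun v hv => by
    obtain ⟨w, hw⟩ := rootL_surj C hL hv
    exact ⟨n.val *ᵥ w, by rw [hysub, Transvec.inv_mulVec_cancel, hw]⟩
  obtain ⟨A, B, hAB⟩ := isKron_apply hk
  obtain ⟨c, hcs⟩ : ∃ c : F, A.val = c • 1 := by
    by_contra hns
    obtain ⟨z, -, hz⟩ := exists_not_eigen hl h2 C.dim hns
    have hz0 : z ≠ 0 := fun h => hz 0 (by rw [h, mulVec_zero, smul_zero])
    have hsq : ∀ x u, pt (A.val *ᵥ (A.val *ᵥ x)) (B.val *ᵥ (B.val *ᵥ u)) + pt x u =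
        (2 : F) • pt (A.val *ᵥ x) (B.val *ᵥ u) := fun x u => by
      have h0 : (y.val - 1) *ᵥ ((y.val - 1) *ᵥ pt x u) = 0 := by
        rw [hysub, hysub, Transvec.inv_mulVec_cancel, mulVec_mulVec _ ((rootL C hL).val - 1), rootL_sq, zero_mulVec,
          mulVec_zero]
      simp only [sub_mulVec, one_mulVec, mulVec_sub, hAB] at h0
      linear_combination (norm := module) h0
    have hAz : A.val *ᵥ z ∉ Submodule.span F {z} := fun h => by
      obtain ⟨l, hl'⟩ := Submodule.mem_span_singleton.mp h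
      exact hz l hl'.symm
    have hzA : z ∉ Submodule.span F {A.val *ᵥ z} := fun h => by
      obtain ⟨l, hl'⟩ := Submodule.mem_span_singleton.mp h
      have hl0 : l ≠ 0 := fun h0 => hz0 (by rw [← hl', h0, zero_smul])
      exact hz l⁻¹ (by conv_rhs => rw [← hl', smul_smul, inv_mul_cancel₀ hl0, one_smul])
    obtain ⟨φ, hφ0, hφ1⟩ := exists_functional hzA
    obtain ⟨ψ, hψ0, hψ1⟩ := exists_functional hAz
    have hc : ∀ u, (φ ⬝ᵥ (A.val *ᵥ (A.val *ᵥ z))) • (B.val *ᵥ (B.val *ᵥ u)) + u = 0 := fun u => by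
      have h := congrArg (slA φ) (hsq z u)
      rwa [map_add, map_smul, slA_pt, slA_pt, slA_pt, hφ1, hφ0 _ (Submodule.mem_span_singleton_self _), one_smul,
        zero_smul, smul_zero] at h
    obtain ⟨s, hs⟩ : ∃ s, s = φ ⬝ᵥ (A.val *ᵥ (A.val *ᵥ z)) := ⟨_, rfl⟩
    obtain ⟨t, ht⟩ : ∃ t, t = ψ ⬝ᵥ (A.val *ᵥ (A.val *ᵥ z)) := ⟨_, rfl⟩
    have hB : ∀ u, B.val *ᵥ u = (-(t / (2 * s))) • u := fun u => by
      have h := congrArg (slA ψ) (hsq z u)
      rw [map_add, map_smul, slA_pt, slA_pt, slA_pt, hψ1, hψ0 z (Submodule.mem_span_singleton_self z), one_smul,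
        zero_smul, add_zero, ← ht] at h
      have h1 := hc u
      rw [← hs] at h1
      rcases eq_or_ne s 0 with rfl | hs0
      · rw [zero_smul, zero_add] at h1
        rw [h1, mulVec_zero, smul_zero]
      have e : B.val *ᵥ (B.val *ᵥ u) = (-s⁻¹) • u := by
        rw [← inv_smul_smul₀ hs0 (B.val *ᵥ (B.val *ᵥ u)), eq_neg_of_add_eq_zero_left h1, smul_neg, neg_smul]
      rw [e, smul_smul] at h
      rw [← inv_smul_smul₀ h2 (B.val *ᵥ u), ← h, smul_smul]
      congr 1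
      field_simp
    obtain ⟨d, hd⟩ : ∃ d, d = -(t / (2 * s)) := ⟨_, rfl⟩
    simp only [← hd] at hB
    obtain ⟨A', hA'⟩ : ∃ A' : Matrix (Fin a) (Fin a) F, A' = d • A.val := ⟨_, rfl⟩
    have hy' : ∀ x u, y.val *ᵥ pt x u = pt (A' *ᵥ x) u := fun x u => by
      rw [hAB, hB, pt_smul_right, hA', smul_mulVec, pt_smul_left]
    have hab : a < b := hside.resolve_right fun h => h ⟨A', hy'⟩
    obtain ⟨R, hR⟩ : ∃ R : Submodule F (Fin a → F), R = LinearMap.range (Matrix.mulVecLin (A' - 1)) := ⟨_, rfl⟩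
    -- the image of the line tensor has rows in the range
    obtain ⟨Φ, hΦ⟩ : ∃ Φ : (Fin b → R) →ₗ[F] (Fin a × Fin b → F), ∀ c q, Φ c q = (c q.2).1 q.1 :=
      ⟨{ toFun := fun c q => (c q.2).1 q.1
         map_add' := fun c d => funext fun q => rfl
         map_smul' := fun t c => funext fun q => rfl }, fun c q => rfl⟩
    have hΦinj : Function.Injective Φ := fun c d hcd => funext fun j => Subtype.ext (funext fun i => by
      simpa [hΦ] using congrFun hcd (i, j))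
    have hle : LinearMap.range (Matrix.mulVecLin (y.val - 1)) = LinearMap.range Φ := by
      refine le_antisymm ?_ ?_
      · rintro _ ⟨v, rfl⟩
        rw [eq_sum_pt v, map_sum]
        refine Submodule.sum_mem _ fun j _ => ?_
        refine ⟨Pi.single j ⟨(A' - 1) *ᵥ fun i => v (i, j), hR ▸ ⟨_, rfl⟩⟩, ?_⟩
        funext q
        rw [hΦ]
        conv_rhs => rw [Matrix.mulVecLin_apply, sub_mulVec, one_mulVec, hy', ← pt_sub_left]
        rcases eq_or_ne q.2 j with hq | hq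
        · subst hq; simp [pt, sub_mulVec]
        · simp [pt, Pi.single_eq_of_ne hq]
      · rintro _ ⟨c, rfl⟩
        have e1 : Φ c = ∑ j, pt (c j).1 (Pi.single j 1) := by
          conv_lhs => rw [eq_sum_pt (Φ c)]
          exact Finset.sum_congr rfl fun j _ => by simp [hΦ]
        rw [e1]
        refine Submodule.sum_mem _ fun j _ => ?_
        obtain ⟨x, hx⟩ : ((c j).1) ∈ LinearMap.range (Matrix.mulVecLin (A' - 1)) := hR ▸ (c j).2
        refine ⟨pt x (Pi.single j 1), ?_⟩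
        rw [← hx, Matrix.mulVecLin_apply, Matrix.mulVecLin_apply, sub_mulVec, one_mulVec, hy', sub_mulVec, one_mulVec,
          pt_sub_left]
    have hdim : Module.finrank F (LinearMap.range (Matrix.mulVecLin (y.val - 1))) = a * 2 := by
      have : LinearMap.range (Matrix.mulVecLin (y.val - 1)) =
          img n (tens a (Submodule.span F ({e, p} : Set (Fin b → F)))) := by
        refine le_antisymm ?_ fun v hv => ?_
        · rintro _ ⟨v, rfl⟩
          exact mem_img.mpr ⟨_, rootL_sub_mem C hL _, by rw [Matrix.mulVecLin_apply, hysub]⟩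
        · obtain ⟨w, hw, rfl⟩ := mem_img.mp hv
          obtain ⟨z', hz'⟩ := hrange w hw
          exact ⟨z', hz'⟩
      rw [this, finrank_img, finrank_tens, finrank_line hr hL]
    rw [hle, LinearMap.finrank_range_of_inj hΦinj, Module.finrank_pi_fintype, Finset.sum_const, Finset.card_univ,
      Fintype.card_fin, smul_eq_mul] at hdim
    have hR1 : Module.finrank F R ≤ 1 := by
      by_contra hgt
      push Not at hgt
      have hge : b * 2 ≤ b * Module.finrank F R := Nat.mul_le_mul_left b hgt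
      omega
    have hiso : ∀ x x', f₁ (A' *ᵥ x) (A' *ᵥ x') = f₁ x x' := fun x x' => by
      obtain ⟨u, -, hq⟩ := exists_aniso hr h2 (nd_top hr) (by
        rw [finrank_top, Module.finrank_fin_fun]; have := C.four; omega)
      have h := isoM C hyM (pt x u) (pt x' u)
      rw [hy', hy', bform_ptpt hl hr, bform_ptpt hl hr] at h
      exact mul_right_cancel₀ hq h
    have hA'1 : A' = 1 := by
      by_contra hne
      obtain ⟨x₁, hx₁⟩ : ∃ x, (A' - 1) *ᵥ x ≠ 0 := by
        by_contra hc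
        push Not at hc
        exact hne (sub_eq_zero.mp (Matrix.ext_iff_mulVec.mpr fun x => by rw [hc, zero_mulVec]))
      obtain ⟨r, hr'⟩ : ∃ r, r = (A' - 1) *ᵥ x₁ := ⟨_, rfl⟩
      rw [← hr'] at hx₁
      have hrR : r ∈ R := hR ▸ hr' ▸ ⟨x₁, rfl⟩
      have hspan : ∀ x, ∃ s : F, (A' - 1) *ᵥ x = s • r := fun x => by
        have h1 : Submodule.span F {r} = R := Submodule.eq_of_le_of_finrank_le
          ((Submodule.span_singleton_le_iff_mem _ _).mpr hrR) (by rwa [finrank_span_singleton hx₁])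
        obtain ⟨s, hs⟩ := Submodule.mem_span_singleton.mp (h1 ▸ (hR ▸ ⟨x, rfl⟩ : (A' - 1) *ᵥ x ∈ R))
        exact ⟨s, hs.symm⟩
      choose g hg using hspan
      have hAg : ∀ x, A' *ᵥ x = x + g x • r := fun x => by rw [← hg, sub_mulVec, one_mulVec]; abel
      have hgr : g r = 0 := by
        have h0 : (A' - 1) *ᵥ ((A' - 1) *ᵥ x₁) = 0 := by
          obtain ⟨u, hu⟩ : ∃ u : Fin b → F, u ≠ 0 :=
            ⟨Pi.single ⟨0, by have := C.four; omega⟩ 1, by simp⟩
          refine pt_eq_zero hu ?_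
          have e : ∀ x, pt ((A' - 1) *ᵥ x) u = (y.val - 1) *ᵥ pt x u := fun x => by
            rw [sub_mulVec, sub_mulVec, one_mulVec, one_mulVec, hy', pt_sub_left]
          rw [e, e, hysub, hysub, Transvec.inv_mulVec_cancel, mulVec_mulVec _ ((rootL C hL).val - 1), rootL_sq,
            zero_mulVec, mulVec_zero]
        rw [← hr', hg, smul_eq_zero] at h0
        exact h0.resolve_right hx₁
      have h1 : ∀ x x', g x' * f₁ x r + g x * f₁ r x' + g x * g x' * f₁ r r = 0 := fun x x' => by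
        have h := hiso x x'
        rw [hAg, hAg] at h
        simp only [hl.bilinear.add_left, hl.bilinear.add_right, hl.bilinear.smul_left, hl.bilinear.smul_right] at h
        linear_combination h
      have hg₁ : g x₁ ≠ 0 := fun h0 => hx₁ (by rw [hr', hg, h0, zero_smul])
      have hrr : f₁ r r = 0 := by
        have h := h1 x₁ r
        rw [hgr] at h
        exact (mul_eq_zero.mp (by linear_combination h : g x₁ * f₁ r r = 0)).resolve_left hg₁
      have hx₁r : f₁ x₁ r = 0 := by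
        have h := h1 x₁ x₁
        rw [hrr, hl.symm r x₁] at h
        exact (mul_eq_zero.mp (by linear_combination h : 2 * g x₁ * f₁ x₁ r = 0)).resolve_left
          (mul_ne_zero h2 hg₁)
      refine hx₁ (sym_eq hl fun x => ?_)
      have h := h1 x₁ x
      rw [hrr, hx₁r] at h
      rw [sym_zero_left hl]
      exact (mul_eq_zero.mp (by linear_combination h : g x₁ * f₁ r x = 0)).resolve_left hg₁
    refine hns ⟨d⁻¹, ?_⟩
    have hd0 : d ≠ 0 := fun h0 => by
      rw [hA', h0, zero_smul] at hA'1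
      have := congrFun (congrFun hA'1 ⟨0, by have := C.dim; omega⟩) ⟨0, by have := C.dim; omega⟩
      simp at this
    rw [← hA'1, hA', inv_smul_smul₀ hd0]
  -- the image of the line tensor
  obtain ⟨β, hβ⟩ : ∃ β : Matrix (Fin b) (Fin b) F, β = c • B.val := ⟨_, rfl⟩
  have hy1 : ∀ x u, y.val *ᵥ pt x u = pt x (β *ᵥ u) := fun x u => by
    rw [hAB, hcs, smul_mulVec, one_mulVec, pt_smul_left, hβ, smul_mulVec, pt_smul_right]
  obtain ⟨l, hl0, hlim⟩ : ∃ l, l ≠ 0 ∧ ∀ x, ∃ v ∈ tens a (Submodule.span F ({e, p} : Set (Fin b → F))),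
      n.val *ᵥ v = pt x l := by
    obtain ⟨u₀, hu₀⟩ : ∃ u₀, β *ᵥ u₀ - u₀ ≠ 0 := by
      by_contra hc
      push Not at hc
      have hyone : ∀ v, (y.val - 1) *ᵥ v = 0 := fun v => by
        rw [eq_sum_pt v, Matrix.mulVec_sum]
        exact Finset.sum_eq_zero fun j _ => by rw [sub_mulVec, one_mulVec, hy1, ← pt_sub_right, hc, pt_zero_right]
      obtain ⟨x, hx, -⟩ := exists_singular_sym hl h2 C.dim
      have hxe : pt x e ∈ tens a (Submodule.span F ({e, p} : Set (Fin b → F))) :=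
        pt_mem_tens _ (Submodule.subset_span (by simp))
      obtain ⟨w, hw⟩ := hrange _ hxe
      rw [hyone] at hw
      exact hx (pt_eq_zero hL.2.2.2.1 (mulVec_injective n (by simpa using hw.symm)))
    refine ⟨_, hu₀, fun x => ⟨_, rootL_sub_mem C hL (n⁻¹.val *ᵥ pt x u₀), ?_⟩⟩
    rw [← hysub, sub_mulVec, one_mulVec, hy1, ← pt_sub_right]
  have hll : f₂ l l = 0 := by
    obtain ⟨x, hx, hxx⟩ := exists_singular_sym hl h2 C.dim
    obtain ⟨x', hx', hxx', -⟩ := exists_partner_sym hl h2 hx hxx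
    obtain ⟨v, hv, hnv⟩ := hlim x
    obtain ⟨v', hv', hnv'⟩ := hlim x'
    have h := isoM C hn v v'
    rw [hnv, hnv', bform_ptpt hl hr, hxx', one_mul] at h
    rw [h, eq_sum_rows v, eq_sum_rows v']
    simp only [bform_sum_left hl, bform_sum_right hl, bform_ptpt hl hr]
    exact Finset.sum_eq_zero fun i _ => Finset.sum_eq_zero fun j _ => by
      rw [line_singular hr hL (mem_tens.mp hv _) (mem_tens.mp hv' _), mul_zero]
  -- a second element with a larger fixed space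
  obtain ⟨e', p', he'e, he'p, hp'e, hp'p⟩ := exists_duals hr hL
  obtain ⟨t, hte, htp, htt⟩ : ∃ t, f₂ t e = 0 ∧ f₂ t p = 0 ∧ f₂ t t ≠ 0 := by
    obtain ⟨m, hm⟩ : ∃ m, m = p' - (f₂ p' p' / 2) • p := ⟨_, rfl⟩
    have hme : f₂ m e = 0 := by rw [hm, sym_sub_left hr, hr.bilinear.smul_left, hp'e, hr.symm p e, hL.2.2.1]; ring
    have hpm : f₂ p m = 1 := by rw [hm, sym_sub_right hr, hr.bilinear.smul_right, hr.symm p p', hp'p, hL.2.1]; ring
    have hmm : f₂ m m = 0 := by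
      rw [hm]
      simp only [sym_sub_left hr, sym_sub_right hr, hr.bilinear.smul_left, hr.bilinear.smul_right, hp'p, hL.2.1,
        hr.symm p p']
      field_simp
      ring
    obtain ⟨t, htp, -, hte, htt⟩ := exists_second_pair hr h2 (five_of_line C hL) hL.2.1 hmm hpm hL.2.2.2.1 hL.1 hL.2.2.1
      (by rw [hr.symm, hme])
    exact ⟨t, hte, htp, htt⟩
  have het : f₂ e t = 0 := by rw [hr.symm, hte]
  obtain ⟨y', hy'⟩ : ∃ y', y' = n * TB C hL.1 het * n⁻¹ := ⟨_, rfl⟩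
  have hy'M : y' ∈ M := hy' ▸ M.mul_mem (M.mul_mem hn (TB_mem C _ _)) (M.inv_mem hn)
  have hTfix : ∀ x q, q ∈ Submodule.span F ({e, p} : Set (Fin b → F)) →
      (TB C hL.1 het).val *ᵥ pt x q = pt x q := fun x q hq => by
    obtain ⟨s, t', rfl⟩ := Submodule.mem_span_pair.mp hq
    rw [TB_apply, eA_fix hr (line_singular hr hL (Submodule.mem_span_pair.mpr ⟨s, t', rfl⟩)
      (Submodule.subset_span (by simp))) (by
      rw [hr.bilinear.add_left, hr.bilinear.smul_left, hr.bilinear.smul_left, het, hr.symm p t, htp]; ring)]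
  have hy'l : ∀ x, y'.val *ᵥ pt x l = pt x l := fun x => by
    obtain ⟨v, hv, hnv⟩ := hlim x
    rw [← hnv, hy', Units.val_mul, Units.val_mul, ← mulVec_mulVec, ← mulVec_mulVec, Transvec.inv_mulVec_cancel,
      show (TB C hL.1 het).val *ᵥ v = v from lin_ext_tens (L := Matrix.mulVecLin (TB C hL.1 het).val)
        (L' := LinearMap.id) hTfix hv]
  obtain ⟨A₂, B₂, hAB₂⟩ := isKron_apply (kron_of_fix C hy'M hl0 hll fun x => ⟨x, hy'l x⟩)
  obtain ⟨l', hl'⟩ : ∃ l', f₂ l l' = 1 := by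
    obtain ⟨m, -, h, -⟩ := exists_partner_sym hr h2 hl0 hll
    exact ⟨m, h⟩
  have hA₂ : ∀ x, f₂ (B₂.val *ᵥ l) l' • (A₂.val *ᵥ x) = x := fun x => by
    have h := congrArg (s2 f₂ l') (hAB₂ x l)
    rw [hy'l, s2q hr, s2q hr, hl', one_smul] at h
    exact h.symm
  obtain ⟨k, hk'⟩ : ∃ k, k = f₂ (B₂.val *ᵥ l) l' := ⟨_, rfl⟩
  simp only [← hk'] at hA₂
  have hk0 : k ≠ 0 := fun h0 => by
    obtain ⟨x, hx, -⟩ := exists_singular_sym hl h2 C.dim
    exact hx (by rw [← hA₂ x, h0, zero_smul])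
  obtain ⟨γ, hγ⟩ : ∃ γ : Matrix (Fin b) (Fin b) F, γ = k⁻¹ • B₂.val - 1 := ⟨_, rfl⟩
  have hy2 : ∀ x u, (y'.val - 1) *ᵥ pt x u = pt x (γ *ᵥ u) := fun x u => by
    rw [sub_mulVec, one_mulVec, hAB₂, hγ, sub_mulVec, one_mulVec, smul_mulVec, pt_sub_right, pt_smul_right]
    congr 1
    conv_rhs => rw [← hA₂ x, pt_smul_left, inv_smul_smul₀ hk0]
  obtain ⟨Q, hQ⟩ : ∃ Q : Submodule F (Fin b → F), Q = LinearMap.range (Matrix.mulVecLin (γ * γ)) := ⟨_, rfl⟩
  have hT2 : ∀ v, ((TB C hL.1 het).val - 1) *ᵥ (((TB C hL.1 het).val - 1) *ᵥ v) =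
      pt ((-(f₂ t t)) • s2 f₂ e v) e := fun v => by
    have e1 := lin_ext (L := (Matrix.mulVecLin ((TB C hL.1 het).val - 1)).comp
        (Matrix.mulVecLin ((TB C hL.1 het).val - 1)))
      (L' := (ptL e).comp ((-(f₂ t t)) • s2 f₂ e)) fun x u => by
        have e2 : ∀ u, ((TB C hL.1 het).val - 1) *ᵥ pt x u = pt x ((eA f₂ e t - 1) *ᵥ u) := fun u => by
          rw [sub_mulVec, one_mulVec, TB_apply, sub_mulVec, one_mulVec, pt_sub_right]
        simp only [LinearMap.comp_apply, Matrix.mulVecLin_apply, e2, eA_sub_one_sq hr hL.1 het, LinearMap.smul_apply,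
          ptL_apply, s2q hr, smul_smul, pt_smul_left, pt_smul_right]
        ring_nf
    exact LinearMap.congr_fun e1 v
  have him : img n (pureW a e) = tens a Q := by
    have hsub2 : ∀ v, (y'.val - 1) *ᵥ ((y'.val - 1) *ᵥ v) =
        n.val *ᵥ (((TB C hL.1 het).val - 1) *ᵥ (((TB C hL.1 het).val - 1) *ᵥ (n⁻¹.val *ᵥ v))) := fun v => by
      rw [hy', conj_sub_one]
      simp only [← mulVec_mulVec, Transvec.inv_mulVec_cancel]
    refine le_antisymm ?_ ?_
    · rintro v hv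
      obtain ⟨w, ⟨x, rfl⟩, rfl⟩ := mem_img.mp hv
      obtain ⟨v', hv'⟩ : ∃ v', ((TB C hL.1 het).val - 1) *ᵥ (((TB C hL.1 het).val - 1) *ᵥ v') = ptL e x :=
        ⟨pt ((-(f₂ t t))⁻¹ • x) e', by
          rw [hT2, s2q hr, he'e, one_smul, smul_inv_smul₀ (neg_ne_zero.mpr htt), ptL_apply]⟩
      rw [← hv', show v' = n⁻¹.val *ᵥ (n.val *ᵥ v') by rw [Transvec.inv_mulVec_cancel], ← hsub2,
        eq_sum_rows (n.val *ᵥ v'), Matrix.mulVec_sum, Matrix.mulVec_sum]
      refine Submodule.sum_mem _ fun i _ => ?_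
      rw [hy2, hy2, mulVec_mulVec]
      exact pt_mem_tens _ (hQ ▸ ⟨_, rfl⟩)
    · intro v hv
      rw [eq_sum_rows v]
      refine Submodule.sum_mem _ fun i _ => ?_
      obtain ⟨u, hu⟩ : slA (Pi.single i (1 : F)) v ∈ LinearMap.range (Matrix.mulVecLin (γ * γ)) :=
        hQ ▸ mem_tens.mp hv _
      rw [← hu, Matrix.mulVecLin_apply, ← mulVec_mulVec, ← hy2, ← hy2, hsub2, hT2]
      exact mem_img.mpr ⟨_, pt_mem_pureW _ _, rfl⟩
  have hQ1 : Module.finrank F Q = 1 := by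
    have h := congrArg (fun W : Submodule F (Fin a × Fin b → F) => Module.finrank F W) him
    simp only [finrank_img, finrank_pureW hL.2.2.2.1, finrank_tens] at h
    have := C.dim
    nlinarith
  obtain ⟨⟨u₂, hu₂Q⟩, hu₂, hu₂s⟩ := finrank_eq_one_iff'.mp hQ1
  have hu₂0 : u₂ ≠ 0 := fun h => hu₂ (Subtype.ext h)
  have hQspan : Q ≤ Submodule.span F {u₂} := fun q hq => by
    obtain ⟨c, hc⟩ := hu₂s ⟨q, hq⟩
    exact Submodule.mem_span_singleton.mpr ⟨c, congrArg Subtype.val hc⟩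
  have hu₂u₂ : f₂ u₂ u₂ = 0 := by
    obtain ⟨x, hx, hxx⟩ := exists_singular_sym hl h2 C.dim
    obtain ⟨x', hx', hxx', -⟩ := exists_partner_sym hl h2 hx hxx
    have hmem : ∀ x, ∃ w, n.val *ᵥ pt w e = pt x u₂ := fun x => by
      obtain ⟨w, ⟨z, rfl⟩, hw⟩ := mem_img.mp (him.ge (pt_mem_tens x hu₂Q))
      exact ⟨z, hw⟩
    obtain ⟨w, hw⟩ := hmem x
    obtain ⟨w', hw'⟩ := hmem x'
    have h := isoM C hn (pt w e) (pt w' e)
    rw [hw, hw', bform_ptpt hl hr, bform_ptpt hl hr, hxx', one_mul, hL.1, mul_zero] at h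
    exact h
  refine kron_of_move C hn hL.2.2.2.1 hL.1 hu₂0 hu₂u₂ fun x => ?_
  exact exists_pt_of_tens (tens_mono hQspan (him.le (mem_img.mpr ⟨pt x e, pt_mem_pureW _ _, rfl⟩)))

/-- An element commuting with a root element is a tensor product. -/
theorem kron_of_comm {n : GL (Fin a × Fin b) F} (hn : n ∈ M) {e p : Fin b → F} (hL : IsLine f₂ e p)
    (hc : n * rootL C hL = rootL C hL * n) : IsKron n := by
  have he : n * rootL C hL * n⁻¹ = rootL C hL := by rw [hc, mul_inv_cancel_right]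
  refine kron_of_conj C hn hL (by rw [he]; exact isKron_rootL C hL) (Or.inr ?_)
  rintro ⟨A, hA⟩
  rw [he] at hA
  have hr := C.right
  obtain ⟨e', p', he'e, he'p, hp'e, hp'p⟩ := exists_duals hr hL
  obtain ⟨x, hx, -⟩ := exists_singular_sym C.left C.two C.dim
  have h1 := hA x e
  rw [rootL_vec, s2q hr, s2q hr, hL.1, hL.2.2.1, zero_smul, pt_zero_left, pt_zero_left, add_zero, sub_zero] at h1
  have hAx : A *ᵥ x = x := (pt_injective hL.2.2.2.1 h1).symm
  have h2 := hA x p'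
  rw [hAx, rootL_vec, s2q hr, s2q hr, hp'e, hp'p, zero_smul, one_smul, pt_zero_left, add_zero, sub_eq_self] at h2
  exact pt_ne_zero hx hL.2.2.2.1 h2

/-- A matrix commuting with the Eichler elements of the second factor is a left factor. -/
theorem left_of_comm_TB {K : Matrix (Fin a × Fin b) (Fin a × Fin b) F}
    (hK : ∀ (u w : Fin b → F) (hu : f₂ u u = 0) (huw : f₂ u w = 0) (v : Fin a × Fin b → F),
      K *ᵥ ((TB C hu huw).val *ᵥ v) = (TB C hu huw).val *ᵥ (K *ᵥ v)) :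
    ∃ A : Matrix (Fin a) (Fin a) F, ∀ x u, K *ᵥ pt x u = pt (A *ᵥ x) u := by
  have hl := C.left
  have hr := C.right
  have h2 := C.two
  have hb3 : 3 ≤ b := by have := C.four; omega
  obtain ⟨e, he, hee⟩ := exists_singular_sym hr h2 hb3
  obtain ⟨e', he', hee', he'e⟩ := exists_partner_sym hr h2 he hee
  obtain ⟨t, hte, -, htt⟩ := exists_aniso_pairW hr h2 hb3 hee he' hee'
  have het : f₂ e t = 0 := by rw [hr.symm, hte]
  obtain ⟨N, hN⟩ : ∃ N, N = (TB C hee het).val - 1 := ⟨_, rfl⟩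
  have hN2 : ∀ v, N *ᵥ (N *ᵥ v) = pt ((-(f₂ t t)) • s2 f₂ e v) e := fun v => by
    have e1 := lin_ext (L := (Matrix.mulVecLin N).comp (Matrix.mulVecLin N))
      (L' := (ptL e).comp ((-(f₂ t t)) • s2 f₂ e)) fun x u => by
        have e2 : ∀ u, N *ᵥ pt x u = pt x ((eA f₂ e t - 1) *ᵥ u) := fun u => by
          rw [hN, sub_mulVec, one_mulVec, TB_apply, sub_mulVec, one_mulVec, pt_sub_right]
        simp only [LinearMap.comp_apply, Matrix.mulVecLin_apply, e2, eA_sub_one_sq hr hee het, LinearMap.smul_apply,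
          ptL_apply, s2q hr, smul_smul, pt_smul_left, pt_smul_right]
        ring_nf
    exact LinearMap.congr_fun e1 v
  obtain ⟨A, hA⟩ : ∃ A : Matrix (Fin a) (Fin a) F, ∀ x, K *ᵥ pt x e = pt (A *ᵥ x) e := by
    refine ⟨LinearMap.toMatrix' ((s2 f₂ e').comp ((Matrix.mulVecLin K).comp (ptL e))), fun x => ?_⟩
    obtain ⟨w, hw⟩ : ∃ w, N *ᵥ (N *ᵥ w) = pt x e := ⟨pt ((-(f₂ t t))⁻¹ • x) e', by
      rw [hN2, s2q hr, he'e, one_smul, smul_inv_smul₀ (neg_ne_zero.mpr htt)]⟩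
    have hc : ∀ v, K *ᵥ (N *ᵥ v) = N *ᵥ (K *ᵥ v) := fun v => by
      rw [hN, sub_mulVec, sub_mulVec, one_mulVec, one_mulVec, mulVec_sub, hK]
    have h1 : K *ᵥ pt x e = pt ((-(f₂ t t)) • s2 f₂ e (K *ᵥ w)) e := by rw [← hw, hc, hc, hN2]
    rw [LinearMap.toMatrix'_mulVec, LinearMap.comp_apply, LinearMap.comp_apply, ptL_apply, Matrix.mulVecLin_apply, h1,
      s2q hr, hee', one_smul]
  have hsing : ∀ u, f₂ u u = 0 → ∀ x, K *ᵥ pt x u = pt (A *ᵥ x) u := fun u hu => by
    rcases eq_or_ne u 0 with rfl | hu0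
    · intro x; rw [pt_zero_right, mulVec_zero, pt_zero_right]
    refine singular_all hr h2 hb3 (P := fun u => ∀ x, K *ᵥ pt x u = pt (A *ᵥ x) u) ?_ ?_ he hee hA hu0 hu
    · intro c u _ h x; rw [pt_smul_right, mulVec_smul, h, pt_smul_right]
    · intro m w q hm hmw h x
      rw [← TB_apply C hm hmw, hK, h, TB_apply]
  refine ⟨A, fun x u => ?_⟩
  obtain ⟨S, hS⟩ : ∃ S : Submodule F (Fin b → F), ∀ u, u ∈ S ↔ ∀ x, K *ᵥ pt x u = pt (A *ᵥ x) u :=
    ⟨{ carrier := {u | ∀ x, K *ᵥ pt x u = pt (A *ᵥ x) u}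
       zero_mem' := fun x => by rw [pt_zero_right, mulVec_zero, pt_zero_right]
       add_mem' := fun {u v} hu hv x => by rw [pt_add_right, mulVec_add, hu x, hv x, pt_add_right]
       smul_mem' := fun c u hu x => by rw [pt_smul_right, mulVec_smul, hu x, pt_smul_right] }, fun u => Iff.rfl⟩
  exact (hS u).mp (mem_of_nonorth hr h2 hb3 he hee (fun x' h1 _ => (hS x').mpr (hsing x' h1)) u) x

/-- An element taking one root element to a left factor, but no tensor product, pulls the Eichler elements of the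
second factor back to left factors. -/
theorem left_of_left {n : GL (Fin a × Fin b) F} (hn : n ∈ M) (hnk : ¬ IsKron n) {e p : Fin b → F} (hL : IsLine f₂ e p)
    {A₀ : Matrix (Fin a) (Fin a) F} (hA₀ : ∀ x u, (n * rootL C hL * n⁻¹).val *ᵥ pt x u = pt (A₀ *ᵥ x) u)
    {u w : Fin b → F} (hu : f₂ u u = 0) (huw : f₂ u w = 0) :
    ∃ A : Matrix (Fin a) (Fin a) F, ∀ x z, (n⁻¹ * TB C hu huw * n).val *ᵥ pt x z = pt (A *ᵥ x) z := by
  have hr := C.right
  have h2 := C.two
  obtain ⟨G, hG⟩ : ∃ G : GL (Fin a × Fin b) F → Prop,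
      ∀ g, G g ↔ ∃ A : Matrix (Fin a) (Fin a) F, ∀ x z, (n⁻¹ * g * n).val *ᵥ pt x z = pt (A *ᵥ x) z :=
    ⟨_, fun g => Iff.rfl⟩
  rw [← hG]
  have hone : G 1 := (hG _).mpr ⟨1, fun x z => by rw [mul_one, inv_mul_cancel, Units.val_one, one_mulVec, one_mulVec]⟩
  have hmul : ∀ g h, G g → G h → G (g * h) := fun g h hg hh => by
    obtain ⟨A, hA⟩ := (hG _).mp hg
    obtain ⟨B, hB⟩ := (hG _).mp hh
    refine (hG _).mpr ⟨A * B, fun x z => ?_⟩
    rw [show n⁻¹ * (g * h) * n = (n⁻¹ * g * n) * (n⁻¹ * h * n) by group, Units.val_mul, ← mulVec_mulVec, hB, hA,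
      mulVec_mulVec]
  have hline : ∀ e' p' (hL' : IsLine f₂ e' p'), G (rootL C hL') := fun e' p' hL' => by
    refine (hG _).mpr ?_
    obtain ⟨y, hy⟩ : ∃ y, y = n * rootL C hL * n⁻¹ := ⟨_, rfl⟩
    rw [← hy] at hA₀
    have hzy : rootL C hL' * y = y * rootL C hL' := Units.ext (Matrix.ext_iff_mulVec.mpr fun v => by
      have e1 := lin_ext (L := (Matrix.mulVecLin (rootL C hL').val).comp (Matrix.mulVecLin y.val))
        (L' := (Matrix.mulVecLin y.val).comp (Matrix.mulVecLin (rootL C hL').val)) fun x z => by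
          simp only [LinearMap.comp_apply, Matrix.mulVecLin_apply, hA₀, rootL, TB_apply]
      rw [Units.val_mul, Units.val_mul, ← mulVec_mulVec, ← mulVec_mulVec]
      exact LinearMap.congr_fun e1 v)
    have hzM : n⁻¹ * rootL C hL' * n ∈ M := M.mul_mem (M.mul_mem (M.inv_mem hn) (rootL_mem C hL')) hn
    have hzk : IsKron (n⁻¹ * rootL C hL' * n) := kron_of_comm C hzM hL (by
      rw [show n⁻¹ * rootL C hL' * n * rootL C hL = n⁻¹ * (rootL C hL' * y) * n by rw [hy]; group, hzy, hy]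
      group)
    by_contra hne
    have h := kron_of_conj C (M.inv_mem hn) hL' (by rwa [inv_inv]) (Or.inr (by rwa [inv_inv]))
    exact hnk (by simpa using isKron_inv h)
  rcases eq_or_ne u 0 with rfl | hu0
  · have : TB C hu huw = 1 := Units.ext (Matrix.ext_iff_mulVec.mpr fun v => by
      rw [TB_vec, Units.val_one, one_mulVec]; simp [s2, sl, pt_zero_left, pt_zero_right, funext_iff, pt])
    rw [this]; exact hone
  obtain ⟨S, hS⟩ : ∃ S : Submodule F (Fin b → F),
      ∀ z, z ∈ S ↔ ∀ c : F, ∃ h : f₂ u (c • z) = 0, G (TB C hu h) :=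
    ⟨{ carrier := {z | ∀ c : F, ∃ h : f₂ u (c • z) = 0, G (TB C hu h)}
       zero_mem' := fun c => ⟨by rw [smul_zero, sym_zero_right hr], by
         convert hone using 1
         exact Units.ext (Matrix.ext_iff_mulVec.mpr fun v => by
           rw [TB_vec, Units.val_one, one_mulVec]; simp [s2, sl, sym_zero_right hr, pt_zero_left, pt_zero_right, funext_iff, pt])⟩
       add_mem' := fun {z z'} hz hz' c => by
         obtain ⟨h, hg⟩ := hz c
         obtain ⟨h', hg'⟩ := hz' c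
         refine ⟨by rw [smul_add, hr.bilinear.add_right, h, h', add_zero], ?_⟩
         convert hmul _ _ hg hg' using 1
         refine Units.ext (Matrix.ext_iff_mulVec.mpr fun v => ?_)
         have e1 := lin_ext
           (L := Matrix.mulVecLin (TB C hu (show f₂ u (c • (z + z')) = 0 by
             rw [smul_add, hr.bilinear.add_right, h, h', add_zero])).val)
           (L' := (Matrix.mulVecLin (TB C hu h).val).comp (Matrix.mulVecLin (TB C hu h').val)) fun x q => by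
             simp only [LinearMap.comp_apply, Matrix.mulVecLin_apply, TB_apply, mulVec_mulVec,
               ← eA_mul hr h2 hu h h', smul_add]
         rw [Units.val_mul, ← mulVec_mulVec]
         exact LinearMap.congr_fun e1 v
       smul_mem' := fun d z hz c => by simpa only [smul_smul] using hz (c * d) }, fun z => Iff.rfl⟩
  have hb5 : 5 ≤ b := five_of_line C hL
  have hsing : ∀ p, f₂ p p = 0 → f₂ p u = 0 → p ∈ S := fun p hp hpu => by
    refine (hS p).mpr fun c => ⟨by rw [hr.bilinear.smul_right, hr.symm, hpu, mul_zero], ?_⟩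
    by_cases hc : c • p ∈ Submodule.span F {u}
    · convert hone using 1
      obtain ⟨d, hd⟩ := Submodule.mem_span_singleton.mp hc
      refine Units.ext (Matrix.ext_iff_mulVec.mpr fun v => ?_)
      rw [TB_vec, Units.val_one, one_mulVec]
      simp only [← hd, s2_smul, pt_smul_right, pt_smul_left, hr.bilinear.smul_left, hr.bilinear.smul_right, hu,
        mul_zero, zero_div, zero_smul]
      module
    · exact hline u (c • p) ⟨hu, by rw [hr.bilinear.smul_left, hr.bilinear.smul_right, hp, mul_zero, mul_zero],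
        by rw [hr.bilinear.smul_right, hr.symm, hpu, mul_zero], hu0, hc⟩
  obtain ⟨h, hg⟩ := (hS w).mp (mem_of_singular_perp hr h2 hb5 hu0 hu hsing (by rw [hr.symm, huw])) 1
  convert hg using 2
  exact (one_smul F w).symm

/-- An element whose conjugate of a root element is a tensor product stabilises the pair of factors. -/
theorem tw_of_conj {n : GL (Fin a × Fin b) F} (hn : n ∈ M) {e p : Fin b → F} (hL : IsLine f₂ e p)
    (hk : IsKron (n * rootL C hL * n⁻¹)) : IsTw n := by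
  classical
  obtain ⟨ha, hb⟩ := pos_dims C
  rcases C.side.lt_or_eq with hlt | hab
  · exact Or.inl (kron_of_conj C hn hL hk (Or.inl hlt))
  by_cases hnk : IsKron n
  · exact Or.inl hnk
  by_cases h : ∃ A, ∀ x u, (n * rootL C hL * n⁻¹).val *ᵥ pt x u = pt (A *ᵥ x) u
  swap
  · exact Or.inl (kron_of_conj C hn hL hk (Or.inr h))
  obtain ⟨A₀, hA₀⟩ := h
  have hinv := fun {u w : Fin b → F} (hu : f₂ u u = 0) (huw : f₂ u w = 0) => left_of_left C hn hnk hL hA₀ hu huw
  -- conjugates of right factors are left factors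
  have hα : ∀ B : Matrix (Fin b) (Fin b) F, ∃ A : Matrix (Fin a) (Fin a) F, ∀ x u,
      (n.val * ((1 : Matrix (Fin a) (Fin a) F) ⊗ₖ B) * n⁻¹.val) *ᵥ pt x u = pt (A *ᵥ x) u := fun B => by
    refine left_of_comm_TB C fun u w hu huw v => ?_
    obtain ⟨A, hA⟩ := hinv hu huw
    obtain ⟨z, hz⟩ : ∃ z, z = n⁻¹ * TB C hu huw * n := ⟨_, rfl⟩
    rw [← hz] at hA
    have e1 : ∀ v, ((1 : Matrix (Fin a) (Fin a) F) ⊗ₖ B) *ᵥ (z.val *ᵥ v) =
        z.val *ᵥ (((1 : Matrix (Fin a) (Fin a) F) ⊗ₖ B) *ᵥ v) := fun v => by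
      have e2 := lin_ext (L := (Matrix.mulVecLin ((1 : Matrix (Fin a) (Fin a) F) ⊗ₖ B)).comp
          (Matrix.mulVecLin z.val))
        (L' := (Matrix.mulVecLin z.val).comp (Matrix.mulVecLin ((1 : Matrix (Fin a) (Fin a) F) ⊗ₖ B))) fun x q => by
          simp only [LinearMap.comp_apply, Matrix.mulVecLin_apply, hA]
          rw [show ((1 : Matrix (Fin a) (Fin a) F) ⊗ₖ B) *ᵥ pt x q = pt x (B *ᵥ q) by
              rw [show pt x q = _ from rfl]; exact (TensorRefine.kronecker_mulVec _ _ x q).trans (by rw [one_mulVec]; rfl),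
            show ((1 : Matrix (Fin a) (Fin a) F) ⊗ₖ B) *ᵥ pt (A *ᵥ x) q = pt (A *ᵥ x) (B *ᵥ q) by
              exact (TensorRefine.kronecker_mulVec _ _ (A *ᵥ x) q).trans (by rw [one_mulVec]; rfl), hA]
      exact LinearMap.congr_fun e2 v
    have hT : (TB C hu huw).val = n.val * z.val * n⁻¹.val := by
      rw [← Units.val_mul, ← Units.val_mul, hz]; congr 1; group
    simp only [hT, ← mulVec_mulVec, Transvec.inv_mulVec_cancel, e1]
  choose α hα using hα
  have hone : ∀ (B : Matrix (Fin b) (Fin b) F) x u,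
      ((1 : Matrix (Fin a) (Fin a) F) ⊗ₖ B) *ᵥ pt x u = pt x (B *ᵥ u) := fun B x u =>
    (TensorRefine.kronecker_mulVec _ _ x u).trans (by rw [one_mulVec]; rfl)
  obtain ⟨u₀, hu₀⟩ : ∃ u₀ : Fin b → F, u₀ ≠ 0 := ⟨_, sv_ne ⟨0, hb⟩⟩
  obtain ⟨φ, -, hφ⟩ := exists_functional (E := (⊥ : Submodule F (Fin b → F))) (u := u₀) (by simpa using hu₀)
  obtain ⟨E, hE⟩ : ∃ E : Matrix (Fin b) (Fin b) F, ∀ u, E *ᵥ u = (φ ⬝ᵥ u) • u₀ :=
    ⟨Matrix.vecMulVec u₀ φ, fun u => funext fun i => by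
      simp only [Matrix.mulVec, dotProduct, vecMulVec_apply, mul_assoc, ← Finset.mul_sum, Pi.smul_apply, smul_eq_mul]
      ring⟩
  have hmove : ∀ B x u, n.val *ᵥ pt x (B *ᵥ u) =
      (n.val * ((1 : Matrix (Fin a) (Fin a) F) ⊗ₖ B) * n⁻¹.val) *ᵥ (n.val *ᵥ pt x u) := fun B x u => by
    simp only [← mulVec_mulVec, Transvec.inv_mulVec_cancel, hone]
  -- the image of one slice
  obtain ⟨x₁, hx₁, -⟩ := exists_singular_sym C.left C.two C.dim
  obtain ⟨x₀, hx₀⟩ : ∃ x₀, α E *ᵥ x₀ ≠ 0 := by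
    by_contra hc
    push Not at hc
    refine mulVec_ne_zero n (pt_ne_zero hx₁ hu₀) ?_
    have := hmove E x₁ u₀
    rw [hE, hφ, one_smul, eq_sum_pt (n.val *ᵥ pt x₁ u₀), Matrix.mulVec_sum] at this
    rw [eq_sum_pt (n.val *ᵥ pt x₁ u₀), this]
    exact Finset.sum_eq_zero fun j _ => by rw [hα, hc, pt_zero_left]
  obtain ⟨p₁, hp₁⟩ : ∃ p₁, p₁ = α E *ᵥ x₀ := ⟨_, rfl⟩
  rw [← hp₁] at hx₀
  have hslice : LinearMap.range (ptR (b := b) p₁) = img n (pureW a u₀) := by
    refine Submodule.eq_of_le_of_finrank_eq ?_ ?_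
    · rintro _ ⟨u, rfl⟩
      have e1 : ∀ v, ((1 : Matrix (Fin a) (Fin a) F) ⊗ₖ E) *ᵥ v = pt (sl φ v) u₀ := fun v => by
        have e2 := lin_ext (L := Matrix.mulVecLin ((1 : Matrix (Fin a) (Fin a) F) ⊗ₖ E))
          (L' := (ptL u₀).comp (sl φ)) fun x q => by
            simp only [LinearMap.comp_apply, Matrix.mulVecLin_apply, hone, hE, sl_pt, ptL_apply, pt_smul_left,
              pt_smul_right]
        exact LinearMap.congr_fun e2 v
      refine mem_img.mpr ⟨pt (sl φ (n⁻¹.val *ᵥ pt x₀ u)) u₀, pt_mem_pureW _ _, ?_⟩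
      rw [← e1]
      calc n.val *ᵥ (((1 : Matrix (Fin a) (Fin a) F) ⊗ₖ E) *ᵥ (n⁻¹.val *ᵥ pt x₀ u))
          = (n.val * ((1 : Matrix (Fin a) (Fin a) F) ⊗ₖ E) * n⁻¹.val) *ᵥ pt x₀ u := by
            simp only [← mulVec_mulVec]
        _ = ptR p₁ u := by rw [hα, ← hp₁]; rfl
    · rw [finrank_img, finrank_pureW hu₀, LinearMap.finrank_range_of_inj, Module.finrank_fin_fun, hab]
      intro u u' h
      by_contra hne
      refine pt_ne_zero hx₀ (sub_ne_zero.mpr hne) ?_
      rw [pt_sub_right]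
      exact sub_eq_zero.mpr h
  obtain ⟨ψ, -, hψ⟩ := exists_functional (E := (⊥ : Submodule F (Fin a → F))) (u := p₁) (by simpa using hx₀)
  obtain ⟨R, hR⟩ : ∃ R : Matrix (Fin b) (Fin a) F, ∀ x, n.val *ᵥ pt x u₀ = pt p₁ (R *ᵥ x) := by
    refine ⟨LinearMap.toMatrix' ((slA ψ).comp ((Matrix.mulVecLin n.val).comp (ptL u₀))), fun x => ?_⟩
    obtain ⟨w, hw⟩ := hslice.ge (mem_img.mpr ⟨_, pt_mem_pureW x u₀, rfl⟩)
    rw [LinearMap.toMatrix'_mulVec, LinearMap.comp_apply, LinearMap.comp_apply, ptL_apply, Matrix.mulVecLin_apply,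
      ← hw]
    change pt p₁ w = pt p₁ (slA ψ (pt p₁ w))
    rw [slA_pt, hψ, one_smul]
  obtain ⟨χ, -, hχ⟩ := exists_functional (E := (⊥ : Submodule F (Fin b → F))) (u := R *ᵥ x₁) (by
    rw [Submodule.mem_bot]
    intro h0
    refine mulVec_ne_zero n (pt_ne_zero hx₁ hu₀) ?_
    rw [hR, h0, pt_zero_right])
  refine Or.inr ⟨LinearMap.toMatrix' ((sl χ).comp ((Matrix.mulVecLin n.val).comp (ptR x₁))), R, fun x u => ?_⟩
  obtain ⟨B, hB⟩ : ∃ B : Matrix (Fin b) (Fin b) F, B *ᵥ u₀ = u :=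
    ⟨Matrix.vecMulVec u φ, funext fun i => by
      simp only [Matrix.mulVec, dotProduct, vecMulVec_apply, mul_assoc, ← Finset.mul_sum]
      rw [show ∑ j, φ j * u₀ j = 1 from hφ, mul_one]⟩
  have hxu : ∀ x, n.val *ᵥ pt x u = pt (α B *ᵥ p₁) (R *ᵥ x) := fun x => by
    rw [← hB, hmove, hR, hα]
  rw [LinearMap.toMatrix'_mulVec, LinearMap.comp_apply, LinearMap.comp_apply, Matrix.mulVecLin_apply, hxu]
  congr 1
  change _ = sl χ (n.val *ᵥ pt x₁ u)
  rw [hxu, sl_pt, hχ, one_smul]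

/-- A subgroup of prime power order with a root element consists of tensor products. -/
theorem kron_of_pgroup {q : ℕ} [Fact q.Prime] (hq : Odd q) {P : Subgroup (GL (Fin a × Fin b) F)} (hP : IsPGroup q P)
    (hPM : P ≤ M) {e p : Fin b → F} (hL : IsLine f₂ e p) (hX : rootL C hL ∈ P) {g : GL (Fin a × Fin b) F}
    (hg : g ∈ P) : IsKron g := by
  haveI : Finite (Matrix (Fin a × Fin b) (Fin a × Fin b) F) :=
    inferInstanceAs (Finite ((Fin a × Fin b) → (Fin a × Fin b) → F))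
  haveI : Finite (GL (Fin a × Fin b) F) := Finite.of_injective _ Units.val_injective
  obtain ⟨R, hR⟩ : ∃ R, R = (Cfsg.Geo.kroneckerSubgroup a b F).subgroupOf P := ⟨_, rfl⟩
  by_contra hk
  have hlt : R < ⊤ := lt_of_le_of_ne le_top fun h => hk (by
    have h1 : (⟨g, hg⟩ : P) ∈ R := h ▸ Subgroup.mem_top _
    rw [hR] at h1
    exact h1)
  have := hP.isNilpotent
  obtain ⟨n, hn, hnR⟩ := SetLike.exists_of_lt (Group.normalizerCondition_of_isNilpotent _ hlt)
  have hXR : (⟨_, hX⟩ : P) ∈ R := hR ▸ isKron_rootL C hL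
  have h1 := (Subgroup.mem_normalizer_iff.mp hn ⟨_, hX⟩).mp hXR
  rw [hR] at h1 hnR
  rcases tw_of_conj C (hPM n.2) hL h1 with h | h
  · exact hnR h
  obtain ⟨i, hi⟩ := hP n
  obtain ⟨j, hj⟩ := hq.pow (n := i)
  obtain ⟨ha, hb⟩ := pos_dims C
  obtain ⟨m, hm⟩ : ∃ m : GL (Fin a × Fin b) F, m = n.1 := ⟨_, rfl⟩
  rw [← hm] at h
  have hmq : m ^ q ^ i = 1 := by rw [hm, ← SubmonoidClass.coe_pow, hi, Subgroup.coe_one]
  have hpow : m = (m * m) ^ (j + 1) := by
    rw [← pow_two, ← pow_mul, show 2 * (j + 1) = (2 * j + 1) + 1 by ring, pow_succ, ← hj, hmq, one_mul]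
  refine hnR ?_
  change IsKron n.1
  rw [← hm, hpow]
  exact (Cfsg.Geo.kroneckerSubgroup a b F).pow_mem (isKron_swaps_swaps ha hb h h) _

end CfsgLib.Classical22.TensorMax.OO
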