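/-
An involution with two skew factors moves too much to live on the joint support of two root elements.
-/
import Cfsg.Agent.Lib.Classical22.OrthOrthTensor.Tens

set_option autoImplicit false
set_option maxHeartbeats 800000

namespace CfsgLib.Classical22.TensorMax.OO

open Matrix Kronecker CfsgLib.Transvec CfsgLib.Classical22.TensorMax.SympO CfsgLib.Classical22.TensorMax.SpO
open scoped MatrixGroups

variable {F : Type*} [Field F] {a b : ℕ}

section Half

variable {f : (Fin a → F) → (Fin a → F) → F} (hf : Cfsg.Geo.IsSymmetricForm f) (h2 : (2 : F) ≠ 0)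
include hf h2

/-- A skew matrix with a scalar square has a half-dimensional subspace disjoint from its image. -/
theorem exists_half {A : Matrix (Fin a) (Fin a) F} {α : F} (hα : α ≠ 0)
    (hA : ∀ x, A *ᵥ (A *ᵥ x) = α • x) (hs : ∀ x y, f (A *ᵥ x) y = - f x (A *ᵥ y)) :
    ∃ (d : ℕ) (x : Fin d → Fin a → F), 2 * d = a ∧
      LinearIndependent F (Sum.elim x fun i => A *ᵥ x i) := by
  classical
  by_cases hsq : ∃ c, c * c = α
  · obtain ⟨c, hc⟩ := hsq
    have hc0 : c ≠ 0 := fun h => hα (by rw [← hc, h, mul_zero])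
    have hP : ∀ s : F, s ≠ 0 → ∀ x y, A *ᵥ x = s • x → A *ᵥ y = s • y → f x y = 0 := fun s hs0 x y hx hy => by
      have h := hs x y
      rw [hx, hy, hf.bilinear.smul_left, hf.bilinear.smul_right] at h
      exact (mul_eq_zero.mp (by linear_combination h : (2 * s) * f x y = 0)).resolve_left (mul_ne_zero h2 hs0)
    obtain ⟨Pp, hPp⟩ : ∃ P : Submodule F (Fin a → F), ∀ x, x ∈ P ↔ A *ᵥ x = c • x :=
      ⟨LinearMap.ker (Matrix.mulVecLin A - c • LinearMap.id), fun x => by simp [sub_eq_zero]⟩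
    obtain ⟨Pm, hPm⟩ : ∃ P : Submodule F (Fin a → F), ∀ x, x ∈ P ↔ A *ᵥ x = (-c) • x :=
      ⟨LinearMap.ker (Matrix.mulVecLin A - (-c) • LinearMap.id), fun x => by simp [add_eq_zero_iff_eq_neg]⟩
    have hdec : ∀ x, ∃ p ∈ Pp, ∃ q ∈ Pm, x = p + q := fun x => by
      refine ⟨(2 * c)⁻¹ • (c • x + A *ᵥ x), (hPp _).mpr ?_, (2 * c)⁻¹ • (c • x - A *ᵥ x), (hPm _).mpr ?_, ?_⟩
      · rw [mulVec_smul, mulVec_add, mulVec_smul, hA, ← hc]; module
      · rw [mulVec_smul, mulVec_sub, mulVec_smul, hA, ← hc]; module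
      · match_scalars <;> field_simp <;> ring
    have hinj : ∀ (s : F) (P R : Submodule F (Fin a → F)), s ≠ 0 → (∀ x, x ∈ P ↔ A *ᵥ x = s • x) →
        (∀ x, ∃ p ∈ P, ∃ q ∈ R, x = p + q) → Module.finrank F P ≤ Module.finrank F R := by
      intro s P R hs0 hP' hd
      obtain ⟨L, hL⟩ : ∃ L : P →ₗ[F] Module.Dual F R, ∀ p r, L p r = f p.1 r.1 :=
        ⟨{ toFun := fun p => { toFun := fun r => f p.1 r.1
                               map_add' := fun x y => hf.bilinear.add_right _ _ _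
                               map_smul' := fun t x => hf.bilinear.smul_right _ _ _ }
           map_add' := fun x y => LinearMap.ext fun r => hf.bilinear.add_left _ _ _
           map_smul' := fun t x => LinearMap.ext fun r => hf.bilinear.smul_left _ _ _ }, fun p r => rfl⟩
      refine (LinearMap.finrank_le_finrank_of_injective (f := L) ?_).trans (le_of_eq Subspace.dual_finrank_eq)
      rw [← LinearMap.ker_eq_bot, LinearMap.ker_eq_bot']
      intro p hp
      refine Subtype.ext (sym_eq hf fun v => ?_)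
      obtain ⟨p', hp', q, hq, rfl⟩ := hd v
      have h1 := LinearMap.congr_fun hp ⟨q, hq⟩
      rw [hL] at h1
      rw [hf.bilinear.add_right, hP s hs0 _ _ ((hP' _).mp p.2) ((hP' _).mp hp'), zero_add, Submodule.coe_zero,
        sym_zero_left hf]
      exact h1
    have hle := hinj c Pp Pm hc0 hPp hdec
    have hge := hinj (-c) Pm Pp (neg_ne_zero.mpr hc0) hPm fun x => by
      obtain ⟨p, hp, q, hq, e⟩ := hdec x
      exact ⟨q, hq, p, hp, by rw [e, add_comm]⟩
    have htot : Module.finrank F Pp + Module.finrank F Pm = a := by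
      refine (Submodule.finrank_add_eq_of_isCompl ⟨?_, ?_⟩).trans (Module.finrank_fin_fun F)
      · rw [Submodule.disjoint_def]
        intro x hx hx'
        have e : (2 * c) • x = 0 := by
          rw [mul_smul, two_smul]
          nth_rewrite 1 [← (hPp x).mp hx]
          rw [(hPm x).mp hx']; module
        exact (smul_eq_zero.mp e).resolve_left (mul_ne_zero h2 hc0)
      · rw [codisjoint_iff, eq_top_iff]
        intro x _
        obtain ⟨p, hp, q, hq, rfl⟩ := hdec x
        exact Submodule.add_mem_sup hp hq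
    obtain ⟨d, hd⟩ : ∃ d, Module.finrank F Pp = d := ⟨_, rfl⟩
    obtain ⟨bp, hbp⟩ : ∃ bp, bp = Module.finBasisOfFinrankEq F Pp hd := ⟨_, rfl⟩
    obtain ⟨bm, hbm⟩ : ∃ bm, bm = Module.finBasisOfFinrankEq F Pm (by omega : Module.finrank F Pm = d) := ⟨_, rfl⟩
    refine ⟨d, fun i => (bp i).1 + (bm i).1, by omega, Fintype.linearIndependent_iff.mpr fun g hg => ?_⟩
    rw [Fintype.sum_sum_type] at hg
    simp only [Sum.elim_inl, Sum.elim_inr, mulVec_add, (hPp _).mp (bp _).2, (hPm _).mp (bm _).2] at hg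
    obtain ⟨p, hp⟩ : ∃ p, p = ∑ i, (g (.inl i) + c * g (.inr i)) • (bp i) := ⟨_, rfl⟩
    obtain ⟨q, hq⟩ : ∃ q, q = ∑ i, (g (.inl i) - c * g (.inr i)) • (bm i) := ⟨_, rfl⟩
    have hpq : (p : Fin a → F) + q = 0 := by
      rw [hp, hq, Submodule.coe_sum, Submodule.coe_sum, ← Finset.sum_add_distrib, ← hg, ← Finset.sum_add_distrib]
      exact Finset.sum_congr rfl fun i _ => by simp only [Submodule.coe_smul]; module
    have hp0 : p = 0 := by
      refine Subtype.ext ?_
      have e1 : A *ᵥ (p : Fin a → F) = c • (p : Fin a → F) := (hPp _).mp p.2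
      have e2 : A *ᵥ (q : Fin a → F) = (-c) • (q : Fin a → F) := (hPm _).mp q.2
      rw [eq_neg_of_add_eq_zero_right hpq, mulVec_neg, e1] at e2
      have : (2 * c) • (p : Fin a → F) = 0 := by linear_combination (norm := module) -e2
      simpa using (smul_eq_zero.mp this).resolve_left (mul_ne_zero h2 hc0)
    have hq0 : q = 0 := Subtype.ext (by simpa [hp0] using hpq)
    have k1 := Fintype.linearIndependent_iff.mp bp.linearIndependent _ (hp ▸ hp0)
    have k2 := Fintype.linearIndependent_iff.mp bm.linearIndependent _ (hq ▸ hq0)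
    intro i
    rcases i with i | i
    · exact (mul_eq_zero.mp (by linear_combination k1 i + k2 i : 2 * g (.inl i) = 0)).resolve_left h2
    · exact (mul_eq_zero.mp (by linear_combination k1 i - k2 i : (2 * c) * g (.inr i) = 0)).resolve_left
        (mul_ne_zero h2 hc0)
  · have step : ∀ d, 2 * d ≤ a + 1 → ∃ x : Fin d → Fin a → F,
        LinearIndependent F (Sum.elim x fun i => A *ᵥ x i) := by
      intro d
      induction d with
      | zero => exact fun _ => ⟨Fin.elim0, linearIndependent_empty_type⟩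
      | succ d ih =>
        intro hd
        obtain ⟨x, hx⟩ := ih (by omega)
        obtain ⟨S, hS⟩ : ∃ S, S = Submodule.span F (Set.range (Sum.elim x fun i => A *ᵥ x i)) := ⟨_, rfl⟩
        have hinv : ∀ v ∈ S, A *ᵥ v ∈ S := fun v hv => by
          have : S ≤ S.comap (Matrix.mulVecLin A) := by
            conv_lhs => rw [hS]
            refine Submodule.span_le.mpr ?_
            rintro _ ⟨i | i, rfl⟩
            · exact hS ▸ Submodule.subset_span ⟨.inr i, rfl⟩
            · change A *ᵥ (A *ᵥ x i) ∈ S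
              rw [hA, hS]
              exact Submodule.smul_mem _ _ (Submodule.subset_span ⟨.inl i, rfl⟩)
          exact this hv
        obtain ⟨v, hv⟩ : ∃ v, v ∉ S := by
          by_contra hc
          push Not at hc
          have h := finrank_range_le_card (R := F) (Sum.elim x fun i => A *ᵥ x i)
          rw [Set.finrank, ← hS, show S = ⊤ from eq_top_iff.mpr fun w _ => hc w, finrank_top,
            Module.finrank_fin_fun] at h
          simp at h
          omega
        refine ⟨Fin.cons v x, Fintype.linearIndependent_iff.mpr fun g hg => ?_⟩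
        rw [Fintype.sum_sum_type, Fin.sum_univ_succ, Fin.sum_univ_succ] at hg
        simp only [Sum.elim_inl, Sum.elim_inr, Fin.cons_zero, Fin.cons_succ] at hg
        obtain ⟨r, hr⟩ : ∃ r, r = g (.inl 0) • v + g (.inr 0) • (A *ᵥ v) := ⟨_, rfl⟩
        have hrS : r ∈ S := by
          have e : r = -((∑ i, g (.inl i.succ) • x i) + ∑ i, g (.inr i.succ) • (A *ᵥ x i)) := by
            rw [hr]; linear_combination (norm := module) hg
          rw [e, hS]
          exact Submodule.neg_mem _ (Submodule.add_mem _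
            (Submodule.sum_mem _ fun i _ => Submodule.smul_mem _ _ (Submodule.subset_span ⟨.inl i, rfl⟩))
            (Submodule.sum_mem _ fun i _ => Submodule.smul_mem _ _ (Submodule.subset_span ⟨.inr i, rfl⟩)))
        have h0 : g (.inl 0) = 0 ∧ g (.inr 0) = 0 := by
          have hd' : (g (.inl 0) * g (.inl 0) - α * (g (.inr 0) * g (.inr 0))) • v ∈ S := by
            have e : (g (.inl 0) * g (.inl 0) - α * (g (.inr 0) * g (.inr 0))) • v =
                g (.inl 0) • r - g (.inr 0) • (A *ᵥ r) := by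
              rw [hr, mulVec_add, mulVec_smul, mulVec_smul, hA]; module
            rw [e]
            exact S.sub_mem (S.smul_mem _ hrS) (S.smul_mem _ (hinv r hrS))
          have h1 : g (.inl 0) * g (.inl 0) = α * (g (.inr 0) * g (.inr 0)) := by
            by_contra hne
            exact hv ((S.smul_mem_iff (sub_ne_zero.mpr hne)).mp hd')
          by_cases hr0 : g (.inr 0) = 0
          · exact ⟨by simpa [hr0] using h1, hr0⟩
          · exact absurd ⟨g (.inl 0) / g (.inr 0), by rw [div_mul_div_comm, h1]; field_simp⟩ hsq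
        rw [h0.1, h0.2, zero_smul, zero_smul, zero_add, zero_add] at hg
        have k := Fintype.linearIndependent_iff.mp hx (Sum.elim (fun i => g (.inl i.succ)) fun i => g (.inr i.succ))
          (by rw [Fintype.sum_sum_type]; exact hg)
        intro i
        rcases i with i | i <;> refine Fin.cases ?_ (fun j => ?_) i
        · exact h0.1
        · exact k (.inl j)
        · exact h0.2
        · exact k (.inr j)
    obtain ⟨x, hx⟩ := step ((a + 1) / 2) (by omega)
    have h := hx.fintype_card_le_finrank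
    rw [Fintype.card_sum, Fintype.card_fin, Module.finrank_fin_fun] at h
    exact ⟨_, x, by omega, hx⟩

end Half

variable {f₁ : (Fin a → F) → (Fin a → F) → F} {f₂ : (Fin b → F) → (Fin b → F) → F}

/-- A product of two skew factors moves half of every pure subspace it preserves. -/
theorem skew_false (hl : Cfsg.Geo.IsSymmetricForm f₁) (hr : Cfsg.Geo.IsSymmetricForm f₂) (h2 : (2 : F) ≠ 0)
    (ha : 0 < a) (hb : 5 ≤ b) {A : Matrix (Fin a) (Fin a) F} {B : Matrix (Fin b) (Fin b) F} {α : F} (hα : α ≠ 0)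
    (hA : ∀ x, A *ᵥ (A *ᵥ x) = α • x) (hB : ∀ u, B *ᵥ (B *ᵥ u) = α⁻¹ • u)
    (hsA : ∀ x y, f₁ (A *ᵥ x) y = - f₁ x (A *ᵥ y)) {z : GL (Fin a × Fin b) F}
    (hz : ∀ x u, z.val *ᵥ pt x u = pt (A *ᵥ x) (B *ᵥ u)) {L : Submodule F (Fin b → F)}
    (hL : Module.finrank F L = 2) (hBL : ∀ u ∈ L, B *ᵥ u ∈ L)
    {K : Matrix (Fin a × Fin b) (Fin a × Fin b) F}
    (hspan : ∀ v, z.val *ᵥ v = -v → ∃ w₁ w₂, w₁ ∈ tens a L ∧ w₂ ∈ tens a L ∧ z.val *ᵥ w₁ = -w₁ ∧
      z.val *ᵥ w₂ = -w₂ ∧ v = w₁ + K *ᵥ w₂) : False := by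
  classical
  obtain ⟨d, x, hd, hx⟩ := exists_half hl h2 hα hA hsA
  obtain ⟨E, hE⟩ : ∃ E : F → Submodule F (Fin a × Fin b → F), ∀ s v, v ∈ E s ↔ z.val *ᵥ v = s • v :=
    ⟨fun s => LinearMap.ker (Matrix.mulVecLin z.val - s • LinearMap.id), fun s v => by simp [sub_eq_zero]⟩
  have hlow : ∀ (s : F), s * s = 1 → ∀ U : Submodule F (Fin b → F), (∀ u ∈ U, B *ᵥ u ∈ U) →
      d * Module.finrank F U ≤ Module.finrank F ↥(E s ⊓ tens a U) := by
    intro s hs U hU
    obtain ⟨Φ, hΦ⟩ : ∃ Φ : (Fin d → U) →ₗ[F] (Fin a × Fin b → F),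
        ∀ c, Φ c = ∑ i, (pt (x i) (c i).1 + s • pt (A *ᵥ x i) (B *ᵥ (c i).1)) :=
      ⟨{ toFun := fun c => ∑ i, (pt (x i) (c i).1 + s • pt (A *ᵥ x i) (B *ᵥ (c i).1))
         map_add' := fun c e => by
          rw [← Finset.sum_add_distrib]
          exact Finset.sum_congr rfl fun i _ => by
            rw [Pi.add_apply, Submodule.coe_add, mulVec_add, pt_add_right, pt_add_right]; module
         map_smul' := fun t c => by
          rw [RingHom.id_apply, Finset.smul_sum]
          exact Finset.sum_congr rfl fun i _ => by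
            rw [Pi.smul_apply, Submodule.coe_smul, mulVec_smul, pt_smul_right, pt_smul_right]; module },
        fun c => rfl⟩
    have hinj : Function.Injective Φ := by
      rw [← LinearMap.ker_eq_bot, LinearMap.ker_eq_bot']
      intro c hc
      rw [hΦ] at hc
      funext i
      refine Subtype.ext (sym_eq hr fun u => ?_)
      have h := congrArg (s2 f₂ u) hc
      rw [map_sum, map_zero] at h
      simp only [map_add, map_smul, s2q hr, Finset.sum_add_distrib, smul_smul] at h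
      have := Fintype.linearIndependent_iff.mp hx
        (Sum.elim (fun i => f₂ (c i).1 u) fun i => s * f₂ (B *ᵥ (c i).1) u)
        (by rw [Fintype.sum_sum_type]; exact h) (.inl i)
      rw [Pi.zero_apply, Submodule.coe_zero, sym_zero_left hr]
      exact this
    have hmem : LinearMap.range Φ ≤ E s ⊓ tens a U := by
      rintro _ ⟨c, rfl⟩
      rw [hΦ]
      refine Submodule.sum_mem _ fun i _ => ⟨(hE _ _).mpr ?_, ?_⟩
      · rw [mulVec_add, mulVec_smul, hz, hz, hA, hB, pt_smul_left, pt_smul_right, smul_smul α α⁻¹,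
          mul_inv_cancel₀ hα, one_smul, smul_add, smul_smul, hs, one_smul, add_comm]
      · exact Submodule.add_mem _ (pt_mem_tens _ (c i).2) (Submodule.smul_mem _ _ (pt_mem_tens _ (hU _ (c i).2)))
    refine le_trans (le_of_eq ?_) (Submodule.finrank_mono hmem)
    rw [LinearMap.finrank_range_of_inj hinj, Module.finrank_pi_fintype, Finset.sum_const, Finset.card_univ,
      Fintype.card_fin, smul_eq_mul]
  have hplus := hlow 1 (one_mul 1) L hBL
  have htop := hlow (-1) (by ring) ⊤ fun u _ => Submodule.mem_top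
  have hdisj : Disjoint (E 1 ⊓ tens a L) (E (-1) ⊓ tens a L) := by
    rw [Submodule.disjoint_def]
    intro v h1 h2'
    have e1 := (hE _ _).mp h1.1
    rw [(hE _ _).mp h2'.1] at e1
    have : (2 : F) • v = 0 := by linear_combination (norm := module) -e1
    exact (smul_eq_zero.mp this).resolve_left h2
  have hsum : Module.finrank F ↥(E 1 ⊓ tens a L) + Module.finrank F ↥(E (-1) ⊓ tens a L) ≤ a * 2 := by
    rw [← Submodule.finrank_sup_add_finrank_inf_eq, hdisj.eq_bot, finrank_bot, add_zero]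
    refine (Submodule.finrank_mono (sup_le inf_le_right inf_le_right)).trans (le_of_eq ?_)
    rw [finrank_tens, hL]
  obtain ⟨Ψ, hΨ⟩ : ∃ Ψ : (↥(E (-1) ⊓ tens a L) × ↥(E (-1) ⊓ tens a L)) →ₗ[F] (Fin a × Fin b → F),
      ∀ q, Ψ q = q.1.1 + K *ᵥ q.2.1 :=
    ⟨(Submodule.subtype _).coprod ((Matrix.mulVecLin K).comp (Submodule.subtype _)), fun q => rfl⟩
  have hup : E (-1) ⊓ tens a ⊤ ≤ LinearMap.range Ψ := fun v hv => by
    obtain ⟨w₁, w₂, m1, m2, e1, e2, rfl⟩ := hspan v (by rw [(hE _ _).mp hv.1, neg_one_smul])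
    exact ⟨(⟨w₁, (hE _ _).mpr (by rw [e1, neg_one_smul]), m1⟩, ⟨w₂, (hE _ _).mpr (by rw [e2, neg_one_smul]), m2⟩),
      hΨ _⟩
  have hE2 := (Submodule.finrank_mono hup).trans (LinearMap.finrank_range_le Ψ)
  rw [Module.finrank_prod] at hE2
  rw [finrank_top, Module.finrank_fin_fun] at htop
  rw [hL] at hplus
  have hd0 : 0 < d := by omega
  have : d * 5 ≤ d * b := Nat.mul_le_mul_left _ hb
  omega

/-- An involution of tensor form commuting with a root element of a line, moving little: normalisable factors. -/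
theorem exists_sq_of_line (hl : Cfsg.Geo.IsSymmetricForm f₁) (hr : Cfsg.Geo.IsSymmetricForm f₂) (h2 : (2 : F) ≠ 0)
    (ha : 0 < a) (hb : 5 ≤ b) {A : Matrix (Fin a) (Fin a) F} {B : Matrix (Fin b) (Fin b) F} {α μ : F} (hα : α ≠ 0)
    (hμ : μ ≠ 0) (hA : ∀ x, A *ᵥ (A *ᵥ x) = α • x) (hB : ∀ u, B *ᵥ (B *ᵥ u) = α⁻¹ • u)
    (hfA : ∀ x y, f₁ (A *ᵥ x) (A *ᵥ y) = μ * f₁ x y) (hfB : ∀ u v, f₂ (B *ᵥ u) (B *ᵥ v) = μ⁻¹ * f₂ u v)
    {z X : GL (Fin a × Fin b) F} (hz : ∀ x u, z.val *ᵥ pt x u = pt (A *ᵥ x) (B *ᵥ u)) {e p : Fin b → F}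
    (hL : IsLine f₂ e p) (hX : ∀ v, (X.val - 1) *ᵥ v = pt (s2 f₂ e v) p - pt (s2 f₂ p v) e) (hzX : z * X = X * z)
    {K : Matrix (Fin a × Fin b) (Fin a × Fin b) F}
    (hspan : ∀ v, z.val *ᵥ v = -v → ∃ w₁ w₂, w₁ ∈ tens a (Submodule.span F ({e, p} : Set (Fin b → F))) ∧
      w₂ ∈ tens a (Submodule.span F ({e, p} : Set (Fin b → F))) ∧ z.val *ᵥ w₁ = -w₁ ∧ z.val *ᵥ w₂ = -w₂ ∧
      v = w₁ + K *ᵥ w₂) : ∃ c : F, c * c = α ∧ μ = α := by
  obtain ⟨e', p', he'e, he'p, hp'e, hp'p⟩ := exists_duals hr hL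
  obtain ⟨β, hβ⟩ : ∃ β : Matrix (Fin b) (Fin b) F, ∀ u, β *ᵥ u = f₂ u e • p - f₂ u p • e :=
    ⟨outer f₂ p e - outer f₂ e p, fun u => by rw [sub_mulVec, sym_outer hr, sym_outer hr]⟩
  have hNv : ∀ x u, (X.val - 1) *ᵥ pt x u = pt x (β *ᵥ u) := fun x u => by
    rw [hX, s2q hr, s2q hr, hβ, pt_smul_left, pt_smul_left, pt_sub_right, pt_smul_right, pt_smul_right]
  obtain ⟨x₀, hx₀⟩ : ∃ x₀ : Fin a → F, x₀ ≠ 0 := ⟨Pi.single ⟨0, ha⟩ 1, by simp⟩
  have hcomm : ∀ u, β *ᵥ (B *ᵥ u) = B *ᵥ (β *ᵥ u) := fun u => by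
    have h := congrArg (fun k : GL (Fin a × Fin b) F => k.val *ᵥ pt x₀ u) hzX
    simp only [Units.val_mul, ← mulVec_mulVec] at h
    have eX : ∀ v, X.val *ᵥ v = v + (X.val - 1) *ᵥ v := fun v => by rw [sub_mulVec, one_mulVec]; abel
    rw [eX, hNv, mulVec_add, hz, hz, eX, hNv, add_right_inj] at h
    have h' : pt (A *ᵥ x₀) (B *ᵥ (β *ᵥ u) - β *ᵥ (B *ᵥ u)) = 0 := by rw [pt_sub_right, h, sub_self]
    by_contra hne
    have h3 := pt_eq_zero (sub_ne_zero.mpr (Ne.symm hne)) h'
    have h4 := hA x₀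
    rw [h3, mulVec_zero, eq_comm, smul_eq_zero] at h4
    exact hx₀ (h4.resolve_left hα)
  obtain ⟨κ, hκ⟩ : ∃ κ, κ = α / μ := ⟨_, rfl⟩
  have hBs : ∀ u v, f₂ (B *ᵥ u) v = κ * f₂ u (B *ᵥ v) := fun u v => by
    have h := hfB u (B *ᵥ v)
    rw [hB, hr.bilinear.smul_right] at h
    rw [hκ]
    field_simp at h ⊢
    linear_combination h
  have hκ1 : κ * κ = 1 := by
    obtain ⟨y, hy⟩ : ∃ y, B *ᵥ y = e' :=
      ⟨α • (B *ᵥ e'), by rw [mulVec_smul, hB, smul_smul, mul_inv_cancel₀ hα, one_smul]⟩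
    have h1 := hBs y e
    rw [hy, he'e, hr.symm y (B *ᵥ e), hBs e y, hy, hr.symm e e', he'e, mul_one] at h1
    exact h1.symm
  obtain ⟨hee, hpp, hep, he0, hpe⟩ := id hL
  have hBp : B *ᵥ p = (κ * f₂ e' (B *ᵥ e)) • p - (κ * f₂ e' (B *ᵥ p)) • e := by
    have h := hcomm e'
    rw [show β *ᵥ e' = p by rw [hβ, he'e, he'p, one_smul, zero_smul, sub_zero], hβ, hBs, hBs] at h
    exact h.symm
  have hBe : B *ᵥ e = (κ * f₂ p' (B *ᵥ p)) • e - (κ * f₂ p' (B *ᵥ e)) • p := by
    have h1 := hcomm p'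
    rw [show β *ᵥ p' = -e by rw [hβ, hp'e, hp'p, one_smul, zero_smul, zero_sub], mulVec_neg, hβ, hBs, hBs] at h1
    linear_combination (norm := module) h1
  rcases mul_self_eq_one_iff.mp hκ1 with h1 | h1
  · have ht : f₂ e' (B *ᵥ p) = 0 := by
      have h := congrArg (f₂ e') hBp
      rw [sym_sub_right hr, hr.bilinear.smul_right, hr.bilinear.smul_right, he'p, he'e, h1] at h
      exact (mul_eq_zero.mp (by linear_combination h : 2 * f₂ e' (B *ᵥ p) = 0)).resolve_left h2
    rw [ht, h1, mul_zero, zero_smul, sub_zero, one_mul] at hBp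
    obtain ⟨r, hr'⟩ : ∃ r, r = f₂ e' (B *ᵥ e) := ⟨_, rfl⟩
    rw [← hr'] at hBp
    have h := congrArg (f₂ p') (hB p)
    rw [hBp, mulVec_smul, hBp, smul_smul, hr.bilinear.smul_right, hr.bilinear.smul_right, hp'p, mul_one, mul_one] at h
    refine ⟨r⁻¹, by rw [← mul_inv, h, inv_inv], ?_⟩
    rw [hκ, div_eq_one_iff_eq hμ] at h1
    exact h1.symm
  · exfalso
    refine skew_false hl hr h2 ha hb hα hA hB (fun x y => ?_) hz (finrank_line hr hL) (fun u hu => ?_) hspan
    · have h := hfA x (A *ᵥ y)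
      rw [hA, hl.bilinear.smul_right] at h
      rw [hκ, div_eq_iff hμ] at h1
      exact mul_left_cancel₀ hα (by linear_combination h + f₁ x (A *ᵥ y) * h1)
    · obtain ⟨s, t, rfl⟩ := Submodule.mem_span_pair.mp hu
      rw [mulVec_add, mulVec_smul, mulVec_smul, hBe, hBp]
      have me : e ∈ Submodule.span F ({e, p} : Set (Fin b → F)) := Submodule.subset_span (by simp)
      have mp' : p ∈ Submodule.span F ({e, p} : Set (Fin b → F)) := Submodule.subset_span (by simp)
      exact add_mem (Submodule.smul_mem _ _ (sub_mem (Submodule.smul_mem _ _ me) (Submodule.smul_mem _ _ mp')))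
        (Submodule.smul_mem _ _ (sub_mem (Submodule.smul_mem _ _ mp') (Submodule.smul_mem _ _ me)))

end CfsgLib.Classical22.TensorMax.OO
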