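/-
Every element of an intermediate group is a tensor product.
-/
import Cfsg.Agent.Lib.Classical22.OrthOrthTensor.Pair

set_option autoImplicit false
set_option maxHeartbeats 800000

namespace CfsgLib.Classical22.TensorMax.OO

open Matrix Kronecker CfsgLib.Transvec CfsgLib.Classical22.TensorMax.SympO CfsgLib.Classical22.TensorMax.SpO
open scoped MatrixGroups

variable {F : Type*} [Field F] {a b : ℕ} {f₁ : (Fin a → F) → (Fin a → F) → F}
  {f₂ : (Fin b → F) → (Fin b → F) → F} [Fintype F] {Ω M : Subgroup (GL (Fin a × Fin b) F)} (C : Ctx f₁ f₂ Ω M)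
include C

/-- Every singular vector lies on a singular line. -/
lemma exists_line (hb : 5 ≤ b) {e : Fin b → F} (he : e ≠ 0) (hee : f₂ e e = 0) : ∃ p, IsLine f₂ e p := by
  have hr := C.right
  obtain ⟨e', he', hee', -⟩ := exists_partner_sym hr C.two he hee
  obtain ⟨r, hr0, hrr, hre, hre'⟩ := exists_singular_pairW hr C.two hb hee he' hee'
  refine ⟨r, hee, hrr, by rw [hr.symm, hre], he, fun h => ?_⟩
  obtain ⟨c, rfl⟩ := Submodule.mem_span_singleton.mp h
  rw [hr.bilinear.smul_left, hee', mul_one] at hre'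
  exact hr0 (by rw [hre', zero_smul])

/-- The main theorem. -/
theorem kron_main (hb : 5 ≤ b) {g : GL (Fin a × Fin b) F} (hg : g ∈ M) : IsTw g := by
  classical
  have hl := C.left
  have hr := C.right
  have h2 := C.two
  by_contra hgk
  obtain ⟨e₀, he₀, hee₀⟩ := exists_singular_sym hr h2 (by omega : 3 ≤ b)
  obtain ⟨p₀, hL₀⟩ := exists_line C hb he₀ hee₀
  obtain ⟨L₀, hL₀def⟩ : ∃ L₀, L₀ = Submodule.span F ({e₀, p₀} : Set (Fin b → F)) := ⟨_, rfl⟩
  obtain ⟨W, hW⟩ : ∃ W, W = img g (tens a L₀) := ⟨_, rfl⟩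
  obtain ⟨R, hR⟩ : ∃ R : Submodule F (Fin b → F), R = ⨆ ψ : Fin a → F, W.map (slA ψ) := ⟨_, rfl⟩
  have hWR : W ≤ tens a R := fun v hv => mem_tens.mpr fun ψ =>
    hR ▸ Submodule.mem_iSup_of_mem ψ ⟨v, hv, rfl⟩
  have hRmin : ∀ S, W ≤ tens a S → R ≤ S := fun S hS => hR ▸ iSup_le fun ψ => by
    rintro _ ⟨v, hv, rfl⟩
    exact mem_tens.mp (hS hv) ψ
  have hpair : ∀ e p, IsLine f₂ e p → ∃ Q : Submodule F (Fin b → F), Module.finrank F Q = 4 ∧
      Submodule.span F ({e, p} : Set (Fin b → F)) ≤ Q ∧ R ≤ Q ∧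
      Q ≤ Submodule.span F ({e, p} : Set (Fin b → F)) ⊔ R := by
    intro e p hL
    obtain ⟨Q, hQ4, hLQ, hWQ, hQW⟩ := pair_span C hg hgk hL hL₀
    rw [← hL₀def, ← hW] at hWQ hQW
    refine ⟨Q, hQ4, hLQ, hRmin Q hWQ, fun u hu => ?_⟩
    obtain ⟨x, hx, -⟩ := exists_singular_sym hl h2 C.dim
    exact mem_of_pt_mem_tens hx ((sup_le (tens_mono le_sup_left) (hWR.trans (tens_mono le_sup_right)))
      (hQW (pt_mem_tens x hu)))
  have hspan : ∀ S : Submodule F (Fin b → F), (∀ u, f₂ u u = 0 → u ∈ S) → S = ⊤ := fun S hS =>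
    eq_top_iff.mpr fun u _ => by
      refine mem_of_nonorth hr h2 (by omega : 3 ≤ b) he₀ hee₀ (S := S) (fun x' h1 _ => hS x' h1) u
  have hR2 : 2 ≤ Module.finrank F R := by
    have h := Submodule.finrank_mono hWR
    rw [hW, finrank_img, finrank_tens, finrank_tens, hL₀def, finrank_line hr hL₀] at h
    exact Nat.le_of_mul_le_mul_left h (by have := C.dim; omega)
  obtain ⟨Q₀, hQ₀, -, hRQ₀, -⟩ := hpair e₀ p₀ hL₀
  have hR4 : Module.finrank F R ≤ 4 := hQ₀ ▸ Submodule.finrank_mono hRQ₀
  rcases (show Module.finrank F R = 4 ∨ Module.finrank F R = 3 ∨ Module.finrank F R = 2 by omega) with h4 | h3 | h2'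
  · -- all singular vectors in the span
    have hall : R = ⊤ := hspan R fun u hu => by
      rcases eq_or_ne u 0 with rfl | hu0
      · exact R.zero_mem
      obtain ⟨p, hL⟩ := exists_line C hb hu0 hu
      obtain ⟨Q, hQ4, hLQ, hRQ, -⟩ := hpair u p hL
      rw [Submodule.eq_of_le_of_finrank_eq hRQ (by rw [h4, hQ4])]
      exact hLQ (Submodule.subset_span (by simp))
    rw [hall, finrank_top, Module.finrank_fin_fun] at h4
    omega
  · -- the span meets every singular line
    obtain ⟨e, hee, heR⟩ : ∃ e, f₂ e e = 0 ∧ e ∉ R := by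
      by_contra hc
      push Not at hc
      rw [hspan R hc, finrank_top, Module.finrank_fin_fun] at h3
      omega
    have he : e ≠ 0 := fun h => heR (h ▸ R.zero_mem)
    obtain ⟨P, hP⟩ : ∃ P, P = perpIn f₂ ⊤ e := ⟨_, rfl⟩
    have hperp : P ≤ R ⊔ Submodule.span F {e} := fun u hu => by
      refine mem_of_singular_perp hr h2 hb he hee (fun p hpp hpe => ?_) ((mem_perpIn hr).mp (hP ▸ hu)).2
      by_cases hps : p ∈ Submodule.span F {e}
      · exact Submodule.mem_sup_right hps
      have hL : IsLine f₂ e p := ⟨hee, hpp, by rw [hr.symm, hpe], he, hps⟩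
      obtain ⟨Q, hQ4, hLQ, hRQ, -⟩ := hpair e p hL
      obtain ⟨w, hw, hw0⟩ := Submodule.exists_mem_ne_zero_of_ne_bot
        (show R ⊓ Submodule.span F ({e, p} : Set (Fin b → F)) ≠ ⊥ from fun h => by
          have hd := Submodule.finrank_sup_add_finrank_inf_eq R (Submodule.span F ({e, p} : Set (Fin b → F)))
          rw [h, finrank_bot, h3, finrank_line hr hL] at hd
          have := Submodule.finrank_mono (sup_le hRQ hLQ)
          omega)
      obtain ⟨hwR, hwL⟩ := Submodule.mem_inf.mp hw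
      obtain ⟨s, t, rfl⟩ := Submodule.mem_span_pair.mp hwL
      have ht : t ≠ 0 := fun h0 => by
        rw [h0, zero_smul, add_zero] at hwR hw0
        have hs : s ≠ 0 := fun h1 => hw0 (by rw [h1, zero_smul])
        exact heR (by simpa [hs] using R.smul_mem s⁻¹ hwR)
      have h1 : t • p ∈ R ⊔ Submodule.span F {e} := by
        have := sub_mem (Submodule.mem_sup_left hwR : s • e + t • p ∈ R ⊔ Submodule.span F {e})
          (Submodule.smul_mem _ s (Submodule.mem_sup_right (Submodule.mem_span_singleton_self e)))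
        simpa using this
      simpa [ht] using Submodule.smul_mem _ t⁻¹ h1
    have heq : P = R ⊔ Submodule.span F {e} := by
      refine Submodule.eq_of_le_of_finrank_le hperp ?_
      have h1 := finrank_perpIn hr ⊤ e
      rw [finrank_top, Module.finrank_fin_fun, ← hP] at h1
      have h4 := Submodule.finrank_add_le_finrank_add_finrank R (Submodule.span F {e})
      rw [h3, finrank_span_singleton he] at h4
      omega
    have hRe : ∀ r ∈ R, f₂ r e = 0 := fun r hr' =>
      ((mem_perpIn hr).mp (hP ▸ heq ▸ Submodule.mem_sup_left hr')).2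
    -- the conjugate of the root element fixes a pure subspace
    obtain ⟨y, hy⟩ : ∃ y, y = g * rootL C hL₀ * g⁻¹ := ⟨_, rfl⟩
    have hyM : y ∈ M := hy ▸ M.mul_mem (M.mul_mem hg (rootL_mem C hL₀)) (M.inv_mem hg)
    have hyfix : ∀ x, y.val *ᵥ pt x e = pt x e := fun x => by
      have horth : ∀ l ∈ L₀, s2 f₂ l (g⁻¹.val *ᵥ pt x e) = 0 := fun l hl' => sym_eq hl fun q => by
        rw [sym_zero_left hl, ← bform_pto hl hr, ← isoM C hg, Transvec.mulVec_inv_cancel]
        have hwR : g.val *ᵥ pt q l ∈ tens a R := hWR (hW ▸ mem_img.mpr ⟨_, pt_mem_tens q hl', rfl⟩)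
        rw [eq_sum_rows (g.val *ᵥ pt q l), bform_sum_right hl]
        exact Finset.sum_eq_zero fun i _ => by
          rw [bform_ptpt hl hr, hr.symm e, hRe _ (mem_tens.mp hwR _), mul_zero]
      rw [hy, Units.val_mul, Units.val_mul, ← mulVec_mulVec, ← mulVec_mulVec,
        rootL_fix C hL₀ (horth e₀ (hL₀def ▸ Submodule.subset_span (by simp)))
          (horth p₀ (hL₀def ▸ Submodule.subset_span (by simp))), Transvec.mulVec_inv_cancel]
    exact hgk (tw_of_conj C hg hL₀ (hy ▸ kron_of_fix C hyM he hee fun x => ⟨x, hyfix x⟩))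
  · -- the span is a singular line
    have hWeq : W = tens a R := Submodule.eq_of_le_of_finrank_eq hWR (by
      rw [hW, finrank_img, finrank_tens, finrank_tens, hL₀def, finrank_line hr hL₀, h2'])
    have hsing : ∀ r ∈ R, ∀ r' ∈ R, f₂ r r' = 0 := fun r hr₁ r' hr₂ => by
      obtain ⟨x, hx, hxx⟩ := exists_singular_sym hl h2 C.dim
      obtain ⟨x', hx', hxx', -⟩ := exists_partner_sym hl h2 hx hxx
      obtain ⟨v, hv, hgv⟩ := mem_img.mp ((hWeq.trans rfl).ge.trans hW.le (pt_mem_tens x hr₁))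
      obtain ⟨v', hv', hgv'⟩ := mem_img.mp ((hWeq.trans rfl).ge.trans hW.le (pt_mem_tens x' hr₂))
      have h := isoM C hg v v'
      rw [hgv, hgv', bform_ptpt hl hr, hxx', one_mul] at h
      rw [h, eq_sum_rows v, eq_sum_rows v']
      simp only [bform_sum_left hl, bform_sum_right hl, bform_ptpt hl hr]
      exact Finset.sum_eq_zero fun i _ => Finset.sum_eq_zero fun j _ => by
        rw [line_singular hr hL₀ (hL₀def ▸ mem_tens.mp hv _) (hL₀def ▸ mem_tens.mp hv' _), mul_zero]
    obtain ⟨e, he, he0⟩ := Submodule.exists_mem_ne_zero_of_ne_bot (show R ≠ ⊥ from fun h => by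
      rw [h, finrank_bot] at h2'; omega)
    obtain ⟨p, hp, hpe⟩ : ∃ p ∈ R, p ∉ Submodule.span F {e} := by
      by_contra hc
      push Not at hc
      have := Submodule.finrank_mono (show R ≤ Submodule.span F {e} from hc)
      rw [h2', finrank_span_singleton he0] at this
      omega
    obtain ⟨Q, hQ4, -, -, hQle⟩ := hpair e p ⟨hsing e he e he, hsing p hp p hp, hsing e he p hp, he0, hpe⟩
    have h1 : Q ≤ R := hQle.trans (sup_le (Submodule.span_le.mpr (by rintro u (rfl | rfl) <;> assumption)) le_rfl)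
    have := Submodule.finrank_mono h1
    omega

end CfsgLib.Classical22.TensorMax.OO
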