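/-
A three-dimensional times an elliptic four-dimensional space: every element of an intermediate group is a tensor
product, by translations and half turns.
-/
import Cfsg.Agent.Lib.Classical22.OrthOrthTensor.Main
import Cfsg.Agent.Lib.Classical22.OrthOrthTensor.SmallThree
import Cfsg.Agent.Lib.Solvable.Generation
import Cfsg.Agent.Lib.Invol.Counting

set_option autoImplicit false
set_option maxHeartbeats 800000

namespace CfsgLib.Classical22.TensorMax.OO

open Matrix Kronecker CfsgLib.Transvec CfsgLib.Classical22.TensorMax.SympO CfsgLib.Classical22.TensorMax.SpO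
open scoped MatrixGroups

variable {F : Type*} [Field F] {a b : ℕ} {f₁ : (Fin a → F) → (Fin a → F) → F}
  {f₂ : (Fin b → F) → (Fin b → F) → F}

/-- The first factor as a homomorphism. -/
def krL (a b : ℕ) : GL (Fin a) F →* GL (Fin a × Fin b) F where
  toFun A := kr A 1
  map_one' := Units.ext one_kronecker_one
  map_mul' A B := Units.ext (by
    change (A * B).val ⊗ₖ (1 : Matrix (Fin b) (Fin b) F) = (A.val ⊗ₖ 1) * (B.val ⊗ₖ 1)
    rw [← mul_kronecker_mul, one_mul, Units.val_mul])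

lemma krL_apply (A : GL (Fin a) F) (x : Fin a → F) (u : Fin b → F) :
    (krL a b A).val *ᵥ pt x u = pt (A.val *ᵥ x) u := by
  change (kr A 1).val *ᵥ pt x u = _
  rw [kr_apply, Units.val_one, one_mulVec]

lemma isKron_krL (A : GL (Fin a) F) : IsKron (krL a b A) := isKron_kr _ _

lemma krL_injective {u : Fin b → F} (hu : u ≠ 0) : Function.Injective (krL (F := F) a b) := fun A B h =>
  Transvec.gl_ext fun x => pt_injective hu (by
    simp only [ptL_apply]
    rw [← krL_apply, ← krL_apply, h])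

/-- The fixed space. -/
noncomputable def fixSp (g : GL (Fin a × Fin b) F) : Submodule F (Fin a × Fin b → F) :=
  LinearMap.ker (Matrix.mulVecLin g.val - LinearMap.id)

lemma mem_fixSp {g : GL (Fin a × Fin b) F} {v : Fin a × Fin b → F} : v ∈ fixSp g ↔ g.val *ᵥ v = v := by
  simp [fixSp, sub_eq_zero]

lemma finrank_fixSp_conj (h z : GL (Fin a × Fin b) F) :
    Module.finrank F (fixSp (h * z * h⁻¹)) = Module.finrank F (fixSp z) := by
  have e : fixSp (h * z * h⁻¹) = img h (fixSp z) := by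
    ext v
    rw [mem_fixSp, mem_img, Units.val_mul, Units.val_mul, ← mulVec_mulVec, ← mulVec_mulVec]
    constructor
    · intro hv
      refine ⟨h⁻¹.val *ᵥ v, mem_fixSp.mpr (mulVec_injective h ?_), Transvec.mulVec_inv_cancel _ _⟩
      simp only
      rw [hv, Transvec.mulVec_inv_cancel]
    · rintro ⟨w, hw, rfl⟩
      rw [Transvec.inv_mulVec_cancel, mem_fixSp.mp hw]
  rw [e, finrank_img]

/-- Matrices preserving a form, as a group. -/
def isoSub (f : (Fin a → F) → (Fin a → F) → F) : Subgroup (GL (Fin a) F) where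
  carrier := {A | ∀ x y, f (A.val *ᵥ x) (A.val *ᵥ y) = f x y}
  one_mem' x y := by rw [Units.val_one, one_mulVec, one_mulVec]
  mul_mem' {A B} hA hB x y := by rw [Units.val_mul, ← mulVec_mulVec, ← mulVec_mulVec, hA, hB]
  inv_mem' {A} hA x y := by rw [← hA, Transvec.mulVec_inv_cancel, Transvec.mulVec_inv_cancel]

/-- The first factor normalised to be a special isometry. -/
def Fac (f₁ : (Fin a → F) → (Fin a → F) → F) (g : GL (Fin a × Fin b) F) (A : GL (Fin a) F) : Prop :=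
  A.val.det = 1 ∧ A ∈ isoSub f₁ ∧ ∃ B : Matrix (Fin b) (Fin b) F, ∀ x u, g.val *ᵥ pt x u = pt (A.val *ᵥ x) (B *ᵥ u)

lemma Fac.mul {g h : GL (Fin a × Fin b) F} {A A' : GL (Fin a) F} (hg : Fac f₁ g A) (hh : Fac f₁ h A') :
    Fac f₁ (g * h) (A * A') := by
  obtain ⟨hd, hi, B, hB⟩ := hg
  obtain ⟨hd', hi', B', hB'⟩ := hh
  exact ⟨by rw [Units.val_mul, det_mul, hd, hd', one_mul], mul_mem hi hi', B * B', fun x u => by
    rw [Units.val_mul, Units.val_mul, ← mulVec_mulVec, hB', hB, mulVec_mulVec, mulVec_mulVec]⟩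

lemma finrank_invol_split (h2 : (2 : F) ≠ 0) {B : Matrix (Fin b) (Fin b) F} (hB : ∀ u, B *ᵥ (B *ᵥ u) = u) :
    b ≤ Module.finrank F (LinearMap.ker (Matrix.mulVecLin B - LinearMap.id)) +
      Module.finrank F (LinearMap.ker (Matrix.mulVecLin B + LinearMap.id)) := by
  obtain ⟨P, hP⟩ : ∃ P, P = LinearMap.ker (Matrix.mulVecLin B - LinearMap.id) := ⟨_, rfl⟩
  obtain ⟨N, hN⟩ : ∃ N, N = LinearMap.ker (Matrix.mulVecLin B + LinearMap.id) := ⟨_, rfl⟩
  have htop : (⊤ : Submodule F (Fin b → F)) ≤ P ⊔ N := fun u _ => by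
    have e : u = (2 : F)⁻¹ • (u + B *ᵥ u) + (2 : F)⁻¹ • (u - B *ᵥ u) := by
      rw [← smul_add, show u + B *ᵥ u + (u - B *ᵥ u) = (2 : F) • u by module, inv_smul_smul₀ h2]
    rw [e]
    refine Submodule.add_mem_sup (P.smul_mem _ ?_) (N.smul_mem _ ?_)
    · rw [hP, LinearMap.mem_ker]
      simp [mulVec_add, hB, add_comm]
    · rw [hN, LinearMap.mem_ker]
      simp [mulVec_sub, hB]
  have h := Submodule.finrank_mono htop
  rw [finrank_top, Module.finrank_fin_fun] at h
  rw [← hP, ← hN]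
  exact h.trans (Submodule.finrank_add_le_finrank_add_finrank P N)

variable [Fintype F] {Ω M : Subgroup (GL (Fin a × Fin b) F)} (C : Ctx f₁ f₂ Ω M)

/-- The half turn of the first factor. -/
noncomputable def tR {w : Fin a → F} (hw : f₁ w w ≠ 0) : GL (Fin a × Fin b) F := krL a b (halfG C.left hw)

/-- The translations at a singular vector. -/
noncomputable def transl {e : Fin b → F} (hee : f₂ e e = 0) (e' : Fin b → F) :
    Multiplicative (pairW f₂ e e') →* GL (Fin a × Fin b) F :=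
  MonoidHom.mk' (fun v => TB C hee (u := e) (w := v.toAdd.1)
      (by rw [C.right.symm]; exact ((mem_pairW C.right).mp v.toAdd.2).1)) fun v v' => Units.ext (by
    change (1 : Matrix (Fin a) (Fin a) F) ⊗ₖ eA f₂ e (v * v').toAdd.1 =
      ((1 : Matrix (Fin a) (Fin a) F) ⊗ₖ eA f₂ e v.toAdd.1) * ((1 : Matrix (Fin a) (Fin a) F) ⊗ₖ eA f₂ e v'.toAdd.1)
    rw [← mul_kronecker_mul, one_mul, eA_mul C.right C.two hee
      (by rw [C.right.symm]; exact ((mem_pairW C.right).mp v.toAdd.2).1)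
      (by rw [C.right.symm]; exact ((mem_pairW C.right).mp v'.toAdd.2).1), toAdd_mul, Submodule.coe_add])

include C

lemma transl_apply {e e' : Fin b → F} (hee : f₂ e e = 0) (v : Multiplicative (pairW f₂ e e')) (x : Fin a → F)
    (u : Fin b → F) : (transl C hee e' v).val *ᵥ pt x u = pt x (eA f₂ e v.toAdd.1 *ᵥ u) := TB_apply C _ _ x u

lemma transl_mem {e e' : Fin b → F} (hee : f₂ e e = 0) (v : Multiplicative (pairW f₂ e e')) :
    transl C hee e' v ∈ M := TB_mem C _ _

lemma tR_apply {w : Fin a → F} (hw : f₁ w w ≠ 0) (x : Fin a → F) (u : Fin b → F) :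
    (tR C hw).val *ᵥ pt x u = pt (halfM f₁ w *ᵥ x) u := krL_apply _ x u

lemma tR_vec {w : Fin a → F} (hw : f₁ w w ≠ 0) (v : Fin a × Fin b → F) :
    (tR C hw).val *ᵥ v = pt w ((2 / f₁ w w) • slA (gram f₁ *ᵥ w) v) - v := by
  have e := lin_ext (L := Matrix.mulVecLin (tR C hw).val)
    (L' := (ptR w).comp ((2 / f₁ w w) • slA (gram f₁ *ᵥ w)) - LinearMap.id) fun x u => by
      simp only [Matrix.mulVecLin_apply, tR_apply, LinearMap.sub_apply, LinearMap.comp_apply, LinearMap.smul_apply,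
        LinearMap.id_apply, slA_pt, ← sym_dot C.left, halfM_mulVec C.left, pt_sub_left, pt_smul_left, smul_smul]
      change _ = pt w ((2 / f₁ w w * f₁ x w) • u) - pt x u
      rw [pt_smul_right]
      congr 2
      ring
  exact LinearMap.congr_fun e v

lemma fix_tR {w : Fin a → F} (hw : f₁ w w ≠ 0) {v : Fin a × Fin b → F} (hv : (tR C hw).val *ᵥ v = v) :
    v = pt w ((f₁ w w)⁻¹ • slA (gram f₁ *ᵥ w) v) := by
  rw [tR_vec] at hv
  have h := congrArg (fun z => (2 : F)⁻¹ • (z + v)) hv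
  simp only [sub_add_cancel, ← two_smul F v, inv_smul_smul₀ C.two] at h
  rw [← pt_smul_right, smul_smul] at h
  conv_lhs => rw [← h]
  congr 2
  have := C.two
  field_simp

lemma tR_ne_one {w : Fin a → F} (hw : f₁ w w ≠ 0) : tR C hw ≠ 1 := by
  intro h
  obtain ⟨u, hu, -⟩ := exists_singular_sym C.right C.two (by have := C.four; omega)
  obtain ⟨y, hy, hq⟩ := exists_aniso C.left C.two (nd_perpIn C.left (nd_top C.left) Submodule.mem_top hw) (by
    have := finrank_perpIn C.left ⊤ w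
    rw [finrank_top, Module.finrank_fin_fun] at this
    have := C.dim
    omega)
  have h1 := tR_apply C hw y u
  rw [h, Units.val_one, one_mulVec, halfM_perp C.left w ((mem_perpIn C.left).mp hy).2, pt_neg_left,
    eq_neg_iff_add_eq_zero, ← two_smul F (pt y u)] at h1
  have h3 := pt_eq_zero hu ((smul_eq_zero.mp h1).resolve_left C.two)
  exact hq (by rw [h3, sym_zero_left C.left])

lemma tR_sq {w : Fin a → F} (hw : f₁ w w ≠ 0) : tR C hw * tR C hw = 1 := by
  rw [tR, ← map_mul, show halfG C.left hw * halfG C.left hw = 1 from Units.ext (halfM_sq C.left hw), map_one]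

lemma finrank_fix_tR {w : Fin a → F} (hw : f₁ w w ≠ 0) : Module.finrank F (fixSp (tR C hw)) = b := by
  have hw0 : w ≠ 0 := fun h => hw (by rw [h, sym_zero_left C.left])
  have e : fixSp (tR C hw) = LinearMap.range (ptR (b := b) w) := by
    refine le_antisymm (fun v hv => ⟨_, (fix_tR C hw (mem_fixSp.mp hv)).symm⟩) ?_
    rintro _ ⟨u, rfl⟩
    refine mem_fixSp.mpr ?_
    change (tR C hw).val *ᵥ pt w u = pt w u
    rw [tR_apply, halfM_self C.left hw]
  rw [e, LinearMap.finrank_range_of_inj, Module.finrank_fin_fun]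
  intro u u' h
  obtain ⟨φ, -, hφ⟩ := exists_functional (E := (⊥ : Submodule F (Fin a → F))) (u := w) (by simpa using hw0)
  have h1 := congrArg (slA φ) (show pt w u = pt w u' from h)
  rwa [slA_pt, slA_pt, hφ, one_smul, one_smul] at h1

/-- An element carrying a translation to a product trivial on the first factor is a tensor product. -/
theorem kron_of_conj_translation {n : GL (Fin a × Fin b) F} (hn : n ∈ M) {e v : Fin b → F} (he : e ≠ 0)
    (hee : f₂ e e = 0) (hev : f₂ e v = 0) (hvv : f₂ v v ≠ 0) {β : Matrix (Fin b) (Fin b) F}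
    (h : ∀ x u, (n * TB C hee hev * n⁻¹).val *ᵥ pt x u = pt x (β *ᵥ u)) : IsKron n := by
  have hl := C.left
  have hr := C.right
  obtain ⟨y, hy⟩ : ∃ y, y = n * TB C hee hev * n⁻¹ := ⟨_, rfl⟩
  rw [← hy] at h
  obtain ⟨e', he', hee', he'e⟩ := exists_partner_sym hr C.two he hee
  have hT2 : ∀ w, ((TB C hee hev).val - 1) *ᵥ (((TB C hee hev).val - 1) *ᵥ w) =
      pt ((-f₂ v v) • s2 f₂ e w) e := fun w => by
    have e1 := lin_ext (L := (Matrix.mulVecLin ((TB C hee hev).val - 1)).comp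
        (Matrix.mulVecLin ((TB C hee hev).val - 1)))
      (L' := (ptL e).comp ((-f₂ v v) • s2 f₂ e)) fun x z => by
        have e2 : ∀ z, ((TB C hee hev).val - 1) *ᵥ pt x z = pt x ((eA f₂ e v - 1) *ᵥ z) := fun z => by
          rw [sub_mulVec, one_mulVec, TB_apply, ← pt_sub_right, sub_mulVec, one_mulVec]
        simp only [LinearMap.comp_apply, Matrix.mulVecLin_apply, e2, eA_sub_one_sq hr hee hev, LinearMap.smul_apply,
          s2q hr, ptL_apply, smul_smul, pt_smul_right, pt_smul_left]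
        congr 1
        ring
    exact LinearMap.congr_fun e1 w
  have hy2 : ∀ w, (y.val - 1) *ᵥ ((y.val - 1) *ᵥ w) = n.val *ᵥ pt ((-f₂ v v) • s2 f₂ e (n⁻¹.val *ᵥ w)) e :=
    fun w => by
      rw [hy, conj_sub_one]
      simp only [← mulVec_mulVec, Transvec.inv_mulVec_cancel, hT2]
  have hγ : ∀ x u, (y.val - 1) *ᵥ ((y.val - 1) *ᵥ pt x u) = pt x ((β - 1) *ᵥ ((β - 1) *ᵥ u)) := fun x u => by
    have e2 : ∀ u, (y.val - 1) *ᵥ pt x u = pt x ((β - 1) *ᵥ u) := fun u => by
      rw [sub_mulVec, one_mulVec, h, ← pt_sub_right, sub_mulVec, one_mulVec]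
    rw [e2, e2]
  obtain ⟨u₀, hu₀⟩ : ∃ u₀, (β - 1) *ᵥ ((β - 1) *ᵥ u₀) ≠ 0 := by
    by_contra hc
    push Not at hc
    obtain ⟨x, hx, -⟩ := exists_singular_sym hl C.two C.dim
    have h0 : (y.val - 1) *ᵥ ((y.val - 1) *ᵥ (n.val *ᵥ pt x e')) = 0 := by
      rw [eq_sum_pt (n.val *ᵥ pt x e'), Matrix.mulVec_sum, Matrix.mulVec_sum]
      exact Finset.sum_eq_zero fun j _ => by rw [hγ, hc, pt_zero_right]
    rw [hy2, Transvec.inv_mulVec_cancel, s2q hr, he'e, one_smul] at h0
    have h1 : n.val *ᵥ pt ((-f₂ v v) • x) e = n.val *ᵥ 0 := by rw [h0, mulVec_zero]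
    exact hx ((smul_eq_zero.mp (pt_eq_zero he (mulVec_injective n h1))).resolve_left (neg_ne_zero.mpr hvv))
  obtain ⟨l, hl'⟩ : ∃ l, l = (β - 1) *ᵥ ((β - 1) *ᵥ u₀) := ⟨_, rfl⟩
  rw [← hl'] at hu₀
  have hex : ∀ x, ∃ z, n.val *ᵥ pt z e = pt x l := fun x => ⟨_, by rw [hl', ← hγ, hy2]⟩
  choose φ hφ using hex
  have hφs : Function.Surjective φ := Finite.injective_iff_surjective.mp fun x x' hxx' =>
    pt_injective hu₀ (by simp only [ptL_apply]; rw [← hφ, hxx', hφ])
  have hll : f₂ l l = 0 := by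
    obtain ⟨x, hx, hxx⟩ := exists_singular_sym hl C.two C.dim
    obtain ⟨x', hx', hxx', -⟩ := exists_partner_sym hl C.two hx hxx
    have h1 := isoM C hn (pt (φ x) e) (pt (φ x') e)
    rwa [hφ, hφ, bform_ptpt hl hr, bform_ptpt hl hr, hxx', one_mul, hee, mul_zero] at h1
  refine kron_of_move C hn he hee hu₀ hll fun z => ?_
  obtain ⟨x, rfl⟩ := hφs z
  exact ⟨x, hφ x⟩

variable (ha : a = 3)
include ha

/-- Tensor products have a normalised first factor. -/
lemma exists_fac {g : GL (Fin a × Fin b) F} (hg : g ∈ M) (hk : IsKron g) : ∃ A, Fac f₁ g A := by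
  have hl := C.left
  have hr := C.right
  obtain ⟨A, B, hAB⟩ := isKron_apply hk
  obtain ⟨u₀, -, hu₀⟩ := exists_aniso hr C.two (nd_top hr) (by
    rw [finrank_top, Module.finrank_fin_fun]; have := C.four; omega)
  obtain ⟨x₁, hx₁, hx₁x₁⟩ := exists_singular_sym hl C.two C.dim
  obtain ⟨x₂, -, hx₁₂, -⟩ := exists_partner_sym hl C.two hx₁ hx₁x₁
  have hiso : ∀ x x', f₁ (A.val *ᵥ x) (A.val *ᵥ x') * f₂ (B.val *ᵥ u₀) (B.val *ᵥ u₀) = f₁ x x' * f₂ u₀ u₀ :=
    fun x x' => by
      have h := isoM C hg (pt x u₀) (pt x' u₀)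
      rwa [hAB, hAB, bform_ptpt hl hr, bform_ptpt hl hr] at h
  have hr0 : f₂ (B.val *ᵥ u₀) (B.val *ᵥ u₀) ≠ 0 := fun h0 => by
    have h := hiso x₁ x₂
    rw [h0, mul_zero, hx₁₂, one_mul] at h
    exact hu₀ h.symm
  obtain ⟨μ, hμ⟩ : ∃ μ, μ = f₂ u₀ u₀ / f₂ (B.val *ᵥ u₀) (B.val *ᵥ u₀) := ⟨_, rfl⟩
  have hμ0 : μ ≠ 0 := hμ ▸ div_ne_zero hu₀ hr0
  have hform : ∀ x x', f₁ (A.val *ᵥ x) (A.val *ᵥ x') = μ * f₁ x x' := fun x x' => by
    have h := hiso x x'
    rw [hμ, div_mul_eq_mul_div, eq_div_iff hr0, h, mul_comm]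
  have hadj : adj f₁ A.val * A.val = μ • 1 := Matrix.ext_iff_mulVec.mpr fun x => sym_eq hl fun p => by
    rw [← mulVec_mulVec, sym_adj_spec' hl, hform, smul_mulVec, one_mulVec, hl.bilinear.smul_left]
  have hdadj : (adj f₁ A.val).det = A.val.det := by
    rw [adj, det_mul, det_mul, det_transpose, mul_right_comm, ← det_mul,
      mul_eq_one_comm.mp (sym_gram_mul_inv hl), det_one, one_mul]
  have hd := congrArg Matrix.det hadj
  have h3 : ∀ x : F, x ^ a = x ^ 3 := fun x => by rw [ha]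
  rw [det_mul, hdadj, det_smul, det_one, mul_one, Fintype.card_fin, h3] at hd
  obtain ⟨d, hddef⟩ : ∃ d, d = A.val.det := ⟨_, rfl⟩
  rw [← hddef] at hd
  have hd0 : d ≠ 0 := fun h => by rw [h, zero_mul] at hd; exact pow_ne_zero 3 hμ0 hd.symm
  obtain ⟨s, hs⟩ : ∃ s, s = μ / d := ⟨_, rfl⟩
  have hs0 : s ≠ 0 := hs ▸ div_ne_zero hμ0 hd0
  have hsμ : s * s * μ = 1 := by
    rw [hs]
    field_simp
    linear_combination -hd
  have hinv : (s • A.val) * adj f₁ (s • A.val) = 1 := mul_eq_one_comm.mp (by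
    rw [sym_adj_smul hl, Matrix.smul_mul, Matrix.mul_smul, hadj, smul_smul, smul_smul, hsμ, one_smul])
  refine ⟨unitOf (s • A.val) _ hinv, ?_, ?_, s⁻¹ • B.val, fun x u => ?_⟩
  · change (s • A.val).det = 1
    rw [det_smul, Fintype.card_fin, h3, ← hddef, hs]
    field_simp
    linear_combination -hd
  · intro x y
    change f₁ ((s • A.val) *ᵥ x) ((s • A.val) *ᵥ y) = _
    rw [smul_mulVec, smul_mulVec, hl.bilinear.smul_left, hl.bilinear.smul_right, hform, ← mul_assoc, ← mul_assoc,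
      hsμ, one_mul]
  · change _ = pt ((s • A.val) *ᵥ x) _
    rw [hAB, smul_mulVec, smul_mulVec, pt_smul_left, pt_smul_right, smul_smul, mul_inv_cancel₀ hs0, one_smul]

/-- The normalised first factor is unique. -/
lemma fac_unique {g : GL (Fin a × Fin b) F} {A A' : GL (Fin a) F} (h : Fac f₁ g A) (h' : Fac f₁ g A') :
    A = A' := by
  have hl := C.left
  obtain ⟨hd, hi, B, hB⟩ := h
  obtain ⟨hd', hi', B', hB'⟩ := h'
  obtain ⟨x₁, hx₁, hx₁x₁⟩ := exists_singular_sym hl C.two C.dim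
  obtain ⟨x₂, -, hx₁₂, -⟩ := exists_partner_sym hl C.two hx₁ hx₁x₁
  obtain ⟨u₀, hu₀, -⟩ := exists_singular_sym C.right C.two (by have := C.four; omega)
  have hBu : B *ᵥ u₀ ≠ 0 := fun h0 => by
    have h := hB x₁ u₀
    rw [h0, pt_zero_right] at h
    exact hx₁ (pt_eq_zero hu₀ (mulVec_injective g (by simpa using h)))
  obtain ⟨φ, -, hφ⟩ := exists_functional (E := (⊥ : Submodule F (Fin b → F))) (u := B *ᵥ u₀) (by simpa using hBu)
  obtain ⟨c, hc⟩ : ∃ c, c = φ ⬝ᵥ (B' *ᵥ u₀) := ⟨_, rfl⟩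
  have hA : A.val = c • A'.val := Matrix.ext_iff_mulVec.mpr fun x => by
    have h := congrArg (sl φ) ((hB x u₀).symm.trans (hB' x u₀))
    rwa [sl_pt, sl_pt, hφ, one_smul, ← hc, ← smul_mulVec] at h
  have hc2 : c * c = 1 := by
    have h := hi x₁ x₂
    rw [hA, smul_mulVec, smul_mulVec, hl.bilinear.smul_left, hl.bilinear.smul_right, hi', hx₁₂] at h
    linear_combination h
  have hc3 : c ^ 3 = 1 := by
    rw [hA, det_smul, hd', mul_one, Fintype.card_fin] at hd
    rwa [show c ^ a = c ^ 3 by rw [ha]] at hd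
  have hc1 : c = 1 := by linear_combination hc3 - c * hc2
  exact Units.ext (by rw [hA, hc1, one_smul])

variable (hb : b = 4) (hres : ∀ x y, x ≠ 0 → f₂ x x = 0 → f₂ y y = 0 → f₂ x y = 0 → y ∈ Submodule.span F {x})
  {e e' : Fin b → F} (hee : f₂ e e = 0) (he' : f₂ e' e' = 0) (hee' : f₂ e e' = 1)
include hb hres hee he' hee'

omit ha in
lemma transl_spec {v : Multiplicative (pairW f₂ e e')} (hv : v ≠ 1) :
    f₂ v.toAdd.1 v.toAdd.1 ≠ 0 ∧ f₂ e v.toAdd.1 = 0 := by
  obtain ⟨h1, h1'⟩ := (mem_pairW C.right).mp v.toAdd.2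
  refine ⟨fun h0 => hv ?_, by rw [C.right.symm, h1]⟩
  have h3 : v.toAdd = 0 := Subtype.ext (eq_zero_of_pairW_singular C.right hres hee hee' h1 h1' h0)
  simpa using congrArg Multiplicative.ofAdd h3

/-- An element carrying all translations to tensor products is a tensor product. -/
theorem kron_of_conj_all {n : GL (Fin a × Fin b) F} (hn : n ∈ M)
    (hall : ∀ v, IsKron (n * transl C hee e' v * n⁻¹)) : IsKron n := by
  classical
  have he : e ≠ 0 := fun h => by rw [h, sym_zero_left C.right] at hee'; exact zero_ne_one hee'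
  obtain ⟨p, hpF⟩ := CharP.exists F
  haveI : Fact p.Prime := ⟨CharP.char_is_prime F p⟩
  have hpodd : Odd p := (Fact.out : p.Prime).odd_of_ne_two (by
    rintro rfl
    exact C.two (by simpa using CharP.cast_eq_zero F 2))
  choose α hα using fun v => exists_fac C ha
    (M.mul_mem (M.mul_mem hn (transl_mem C hee v)) (M.inv_mem hn)) (hall v)
  obtain ⟨φ, hφ⟩ : ∃ φ : Multiplicative (pairW f₂ e e') →* GL (Fin a) F, ∀ v, φ v = α v :=
    ⟨MonoidHom.mk' α fun v v' => fac_unique C ha (hα _) (by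
      have h := (hα v).mul (hα v')
      rwa [show n * transl C hee e' v * n⁻¹ * (n * transl C hee e' v' * n⁻¹) =
        n * transl C hee e' (v * v') * n⁻¹ by rw [map_mul]; group] at h), fun v => rfl⟩
  have hW : IsPGroup p (Multiplicative (pairW f₂ e e')) := fun w => ⟨1, by
    rw [pow_one]
    change p • w.toAdd = 0
    rw [← Nat.cast_smul_eq_nsmul F, CharP.cast_eq_zero, zero_smul]⟩
  have hH : IsPGroup p φ.range := hW.of_surjective φ.rangeRestrict φ.rangeRestrict_surjective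
  have hle := pgroup_card_le C.left ha C.two hH (fun A hA => by
    obtain ⟨v, rfl⟩ := hA
    rw [hφ]
    exact (hα v).2.1) hpodd
  obtain ⟨v, hv, hv1⟩ : ∃ v, φ v = 1 ∧ v ≠ 1 := by
    by_contra hc
    push Not at hc
    have hinj : Function.Injective φ := (injective_iff_map_eq_one φ).mpr hc
    have h1 : Nat.card φ.range = Nat.card (Multiplicative (pairW f₂ e e')) :=
      (Nat.card_congr (MonoidHom.ofInjective hinj).toEquiv).symm
    rw [h1, show Nat.card (Multiplicative (pairW f₂ e e')) = Nat.card (pairW f₂ e e') from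
      Nat.card_congr Multiplicative.toAdd, Nat.card_eq_fintype_card, Module.card_eq_pow_finrank (K := F)] at hle
    have h3 : 2 ≤ Module.finrank F (pairW f₂ e e') := by have := finrank_pairW C.right e e'; omega
    have h4 : Fintype.card F ^ 2 ≤ Fintype.card F :=
      (Nat.pow_le_pow_right Fintype.card_pos h3).trans hle
    have h5 : 1 < Fintype.card F := Fintype.one_lt_card
    nlinarith
  obtain ⟨-, -, β, hβ⟩ := hα v
  rw [← hφ, hv] at hβ
  obtain ⟨hvv, hev⟩ := transl_spec C hb hres hee he' hee' hv1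
  exact kron_of_conj_translation C hn he hee hev hvv (β := β) fun x u => by
    have h := hβ x u
    rwa [Units.val_one, one_mulVec] at h

/-- A subgroup of prime power order containing the translations consists of tensor products. -/
theorem kron_of_pgroup_four {q : ℕ} [Fact q.Prime] {P : Subgroup (GL (Fin a × Fin b) F)} (hP : IsPGroup q P)
    (hPM : P ≤ M) (hX : ∀ v, transl C hee e' v ∈ P) {g : GL (Fin a × Fin b) F} (hg : g ∈ P) : IsKron g := by
  haveI : Finite (Matrix (Fin a × Fin b) (Fin a × Fin b) F) :=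
    inferInstanceAs (Finite ((Fin a × Fin b) → (Fin a × Fin b) → F))
  haveI : Finite (GL (Fin a × Fin b) F) := Finite.of_injective _ Units.val_injective
  obtain ⟨R, hR⟩ : ∃ R, R = (Cfsg.Geo.kroneckerSubgroup a b F).subgroupOf P := ⟨_, rfl⟩
  by_contra hk
  have hlt : R < ⊤ := lt_of_le_of_ne le_top fun h => hk (by
    have h1 : (⟨g, hg⟩ : P) ∈ R := h ▸ Subgroup.mem_top _
    rw [hR] at h1
    exact h1)
  have := hP.isNilpotent
  obtain ⟨n, hn, hnR⟩ := SetLike.exists_of_lt (Group.normalizerCondition_of_isNilpotent _ hlt)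
  refine hnR (hR ▸ ?_)
  exact kron_of_conj_all C ha hb hres hee he' hee' (hPM n.2) fun v => by
    have hXR : (⟨_, hX v⟩ : P) ∈ R := hR ▸ isKron_kr _ _
    have h1 := (Subgroup.mem_normalizer_iff.mp hn ⟨_, hX v⟩).mp hXR
    rw [hR] at h1
    exact h1

/-- Elements commuting with a half turn and fixing its eigenspace pointwise are tensor products. -/
theorem kron_of_stab {w : Fin a → F} (hw : f₁ w w ≠ 0) {k : GL (Fin a × Fin b) F} (hk : k ∈ M)
    (hkc : k * tR C hw = tR C hw * k) (hkf : ∀ u, k.val *ᵥ pt w u = pt w u) : IsKron k := by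
  classical
  have hl := C.left
  have hr := C.right
  haveI : Finite (Matrix (Fin a × Fin b) (Fin a × Fin b) F) :=
    inferInstanceAs (Finite ((Fin a × Fin b) → (Fin a × Fin b) → F))
  haveI : Finite (GL (Fin a × Fin b) F) := Finite.of_injective _ Units.val_injective
  have he : e ≠ 0 := fun h => by rw [h, sym_zero_left hr] at hee'; exact zero_ne_one hee'
  obtain ⟨p, hpF⟩ := CharP.exists F
  haveI : Fact p.Prime := ⟨CharP.char_is_prime F p⟩
  have hpodd : Odd p := (Fact.out : p.Prime).odd_of_ne_two (by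
    rintro rfl
    exact C.two (by simpa using CharP.cast_eq_zero F 2))
  obtain ⟨K, hK⟩ : ∃ K : Subgroup (GL (Fin a × Fin b) F), ∀ h, h ∈ K ↔
      h ∈ M ∧ Commute h (tR C hw) ∧ ∀ u, h.val *ᵥ pt w u = pt w u :=
    ⟨{ carrier := {h | h ∈ M ∧ Commute h (tR C hw) ∧ ∀ u, h.val *ᵥ pt w u = pt w u}
       one_mem' := ⟨M.one_mem, Commute.one_left _, fun u => by rw [Units.val_one, one_mulVec]⟩
       mul_mem' := fun {g h} hg hh => ⟨M.mul_mem hg.1 hh.1, hg.2.1.mul_left hh.2.1, fun u => by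
        rw [Units.val_mul, ← mulVec_mulVec, hh.2.2, hg.2.2]⟩
       inv_mem' := fun {g} hg => ⟨M.inv_mem hg.1, hg.2.1.inv_left, fun u => by
        conv_lhs => rw [← hg.2.2 u, Transvec.inv_mulVec_cancel]⟩ }, fun h => Iff.rfl⟩
  obtain ⟨X, hX⟩ : ∃ X, X = (transl C hee e').range := ⟨_, rfl⟩
  have hXc : ∀ v, Commute (transl C hee e' v) (tR C hw) := fun v => Transvec.gl_ext fun z => by
    rw [Units.val_mul, Units.val_mul, eq_sum_pt z, Matrix.mulVec_sum, Matrix.mulVec_sum]
    exact Finset.sum_congr rfl fun j _ => by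
      rw [← mulVec_mulVec, ← mulVec_mulVec, tR_apply, transl_apply, transl_apply, tR_apply]
  have hconj : ∀ v, ∀ h ∈ K, transl C hee e' v * h * (transl C hee e' v)⁻¹ ∈ K := fun v h hh => by
    obtain ⟨h1, h3, h4⟩ := (hK h).mp hh
    refine (hK _).mpr ⟨M.mul_mem (M.mul_mem (transl_mem C hee v) h1) (M.inv_mem (transl_mem C hee v)),
      ((hXc v).mul_left h3).mul_left (hXc v).inv_left, fun u => ?_⟩
    rw [Units.val_mul, Units.val_mul, ← mulVec_mulVec, ← mulVec_mulVec, ← map_inv, transl_apply, h4,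
      ← transl_apply C hee (v⁻¹) w u, map_inv, Transvec.mulVec_inv_cancel]
  have hXK : X ≤ Subgroup.normalizer (K : Set (GL (Fin a × Fin b) F)) := by
    rw [hX]
    rintro _ ⟨v, rfl⟩
    refine Subgroup.mem_normalizer_iff.mpr fun h => ⟨hconj v h, fun hh => ?_⟩
    have h1 := hconj v⁻¹ _ hh
    rw [map_inv] at h1
    simpa [mul_assoc] using h1
  have hXp : IsPGroup p X := by
    rw [hX]
    refine IsPGroup.of_surjective (fun v => ⟨1, ?_⟩) (transl C hee e').rangeRestrict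
      (transl C hee e').rangeRestrict_surjective
    rw [pow_one]
    change p • v.toAdd = 0
    rw [← Nat.cast_smul_eq_nsmul F, CharP.cast_eq_zero, zero_smul]
  -- no element of order the characteristic
  have hcop : ¬ p ∣ Nat.card K := by
    intro hd
    obtain ⟨k₀, hk₀⟩ := exists_prime_orderOf_dvd_card' p hd
    obtain ⟨Γ, hΓ⟩ : ∃ Γ, Γ = K ⊔ X := ⟨_, rfl⟩
    have hΓM : Γ ≤ M := hΓ ▸ sup_le (fun h hh => ((hK h).mp hh).1) (hX ▸ by
      rintro _ ⟨v, rfl⟩; exact transl_mem C hee v)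
    have hΓn : Γ ≤ Subgroup.normalizer (K : Set (GL (Fin a × Fin b) F)) :=
      hΓ ▸ sup_le Subgroup.le_normalizer hXK
    have hkΓ : k₀.1 ∈ Γ := hΓ ▸ Subgroup.mem_sup_left k₀.2
    have hk₀p : IsPGroup p (Subgroup.zpowers (⟨k₀.1, hkΓ⟩ : Γ)) := IsPGroup.of_card (n := 1) (by
      rw [Nat.card_zpowers, pow_one, ← hk₀, ← Subgroup.orderOf_coe, ← Subgroup.orderOf_coe k₀])
    obtain ⟨Q, hQ⟩ := hk₀p.exists_le_sylow
    obtain ⟨P, hP⟩ := (hXp.comap_subtype (K := Γ)).exists_le_sylow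
    obtain ⟨γ, hγ⟩ := MulAction.exists_smul_eq Γ Q P
    have hmem : γ.1 * k₀.1 * γ.1⁻¹ ∈ P.1.map Γ.subtype := by
      refine ⟨γ * ⟨k₀.1, hkΓ⟩ * γ⁻¹, ?_, rfl⟩
      rw [← hγ]
      exact Subgroup.smul_mem_pointwise_smul _ (MulAut.conj γ) Q.1 (hQ (Subgroup.mem_zpowers _))
    have hPk := kron_of_pgroup_four C ha hb hres hee he' hee' (P.2.map Γ.subtype)
      ((Subgroup.map_subtype_le P.1).trans hΓM)
      (fun v => ⟨⟨_, hΓ ▸ Subgroup.mem_sup_right (hX ▸ ⟨v, rfl⟩)⟩, hP (by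
        change (transl C hee e' v) ∈ X
        exact hX ▸ ⟨v, rfl⟩), rfl⟩) hmem
    obtain ⟨k', hk'def⟩ : ∃ k', k' = γ.1 * k₀.1 * γ.1⁻¹ := ⟨_, rfl⟩
    rw [← hk'def] at hPk
    have hk'K : k' ∈ K := hk'def ▸ (Subgroup.mem_normalizer_iff.mp (hΓn γ.2) k₀.1).mp k₀.2
    obtain ⟨hk'M, -, hk'f⟩ := (hK _).mp hk'K
    have hk'p : k' ^ p = 1 := by
      have h1 : k₀.1 ^ p = 1 := by
        rw [← hk₀, ← SubmonoidClass.coe_pow, pow_orderOf_eq_one, OneMemClass.coe_one]
      rw [hk'def, conj_pow, h1, mul_one, mul_inv_cancel]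
    obtain ⟨A, hAd, hAi, B, hAB⟩ := exists_fac C ha hk'M hPk
    obtain ⟨u₀, hu₀, hu₀u₀⟩ := exists_singular_sym hr C.two (by have := C.four; omega)
    have hw0 : w ≠ 0 := fun h => hw (by rw [h, sym_zero_left hl])
    obtain ⟨φ, -, hφ⟩ := exists_functional (E := (⊥ : Submodule F (Fin a → F))) (u := w) (by simpa using hw0)
    obtain ⟨c, hc⟩ : ∃ c, c = φ ⬝ᵥ (A.val *ᵥ w) := ⟨_, rfl⟩
    have hB : ∀ u, c • (B *ᵥ u) = u := fun u => by
      have h := congrArg (slA φ) ((hAB w u).symm.trans (hk'f u))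
      rwa [slA_pt, slA_pt, hφ, ← hc, one_smul] at h
    have hc0 : c ≠ 0 := fun h => hu₀ (by rw [← hB u₀, h, zero_smul])
    have hB' : ∀ u, B *ᵥ u = c⁻¹ • u := fun u => by conv_rhs => rw [← hB u, inv_smul_smul₀ hc0]
    have hk'A : ∀ x u, k'.val *ᵥ pt x u = pt ((c⁻¹ • A.val) *ᵥ x) u := fun x u => by
      rw [hAB, hB', pt_smul_right, smul_mulVec, pt_smul_left]
    have hAw : (c⁻¹ • A.val) *ᵥ w = w := pt_injective hu₀ (by
      simp only [ptL_apply]
      rw [← hk'A, hk'f])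
    have hA'i : ∀ x y, f₁ ((c⁻¹ • A.val) *ᵥ x) ((c⁻¹ • A.val) *ᵥ y) = f₁ x y := by
      have hcc : c⁻¹ * c⁻¹ = 1 := by
        refine mul_right_cancel₀ hw ?_
        rw [one_mul]
        conv_rhs => rw [← hAw, smul_mulVec, hl.bilinear.smul_left, hl.bilinear.smul_right, hAi, ← mul_assoc]
      intro x y
      rw [smul_mulVec, smul_mulVec, hl.bilinear.smul_left, hl.bilinear.smul_right, hAi, ← mul_assoc, hcc, one_mul]
    obtain ⟨A', hA'⟩ : ∃ A' : GL (Fin a) F, A'.val = c⁻¹ • A.val :=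
      ⟨unitOf (c⁻¹ • A.val) (adj f₁ (c⁻¹ • A.val)) (mul_eq_one_comm.mp (sym_adj_iso hl hA'i)), rfl⟩
    have hk'eq : krL a b A' = k' := Transvec.gl_ext fun z => by
      rw [eq_sum_pt z, Matrix.mulVec_sum, Matrix.mulVec_sum]
      exact Finset.sum_congr rfl fun j _ => by rw [krL_apply, hk'A, hA']
    have hA'p : A' ^ p = 1 := krL_injective hu₀ (by rw [map_pow, hk'eq, hk'p, map_one])
    have hZ : IsPGroup p (Subgroup.zpowers A') := fun B => by
      obtain ⟨i, hi⟩ := Subgroup.mem_zpowers_iff.mp B.2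
      refine ⟨1, Subtype.ext ?_⟩
      rw [pow_one, SubmonoidClass.coe_pow, ← hi, ← zpow_natCast, ← _root_.zpow_mul, mul_comm, _root_.zpow_mul, zpow_natCast,
        hA'p, _root_.one_zpow, OneMemClass.coe_one]
    have hA'iso : A' ∈ isoSub f₁ := fun x y => by rw [hA']; exact hA'i x y
    obtain ⟨Z, hZdef⟩ : ∃ Z : Subgroup (GL (Fin a) F), ∀ B, B ∈ Z ↔ B.val *ᵥ w = w :=
      ⟨{ carrier := {B | B.val *ᵥ w = w}
         one_mem' := by simp
         mul_mem' := fun {B B'} hB hB' => by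
          change (B * B').val *ᵥ w = w
          rw [Units.val_mul, ← mulVec_mulVec, hB', hB]
         inv_mem' := fun {B} (hB : B.val *ᵥ w = w) => by
          change B⁻¹.val *ᵥ w = w
          conv_lhs => rw [← hB, Transvec.inv_mulVec_cancel] }, fun B => Iff.rfl⟩
    have hA'1 : A' = 1 := pgroup_fix_aniso hl ha C.two hZ
      (fun B hB => (Subgroup.zpowers_le.mpr hA'iso) hB) hpodd hw
      (fun B hB => (hZdef B).mp ((Subgroup.zpowers_le.mpr ((hZdef A').mpr (by rw [hA', hAw]))) hB))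
      (Subgroup.mem_zpowers A')
    rw [hA'1, map_one] at hk'eq
    have hk₀1 : k₀.1 = 1 := by
      have h := hk'def.symm.trans hk'eq.symm
      rwa [conj_eq_one_iff] at h
    rw [Subgroup.orderOf_coe k₀ |>.symm, hk₀1, orderOf_one] at hk₀
    exact (Fact.out : p.Prime).one_lt.ne hk₀
  -- the centralisers of translations generate
  have hXabel : ∀ x ∈ X, ∀ y ∈ X, x * y = y * x := by
    rw [hX]
    rintro _ ⟨v, rfl⟩ _ ⟨v', rfl⟩
    rw [← map_mul, ← map_mul, mul_comm]
  have htinj : Function.Injective (transl C hee e') := (injective_iff_map_eq_one _).mpr fun v hv => by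
    by_contra hv1
    obtain ⟨hvv, hev⟩ := transl_spec C hb hres hee he' hee' hv1
    obtain ⟨x, hx, -⟩ := exists_singular_sym hl C.two C.dim
    obtain ⟨hv2, hv2'⟩ := (mem_pairW hr).mp v.toAdd.2
    have h := transl_apply C hee v x e'
    rw [hv, Units.val_one, one_mulVec, eA_mulVec hr, hr.symm e' e, hee', one_smul, hr.symm e' v.toAdd.1, hv2',
      zero_smul, sub_zero, mul_one, add_sub_assoc, pt_add_right, left_eq_add] at h
    have h' : v.toAdd.1 - (f₂ v.toAdd.1 v.toAdd.1 / 2) • e = 0 := by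
      by_contra hne
      exact hx (pt_eq_zero hne h)
    have h3 := congrArg (fun z => f₂ z v.toAdd.1) h'
    simp only [sym_sub_left hr, hr.bilinear.smul_left, hev, mul_zero, sub_zero, sym_zero_left hr] at h3
    exact hvv h3
  have hnc : ¬ IsCyclic X := by
    intro hcyc
    obtain ⟨g₀, hg₀⟩ := hcyc.exists_generator
    obtain ⟨i, hi⟩ := IsPGroup.iff_card.mp hXp
    have hcard : Fintype.card F ^ 2 ≤ Nat.card X := by
      rw [hX, ← Nat.card_congr (MonoidHom.ofInjective htinj).toEquiv,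
        show Nat.card (Multiplicative (pairW f₂ e e')) = Nat.card (pairW f₂ e e') from
          Nat.card_congr Multiplicative.toAdd, Nat.card_eq_fintype_card,
        Module.card_eq_pow_finrank (K := F) (V := pairW f₂ e e')]
      have h2 : 2 ≤ Module.finrank F (pairW f₂ e e') := by have := finrank_pairW hr e e'; omega
      exact Nat.pow_le_pow_right Fintype.card_pos h2
    have hord : orderOf g₀ ≤ p := by
      refine Nat.le_of_dvd (Fact.out : p.Prime).pos (orderOf_dvd_of_pow_eq_one ?_)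
      obtain ⟨v, hv⟩ : g₀.1 ∈ (transl C hee e').range := hX ▸ g₀.2
      refine Subtype.ext ?_
      rw [SubmonoidClass.coe_pow, ← hv, ← map_pow, show v ^ p = 1 by
        change p • v.toAdd = 0
        rw [← Nat.cast_smul_eq_nsmul F, CharP.cast_eq_zero, zero_smul], map_one, OneMemClass.coe_one]
    rw [← orderOf_eq_card_of_forall_mem_zpowers hg₀] at hcard
    obtain ⟨n, -, hn⟩ := FiniteField.card F p
    have h1 : p ≤ Fintype.card F := hn ▸ Nat.le_self_pow n.ne_zero p
    have h3 : 1 < Fintype.card F := Fintype.one_lt_card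
    nlinarith
  have hcopXK : (Nat.card X).Coprime (Nat.card K) := by
    obtain ⟨i, hi⟩ := IsPGroup.iff_card.mp hXp
    rw [hi]
    exact Nat.Coprime.pow_left i ((Fact.out : p.Prime).coprime_iff_not_dvd.mpr hcop)
  have hgen := CfsgLib.Solvable.iSup_centralizer_eq hXabel hnc hXK hcopXK
  have hle : K ≤ Cfsg.Geo.kroneckerSubgroup a b F := by
    rw [← hgen]
    refine iSup₂_le fun x hx h hh => ?_
    obtain ⟨hxX, hx1⟩ := hx
    obtain ⟨v, rfl⟩ : x ∈ (transl C hee e').range := hX ▸ hxX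
    obtain ⟨hhK, hhc⟩ := Subgroup.mem_inf.mp hh
    obtain ⟨hvv, hev⟩ := transl_spec C hb hres hee he' hee' (v := v) (fun h0 => hx1 (by rw [h0, map_one]))
    refine kron_of_conj_translation C ((hK h).mp hhK).1 he hee hev hvv (β := eA f₂ e v.toAdd.1) fun x u => ?_
    have h1 : h * transl C hee e' v * h⁻¹ = transl C hee e' v := by
      rw [Subgroup.mem_centralizer_singleton_iff.mp hhc, mul_inv_cancel_right]
    rw [← transl_apply C hee v x u, ← h1]
    rfl
  exact hle ((hK k).mpr ⟨hk, hkc, hkf⟩)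

/-- The centraliser of a half turn consists of tensor products. -/
theorem kron_of_commute {w : Fin a → F} (hw : f₁ w w ≠ 0) {y : GL (Fin a × Fin b) F} (hy : y ∈ M)
    (hyc : y * tR C hw = tR C hw * y) : IsKron y := by
  have hl := C.left
  have hr := C.right
  obtain ⟨y₁, hy₁⟩ : ∃ y₁ : (Fin b → F) →ₗ[F] (Fin b → F), ∀ u,
      y₁ u = (f₁ w w)⁻¹ • slA (gram f₁ *ᵥ w) (y.val *ᵥ pt w u) :=
    ⟨(f₁ w w)⁻¹ • (slA (gram f₁ *ᵥ w)).comp ((Matrix.mulVecLin y.val).comp (ptR w)), fun u => rfl⟩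
  have hyw : ∀ u, y.val *ᵥ pt w u = pt w (y₁ u) := fun u => by
    rw [hy₁]
    refine fix_tR C hw ?_
    have h := congrArg (fun g : GL (Fin a × Fin b) F => g.val *ᵥ pt w u) hyc
    simp only [Units.val_mul, ← mulVec_mulVec, tR_apply, halfM_self hl hw] at h
    exact h.symm
  have hy₁iso : ∀ u u', f₂ (y₁ u) (y₁ u') = f₂ u u' := fun u u' => by
    have h := isoM C hy (pt w u) (pt w u')
    rw [hyw, hyw, bform_ptpt hl hr, bform_ptpt hl hr] at h
    exact mul_left_cancel₀ hw h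
  have hinj : Function.Injective y₁ := fun u u' huu => sym_eq hr fun p => by
    rw [← hy₁iso u p, ← hy₁iso u' p, huu]
  refine kron_of_conj_all C ha hb hres hee he' hee' hy fun v => ?_
  obtain ⟨-, hev⟩ : True ∧ f₂ e v.toAdd.1 = 0 :=
    ⟨trivial, by rw [hr.symm]; exact ((mem_pairW hr).mp v.toAdd.2).1⟩
  have he1 : f₂ (y₁ e) (y₁ e) = 0 := by rw [hy₁iso, hee]
  have hev1 : f₂ (y₁ e) (y₁ v.toAdd.1) = 0 := by rw [hy₁iso, hev]
  obtain ⟨T, hT⟩ : ∃ T, T = TB C he1 hev1 := ⟨_, rfl⟩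
  have hTc : Commute T (tR C hw) := Transvec.gl_ext fun z => by
    rw [Units.val_mul, Units.val_mul, eq_sum_pt z, Matrix.mulVec_sum, Matrix.mulVec_sum]
    exact Finset.sum_congr rfl fun j _ => by
      rw [hT, ← mulVec_mulVec, ← mulVec_mulVec, tR_apply, TB_apply, TB_apply, tR_apply]
  have hXc : Commute (transl C hee e' v) (tR C hw) := Transvec.gl_ext fun z => by
    rw [Units.val_mul, Units.val_mul, eq_sum_pt z, Matrix.mulVec_sum, Matrix.mulVec_sum]
    exact Finset.sum_congr rfl fun j _ => by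
      rw [← mulVec_mulVec, ← mulVec_mulVec, tR_apply, transl_apply, transl_apply, tR_apply]
  have hyc' : Commute y (tR C hw) := hyc
  have hkey : ∀ z, (y * transl C hee e' v * y⁻¹).val *ᵥ pt w z = T.val *ᵥ pt w z := by
    intro z
    obtain ⟨u, rfl⟩ := LinearMap.surjective_of_injective hinj z
    rw [Units.val_mul, Units.val_mul, ← mulVec_mulVec, ← mulVec_mulVec, ← hyw u, Transvec.inv_mulVec_cancel,
      transl_apply, hyw, hyw u, hT, TB_apply, eA_mulVec hr, eA_mulVec hr]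
    simp only [map_sub, map_add, map_smul, hy₁iso]
  have hk : IsKron (y * transl C hee e' v * y⁻¹ * T⁻¹) := by
    refine kron_of_stab C ha hb hres hee he' hee' hw
      (M.mul_mem (M.mul_mem (M.mul_mem hy (transl_mem C hee v)) (M.inv_mem hy)) (M.inv_mem (hT ▸ TB_mem C _ _)))
      ((((hyc'.mul_left hXc).mul_left hyc'.inv_left).mul_left hTc.inv_left)) fun u => ?_
    have hback : T.val *ᵥ pt w (eA f₂ (y₁ e) (-y₁ v.toAdd.1) *ᵥ u) = pt w u := by
      rw [hT, TB_apply, mulVec_mulVec, eA_mul_neg hr C.two he1 hev1, one_mulVec]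
    conv_lhs => rw [← hback]
    rw [Units.val_mul, ← mulVec_mulVec, Transvec.inv_mulVec_cancel, hkey, hback]
  have := isKron_mul hk (hT ▸ isKron_TB C he1 hev1 : IsKron T)
  rwa [inv_mul_cancel_right] at this

/-- Half turns of different square classes are not conjugate. -/
theorem not_conj_half {w₁ w₂ : Fin a → F} (h₁ : f₁ w₁ w₁ ≠ 0) (h₂ : f₁ w₂ w₂ ≠ 0)
    (hns : ¬ IsSquare (f₁ w₁ w₁ / f₁ w₂ w₂)) {g : GL (Fin a × Fin b) F} (hg : g ∈ M)
    (hconj : g * tR C h₁ * g⁻¹ = tR C h₂) : False := by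
  have hl := C.left
  have hk : IsKron g := kron_of_conj_all C ha hb hres hee he' hee' hg fun v => by
    refine kron_of_commute C ha hb hres hee he' hee' h₂
      (M.mul_mem (M.mul_mem hg (transl_mem C hee v)) (M.inv_mem hg)) ?_
    have hXc : Commute (transl C hee e' v) (tR C h₁) := Transvec.gl_ext fun z => by
      rw [Units.val_mul, Units.val_mul, eq_sum_pt z, Matrix.mulVec_sum, Matrix.mulVec_sum]
      exact Finset.sum_congr rfl fun j _ => by
        rw [← mulVec_mulVec, ← mulVec_mulVec, tR_apply, transl_apply, transl_apply, tR_apply]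
    rw [← hconj]
    exact (Commute.conj_iff g).mpr hXc
  obtain ⟨A, -, hAi, B, hAB⟩ := exists_fac C ha hg hk
  obtain ⟨u₀, hu₀, -⟩ := exists_singular_sym C.right C.two (by have := C.four; omega)
  have hw0 : w₁ ≠ 0 := fun h => h₁ (by rw [h, sym_zero_left hl])
  have hBu : B *ᵥ u₀ ≠ 0 := fun h0 => by
    have h := hAB w₁ u₀
    rw [h0, pt_zero_right] at h
    exact hw0 (pt_eq_zero hu₀ (mulVec_injective g (by simpa using h)))
  have h := congrArg (fun k : GL (Fin a × Fin b) F => k.val *ᵥ pt w₁ u₀) (mul_inv_eq_iff_eq_mul.mp hconj)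
  simp only [Units.val_mul, ← mulVec_mulVec, tR_apply, halfM_self hl h₁, hAB] at h
  have hfix : halfM f₁ w₂ *ᵥ (A.val *ᵥ w₁) = A.val *ᵥ w₁ := (pt_injective hBu h).symm
  rw [halfM_mulVec hl, sub_eq_iff_eq_add, ← two_smul F] at hfix
  have hAw : A.val *ᵥ w₁ = (f₁ (A.val *ᵥ w₁) w₂ / f₁ w₂ w₂) • w₂ := by
    have h' := congrArg ((2 : F)⁻¹ • ·) hfix
    simp only [inv_smul_smul₀ C.two] at h'
    conv_lhs => rw [← h', smul_smul]
    congr 1
    have := C.two
    field_simp
  refine hns ⟨f₁ (A.val *ᵥ w₁) w₂ / f₁ w₂ w₂, ?_⟩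
  rw [← hAi w₁ w₁]
  conv_lhs => rw [hAw, sym_quad_smul hl, mul_div_assoc, div_self h₂, mul_one]

omit he' in
/-- Involutions with fixed spaces of the dimension of the second factor are half turns. -/
theorem eq_tR {z : GL (Fin a × Fin b) F} (hz : z ∈ M) (hzk : IsKron z) (hz2 : z * z = 1)
    (hd : Module.finrank F (fixSp z) = b) : ∃ w, ∃ hw : f₁ w w ≠ 0, z = tR C hw := by
  classical
  have hl := C.left
  have hr := C.right
  obtain ⟨A, B, hAB, hA, hB, hBi⟩ := exists_invol_factors C hz hzk hz2 (Or.inl ⟨1, by omega⟩)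
  obtain ⟨u₀, -, hu₀⟩ := exists_aniso hr C.two (nd_top hr) (by
    rw [finrank_top, Module.finrank_fin_fun]; omega)
  have hAi : ∀ x x', f₁ (A *ᵥ x) (A *ᵥ x') = f₁ x x' := fun x x' => by
    have h := isoM C hz (pt x u₀) (pt x' u₀)
    rw [hAB, hAB, bform_ptpt hl hr, bform_ptpt hl hr, hBi] at h
    exact mul_right_cancel₀ hu₀ h
  obtain ⟨ε, hε, hcase⟩ := invol_shape hl ha C.two hA hAi
  obtain ⟨B', hB'⟩ : ∃ B', B' = ε • B := ⟨_, rfl⟩
  have hAB' : ∀ x u, z.val *ᵥ pt x u = pt ((ε • A) *ᵥ x) (B' *ᵥ u) := fun x u => by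
    rw [hAB, hB', smul_mulVec, smul_mulVec, pt_smul_left, pt_smul_right, smul_smul, hε, one_smul]
  have hB'2 : ∀ u, B' *ᵥ (B' *ᵥ u) = u := fun u => by
    rw [hB', smul_mulVec, smul_mulVec, mulVec_smul, hB, smul_smul, hε, one_smul]
  rcases hcase with h1 | ⟨w, hw, h1⟩
  · exfalso
    obtain ⟨N, hN⟩ : ∃ N, N = LinearMap.ker (Matrix.mulVecLin B' + LinearMap.id) := ⟨_, rfl⟩
    have hact : ∀ x u, z.val *ᵥ pt x u = pt x (-(B' *ᵥ u)) := fun x u => by
      rw [hAB', h1, neg_mulVec, one_mulVec, pt_neg_left, ← neg_one_smul F (B' *ᵥ u), pt_smul_right, neg_one_smul]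
    have he1 : fixSp z = tens a N := by
      refine le_antisymm (fun v hv => mem_tens.mpr fun ψ => ?_) fun v hv => mem_fixSp.mpr ?_
      · have e1 := lin_ext (L := (slA ψ).comp (Matrix.mulVecLin z.val))
          (L' := -((Matrix.mulVecLin B').comp (slA ψ))) fun x u => by
            simp only [LinearMap.comp_apply, Matrix.mulVecLin_apply, hact, slA_pt, LinearMap.neg_apply, mulVec_smul,
              smul_neg]
        have e2 := LinearMap.congr_fun e1 v
        simp only [LinearMap.comp_apply, Matrix.mulVecLin_apply, LinearMap.neg_apply, mem_fixSp.mp hv] at e2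
        rw [hN, LinearMap.mem_ker, LinearMap.add_apply, Matrix.mulVecLin_apply, LinearMap.id_apply]
        exact add_eq_zero_iff_eq_neg'.mpr e2
      · exact (lin_ext_tens (L := Matrix.mulVecLin z.val) (L' := LinearMap.id) (fun x u hu => by
          rw [hN, LinearMap.mem_ker, LinearMap.add_apply, Matrix.mulVecLin_apply, LinearMap.id_apply] at hu
          rw [Matrix.mulVecLin_apply, hact, LinearMap.id_apply, ← eq_neg_of_add_eq_zero_right hu]) hv).trans rfl
    rw [he1, finrank_tens] at hd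
    obtain ⟨n, hn⟩ : ∃ n, n = Module.finrank F N := ⟨_, rfl⟩
    rw [← hn] at hd
    have : a * n = 3 * n := by rw [ha]
    omega
  · refine ⟨w, hw, ?_⟩
    obtain ⟨P, hP⟩ : ∃ P, P = LinearMap.ker (Matrix.mulVecLin B' - LinearMap.id) := ⟨_, rfl⟩
    obtain ⟨N, hN⟩ : ∃ N, N = LinearMap.ker (Matrix.mulVecLin B' + LinearMap.id) := ⟨_, rfl⟩
    have hPm : ∀ u ∈ P, B' *ᵥ u = u := fun u hu => by
      rw [hP, LinearMap.mem_ker] at hu
      simpa [sub_eq_zero] using hu
    have hNm : ∀ u ∈ N, B' *ᵥ u = -u := fun u hu => by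
      rw [hN, LinearMap.mem_ker] at hu
      simpa [add_eq_zero_iff_eq_neg] using hu
    have hact : ∀ x u, z.val *ᵥ pt x u = pt (halfM f₁ w *ᵥ x) (B' *ᵥ u) := fun x u => by rw [hAB', h1]
    obtain ⟨y₁, hy₁W, hq₁⟩ := exists_aniso hl C.two (nd_perpIn hl (nd_top hl) Submodule.mem_top hw) (by
      have := finrank_perpIn hl ⊤ w
      rw [finrank_top, Module.finrank_fin_fun] at this
      omega)
    have h1w : f₁ y₁ w = 0 := ((mem_perpIn hl).mp hy₁W).2
    obtain ⟨y₂, hwy₂, h12, hq₂⟩ := exists_third hl ha C.two (show f₁ w y₁ = 0 by rw [hl.symm, h1w]) hw hq₁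
    have h2w : f₁ y₂ w = 0 := by rw [hl.symm, hwy₂]
    obtain ⟨Ψ, hΨ⟩ : ∃ Ψ : (P × N × N) →ₗ[F] (Fin a × Fin b → F),
        ∀ q, Ψ q = pt w q.1.1 + (pt y₁ q.2.1.1 + pt y₂ q.2.2.1) :=
      ⟨((ptR w).comp P.subtype).coprod (((ptR y₁).comp N.subtype).coprod ((ptR y₂).comp N.subtype)), fun q => rfl⟩
    have hΨi : Function.Injective Ψ := by
      rw [← LinearMap.ker_eq_bot, LinearMap.ker_eq_bot']
      intro q hq
      rw [hΨ] at hq
      have k0 := congrArg (slA (gram f₁ *ᵥ w)) hq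
      have k1 := congrArg (slA (gram f₁ *ᵥ y₁)) hq
      have k2 := congrArg (slA (gram f₁ *ᵥ y₂)) hq
      simp only [map_add, map_zero, slA_pt, ← sym_dot hl, h1w, h2w, hl.symm w y₁, hl.symm w y₂, h12, hl.symm y₂ y₁,
        zero_smul, add_zero, zero_add, smul_eq_zero, hw, hq₁, hq₂, false_or] at k0 k1 k2
      exact Prod.ext (Subtype.ext k0) (Prod.ext (Subtype.ext k1) (Subtype.ext k2))
    have hΨf : LinearMap.range Ψ ≤ fixSp z := by
      rintro _ ⟨q, rfl⟩
      rw [mem_fixSp, hΨ, mulVec_add, mulVec_add, hact, hact, hact, halfM_self hl hw, halfM_perp hl w h1w,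
        halfM_perp hl w h2w, hPm _ q.1.2, hNm _ q.2.1.2, hNm _ q.2.2.2, pt_neg_left, pt_neg_left,
        ← neg_one_smul F q.2.1.1, ← neg_one_smul F q.2.2.1, pt_smul_right, pt_smul_right, neg_one_smul, neg_one_smul,
        neg_neg, neg_neg]
    have hle := Submodule.finrank_mono hΨf
    rw [LinearMap.finrank_range_of_inj hΨi, Module.finrank_prod, Module.finrank_prod, hd] at hle
    have hsplit := finrank_invol_split C.two hB'2
    rw [← hP, ← hN] at hsplit
    have hN0 : N = ⊥ := Submodule.finrank_eq_zero.mp (by omega)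
    have hB1 : ∀ u, B' *ᵥ u = u := fun u => by
      have h : u - B' *ᵥ u ∈ N := by
        rw [hN, LinearMap.mem_ker]
        simp [mulVec_sub, hB'2]
      rw [hN0, Submodule.mem_bot, sub_eq_zero] at h
      exact h.symm
    refine Transvec.gl_ext fun v => ?_
    rw [eq_sum_pt v, Matrix.mulVec_sum, Matrix.mulVec_sum]
    exact Finset.sum_congr rfl fun j _ => by rw [hact, tR_apply, hB1]

omit hee he' hee' in
/-- The main theorem in dimensions three and four. -/
theorem kron_small (hR : ∀ w (hw : f₁ w w ≠ 0), tR C hw ∈ Ω) {g : GL (Fin a × Fin b) F} (hg : g ∈ M) :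
    IsKron g := by
  classical
  have hl := C.left
  have hr := C.right
  have h2 := C.two
  haveI : Finite (Matrix (Fin a × Fin b) (Fin a × Fin b) F) :=
    inferInstanceAs (Finite ((Fin a × Fin b) → (Fin a × Fin b) → F))
  haveI : Finite (GL (Fin a × Fin b) F) := Finite.of_injective _ Units.val_injective
  obtain ⟨e, he, hee⟩ := exists_singular_sym hr h2 (by omega : 3 ≤ b)
  obtain ⟨e', he', hee', -⟩ := exists_partner_sym hr h2 he hee
  have hM : ∀ w (hw : f₁ w w ≠ 0), tR C hw ∈ M := fun w hw => C.le _ (isKron_krL _) (hR w hw)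
  have hd3 : 2 ≤ Module.finrank F (⊤ : Submodule F (Fin a → F)) := by
    rw [finrank_top, Module.finrank_fin_fun]; omega
  obtain ⟨ν, hν⟩ := FiniteField.exists_nonsquare (F := F) (fun h => h2 (by
    exact_mod_cast (ringChar.spec F 2).mpr (dvd_of_eq h)))
  have hν0 : ν ≠ 0 := fun h => hν (h ▸ ⟨0, by simp⟩)
  obtain ⟨w₁, -, hw₁⟩ := exists_value hl h2 (nd_top hl) hd3 ν
  obtain ⟨w₂, -, hw₂⟩ := exists_value hl h2 (nd_top hl) hd3 1
  have hw₁0 : f₁ w₁ w₁ ≠ 0 := hw₁ ▸ hν0
  have hw₂0 : f₁ w₂ w₂ ≠ 0 := hw₂ ▸ one_ne_zero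
  have hns : ¬ IsSquare (f₁ w₁ w₁ / f₁ w₂ w₂) := by rwa [hw₁, hw₂, div_one]
  obtain ⟨t, ht⟩ : ∃ t : M, t = ⟨tR C hw₁0, hM _ _⟩ := ⟨_, rfl⟩
  obtain ⟨T, hT⟩ : ∃ T : M, T = ⟨g, hg⟩ * ⟨tR C hw₂0, hM _ _⟩ * ⟨g, hg⟩⁻¹ := ⟨_, rfl⟩
  have ho : ∀ {w : Fin a → F} (hw : f₁ w w ≠ 0), orderOf (⟨tR C hw, hM _ _⟩ : M) = 2 := fun hw =>
    orderOf_eq_prime (Subtype.ext (by rw [pow_two]; exact tR_sq C hw)) fun h => tR_ne_one C hw (congrArg Subtype.val h)
  have hot : orderOf t = 2 := ht ▸ ho hw₁0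
  have hoT : orderOf T = 2 := by
    rw [hT, ← ho hw₂0]
    exact orderOf_injective (MulAut.conj (⟨g, hg⟩ : M)).toMonoidHom (MulAut.conj _).injective _
  have hnc : ¬ IsConj t T := fun h => by
    obtain ⟨d, hd⟩ := isConj_iff.mp h
    have hd' := congrArg Subtype.val hd
    rw [ht, hT] at hd'
    simp only [Subgroup.coe_mul, Subgroup.coe_inv] at hd'
    refine not_conj_half C ha hb hres hee he' hee' hw₁0 hw₂0 hns (M.mul_mem (M.inv_mem hg) d.2) ?_
    calc g⁻¹ * d.1 * tR C hw₁0 * (g⁻¹ * d.1)⁻¹ = g⁻¹ * (d.1 * tR C hw₁0 * d.1⁻¹) * g := by group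
      _ = tR C hw₂0 := by rw [hd']; group
  have heven := CfsgLib.Invol.even_of_not_isConj hot hoT hnc
  obtain ⟨c, hc⟩ : ∃ c, c = (t * T) ^ (orderOf (t * T) / 2) := ⟨_, rfl⟩
  have hoc : orderOf c = 2 := hc ▸ CfsgLib.Invol.orderOf_half heven
  have hct : Commute c t := hc ▸ CfsgLib.Invol.commute_half_left hot hoT heven
  have hcT : Commute c T := hc ▸ CfsgLib.Invol.commute_half_right hot hoT heven
  have hc2 : c.1 * c.1 = 1 := by
    have := pow_orderOf_eq_one c
    rw [hoc, pow_two] at this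
    exact congrArg Subtype.val this
  have hfixT : Module.finrank F (fixSp T.1) = b := by
    rw [hT, Subgroup.coe_mul, Subgroup.coe_mul, Subgroup.coe_inv, finrank_fixSp_conj, finrank_fix_tR]
  -- the product with the central involution
  have hfd : Module.finrank F (fixSp (t.1 * c.1)) = b := by
    rw [← Subgroup.coe_mul, hc]
    by_cases h4 : 4 ∣ orderOf (t * T)
    · obtain ⟨d, -, hd⟩ := CfsgLib.Invol.conj_half_of_four_dvd hot hoT h4
      rw [← hd, Subgroup.coe_mul, Subgroup.coe_mul, Subgroup.coe_inv, finrank_fixSp_conj, ht, finrank_fix_tR]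
    · obtain ⟨d, -, hd⟩ := CfsgLib.Invol.conj_half_of_not_four_dvd hot hoT heven h4
      rw [← hd, Subgroup.coe_mul, Subgroup.coe_mul, Subgroup.coe_inv, finrank_fixSp_conj, hfixT]
  have hct' : c.1 * tR C hw₁0 = tR C hw₁0 * c.1 := by
    have := congrArg Subtype.val hct.eq
    rw [ht] at this
    exact this
  have hck : IsKron c.1 := kron_of_commute C ha hb hres hee he' hee' hw₁0 c.2 hct'
  have hs2 : t.1 * c.1 * (t.1 * c.1) = 1 := by
    rw [ht]
    rw [← mul_assoc, mul_assoc (tR C hw₁0) c.1, hct', ← mul_assoc, tR_sq, one_mul, hc2]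
  obtain ⟨w', hw', hs⟩ := eq_tR C ha hb hres hee hee' (M.mul_mem t.2 c.2)
    (isKron_mul (ht ▸ isKron_krL _) hck) hs2 hfd
  obtain ⟨S, hS⟩ : ∃ S, S = halfG hl hw₁0 * halfG hl hw' := ⟨_, rfl⟩
  have hcS : c.1 = krL a b S := by
    rw [hS, map_mul]
    change c.1 = tR C hw₁0 * tR C hw'
    rw [← hs, ht, ← mul_assoc, tR_sq, one_mul]
  obtain ⟨u₀, hu₀⟩ : ∃ u₀ : Fin b → F, u₀ ≠ 0 := ⟨e, he⟩
  have hS2 : S * S = 1 := krL_injective hu₀ (by rw [map_mul, ← hcS, hc2, map_one])
  have hSi : S ∈ isoSub f₁ := hS ▸ mul_mem (fun x y => halfM_iso hl hw₁0 x y) (fun x y => halfM_iso hl hw' x y)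
  obtain ⟨ε, hε, hcase⟩ := invol_shape hl ha h2 (A := S.val)
    (fun x => by rw [mulVec_mulVec, ← Units.val_mul, hS2, Units.val_one, one_mulVec]) hSi
  rcases hcase with h1 | ⟨w'', hw'', h1⟩
  · exfalso
    have hSv : ∀ x, S.val *ᵥ x = -ε • x := fun x => by
      have h := congrArg (fun G : Matrix (Fin a) (Fin a) F => G *ᵥ x) h1
      simp only [smul_mulVec, neg_mulVec, one_mulVec] at h
      calc S.val *ᵥ x = (ε * ε) • (S.val *ᵥ x) := by rw [hε, one_smul]
        _ = -ε • x := by rw [← smul_smul, h, smul_neg, neg_smul]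
    obtain ⟨y, hy, hy0⟩ := Submodule.exists_mem_ne_zero_of_ne_bot
      (show perpIn f₁ (perpIn f₁ ⊤ w₁) w' ≠ ⊥ from fun h => by
        have k1 := finrank_perpIn hl ⊤ w₁
        have k2 := finrank_perpIn hl (perpIn f₁ ⊤ w₁) w'
        rw [h, finrank_bot] at k2
        rw [finrank_top, Module.finrank_fin_fun] at k1
        omega)
    obtain ⟨hy', hyw'⟩ := (mem_perpIn hl).mp hy
    have hyw₁ : f₁ y w₁ = 0 := ((mem_perpIn hl).mp hy').2
    have hSy : S.val *ᵥ y = y := by
      rw [hS, Units.val_mul, ← mulVec_mulVec]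
      change halfM f₁ w₁ *ᵥ (halfM f₁ w' *ᵥ y) = y
      rw [halfM_perp hl w' hyw', mulVec_neg, halfM_perp hl w₁ hyw₁, neg_neg]
    rw [hSv] at hSy
    have hε1 : -ε = 1 := smul_left_injective F hy0 (by simpa using hSy)
    have hS1 : S = 1 := Transvec.gl_ext fun x => by rw [hSv, hε1, one_smul, Units.val_one, one_mulVec]
    rw [hS1, map_one] at hcS
    rw [Subtype.ext (a2 := (1 : M)) hcS, orderOf_one] at hoc
    omega
  -- the conjugate half turn commutes with a half turn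
  have hε0 : ε ≠ 0 := fun h => by rw [h, zero_mul] at hε; exact zero_ne_one hε
  have hcv : ∀ v, (tR C hw'').val *ᵥ v = ε • (c.1.val *ᵥ v) := fun v => by
    refine LinearMap.congr_fun (lin_ext (L := Matrix.mulVecLin (tR C hw'').val)
      (L' := ε • Matrix.mulVecLin c.1.val) fun x u => ?_) v
    rw [Matrix.mulVecLin_apply, LinearMap.smul_apply, Matrix.mulVecLin_apply, tR_apply, hcS, krL_apply,
      ← pt_smul_left, ← h1, smul_mulVec]
  have hTc : T.1 * tR C hw'' = tR C hw'' * T.1 := Transvec.gl_ext fun v => by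
    rw [Units.val_mul, Units.val_mul, ← mulVec_mulVec, ← mulVec_mulVec, hcv, hcv, mulVec_smul]
    have h := congrArg (fun k : M => k.1.val *ᵥ v) hcT.eq
    simp only [Subgroup.coe_mul, Units.val_mul, ← mulVec_mulVec] at h
    rw [h]
  have hTk : IsKron T.1 := kron_of_commute C ha hb hres hee he' hee' hw'' T.2 hTc
  have hT2 : T.1 * T.1 = 1 := by
    have := pow_orderOf_eq_one T
    rw [hoT, pow_two] at this
    exact congrArg Subtype.val this
  obtain ⟨w₃, hw₃, hT3⟩ := eq_tR C ha hb hres hee hee' T.2 hTk hT2 hfixT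
  refine kron_of_conj_all C ha hb hres hee he' hee' hg fun v => ?_
  refine kron_of_commute C ha hb hres hee he' hee' hw₃
    (M.mul_mem (M.mul_mem hg (transl_mem C hee v)) (M.inv_mem hg)) ?_
  have hXc : Commute (transl C hee e' v) (tR C hw₂0) := Transvec.gl_ext fun z => by
    rw [Units.val_mul, Units.val_mul, eq_sum_pt z, Matrix.mulVec_sum, Matrix.mulVec_sum]
    exact Finset.sum_congr rfl fun j _ => by
      rw [← mulVec_mulVec, ← mulVec_mulVec, tR_apply, transl_apply, transl_apply, tR_apply]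
  rw [← hT3, hT]
  exact (Commute.conj_iff g).mpr hXc

end CfsgLib.Classical22.TensorMax.OO
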