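/-
The half turns of the three-dimensional factor lie in the kernel of the spinor norm.
-/
import Cfsg.Agent.Lib.Classical22.OrthOrthTensor.Small
import Cfsg.Agent.Lib.Classical22.OrthDecompTwoRel
import Cfsg.Agent.Lib.Classical22.OrthMaxMatrix
import Cfsg.Agent.Lib.Classical.SymBilin

set_option autoImplicit false
set_option maxHeartbeats 800000

namespace CfsgLib.Classical22.TensorMax.OO

open Matrix Kronecker CfsgLib.Classical CfsgLib.Transvec CfsgLib.Classical22.TensorMax.SympO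
  CfsgLib.Classical22.TensorMax.SpO
open scoped MatrixGroups

section Refl
variable {F V : Type*} [Field F] [AddCommGroup V] [Module F V] {Q : QuadraticForm F V}

lemma qRefl_commute_perp {v w : V} (hv : Q v ≠ 0) (hw : Q w ≠ 0) (h : QuadraticMap.polar Q v w = 0) :
    Commute (qRefl Q hv) (qRefl Q hw) := qAut_ext fun x => by
  rw [qAut_mul_apply, qAut_mul_apply, qRefl_apply, qRefl_apply, qRefl_apply, qRefl_apply]
  simp only [QuadraticMap.polar_sub_left, QuadraticMap.polar_smul_left, h, QuadraticMap.polar_comm Q w v, smul_eq_mul,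
    mul_zero, sub_zero]
  module

variable [FiniteDimensional F V] [Fintype F]

/-- Two pairs of reflections at orthogonal vectors with the same ratio of values. -/
lemma four_refl_mem (hQ : PolarNondeg Q) (hn : 5 ≤ Module.finrank F V) (h2 : (2 : F) ≠ 0) {v v' w w' : V}
    (hv : Q v ≠ 0) (hv' : Q v' ≠ 0) (hw : Q w ≠ 0) (hw' : Q w' ≠ 0) {r s : F} (hr : Q v = r * Q v')
    (hs : Q w = s * Q v) (hs' : Q w' = s * Q v') (h1 : QuadraticMap.polar Q v' w = 0)
    (h2' : QuadraticMap.polar Q v' w' = 0) (h3 : QuadraticMap.polar Q w w' = 0) :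
    qRefl Q hv * qRefl Q hv' * (qRefl Q hw * qRefl Q hw') ∈ eichGroup Q := by
  have hr0 : r ≠ 0 := fun h => hv (by rw [hr, h, zero_mul])
  have hs0 : s ≠ 0 := fun h => hw (by rw [hs, h, zero_mul])
  by_cases hrs : IsSquare r
  · refine mul_mem (OrthDecomp.qRefl_sq_mem hQ hn hv' hv ?_) (OrthDecomp.qRefl_sq_mem hQ hn hw' hw ?_)
    · rw [show Q v' / Q v = r⁻¹ by rw [hr]; field_simp]
      exact hrs.inv
    · rw [show Q w' / Q w = r⁻¹ by rw [hs, hs', hr]; field_simp]
      exact hrs.inv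
  by_cases hss : IsSquare s
  · rw [mul_assoc (qRefl Q hv), ← mul_assoc (qRefl Q hv'), (qRefl_commute_perp hv' hw h1).eq,
      mul_assoc (qRefl Q hw), ← mul_assoc (qRefl Q hv)]
    refine mul_mem (OrthDecomp.qRefl_sq_mem hQ hn hw hv ?_) (OrthDecomp.qRefl_sq_mem hQ hn hw' hv' ?_)
    · rwa [hs, mul_div_cancel_right₀ _ hv]
    · rwa [hs', mul_div_cancel_right₀ _ hv']
  · rw [(qRefl_commute_perp hw hw' h3).eq, mul_assoc (qRefl Q hv), ← mul_assoc (qRefl Q hv'),
      (qRefl_commute_perp hv' hw' h2').eq, mul_assoc (qRefl Q hw'), ← mul_assoc (qRefl Q hv)]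
    refine mul_mem (OrthDecomp.qRefl_sq_mem hQ hn hw' hv ?_) (OrthDecomp.qRefl_sq_mem hQ hn hw hv' ?_)
    · rw [show Q w' / Q v = s * r⁻¹ by rw [hs', hr]; field_simp]
      exact isSquare_mul_of_not_isSquare h2 hss fun h => hrs (inv_inv r ▸ h.inv)
    · rw [show Q w / Q v' = s * r by rw [hs, hr]; field_simp]
      exact isSquare_mul_of_not_isSquare h2 hss hrs

end Refl

variable {F : Type*} [Field F] [Fintype F] {a b : ℕ} {f₁ : (Fin a → F) → (Fin a → F) → F}
  {f₂ : (Fin b → F) → (Fin b → F) → F}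

/-- The half turns lie in the group. -/
theorem halfTurn_mem (Q : QuadraticForm F (Fin a × Fin b → F)) (hl : Cfsg.Geo.IsSymmetricForm f₁)
    (hr : Cfsg.Geo.IsSymmetricForm f₂) (hpol : ∀ v w, QuadraticMap.polar Q v w = bform f₁ f₂ v w)
    (h2 : (2 : F) ≠ 0) (hQn : PolarNondeg Q) (ha : a = 3) (hb : b = 4) {w : Fin a → F} (hw : f₁ w w ≠ 0) :
    krL a b (halfG hl hw) ∈ (eichGroup Q).map (qHom Q) := by
  classical
  subst hb
  have hn : 5 ≤ Module.finrank F (Fin a × Fin 4 → F) := by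
    rw [Module.finrank_pi, Fintype.card_prod, Fintype.card_fin, Fintype.card_fin]; omega
  have hQv : ∀ (x : Fin a → F) (u : Fin 4 → F), 2 * Q (pt x u) = f₁ x x * f₂ u u := fun x u => by
    rw [← bform_ptpt hl hr, ← hpol, quad_polar_self]
  -- the frames
  obtain ⟨y₁, hy₁, hq₁⟩ := exists_aniso hl h2 (nd_perpIn hl (nd_top hl) Submodule.mem_top hw) (by
    have := finrank_perpIn hl ⊤ w
    rw [finrank_top, Module.finrank_fin_fun] at this
    omega)
  have h1w : f₁ y₁ w = 0 := ((mem_perpIn hl).mp hy₁).2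
  have hw1 : f₁ w y₁ = 0 := by rw [hl.symm, h1w]
  obtain ⟨y₂, hw2, h12, hq₂⟩ := exists_third hl ha h2 hw1 hw hq₁
  obtain ⟨e, he, hee⟩ := exists_singular_sym hr h2 (by omega : 3 ≤ 4)
  obtain ⟨e', he', hee', he'e⟩ := exists_partner_sym hr h2 he hee
  obtain ⟨z₁, z₂, h1e, h1e', h2e, h2e', hz12, hz₁, hz₂, -⟩ := exists_frame_four hr h2 rfl hee he' hee'
  obtain ⟨U, hU⟩ : ∃ U : Fin 4 → (Fin 4 → F), U = ![e + e', e - e', z₁, z₂] := ⟨_, rfl⟩
  have hUo : ∀ i j, i ≠ j → f₂ (U i) (U j) = 0 := by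
    intro i j hij
    rw [hU]
    fin_cases i <;> fin_cases j <;>
      first
        | exact absurd rfl hij
        | simp [hr.bilinear.add_left, hr.bilinear.add_right, sym_sub_left hr, sym_sub_right hr, hee, he', hee', he'e,
            h1e, h1e', h2e, h2e', hr.symm e z₁, hr.symm e' z₁, hr.symm e z₂, hr.symm e' z₂, hz12, hr.symm z₂ z₁]
  have hUa : ∀ i, f₂ (U i) (U i) ≠ 0 := by
    intro i
    rw [hU]
    fin_cases i <;>
      first
        | exact hz₁
        | exact hz₂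
        | (simp [hr.bilinear.add_left, hr.bilinear.add_right, sym_sub_left hr, sym_sub_right hr, hee, he', hee', he'e,
            one_add_one_eq_two, h2]; done)
        | (simp [sym_sub_left hr, sym_sub_right hr, hee, he', hee', he'e]; exact fun h => h2 (by linear_combination -h))
  have hv1 : ∀ j, Q (pt y₁ (U j)) ≠ 0 := fun j h => by
    have := hQv y₁ (U j)
    rw [h, mul_zero] at this
    exact mul_ne_zero hq₁ (hUa j) this.symm
  have hv2 : ∀ j, Q (pt y₂ (U j)) ≠ 0 := fun j h => by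
    have := hQv y₂ (U j)
    rw [h, mul_zero] at this
    exact mul_ne_zero hq₂ (hUa j) this.symm
  obtain ⟨P, hP⟩ : ∃ P : Fin 4 → qAut Q, ∀ j, P j = qRefl Q (hv1 j) * qRefl Q (hv2 j) := ⟨_, fun j => rfl⟩
  obtain ⟨π, hπ⟩ : ∃ π : (Fin a → F) → (Fin a → F), ∀ x,
      π x = (2 * f₁ x y₁ / f₁ y₁ y₁) • y₁ + (2 * f₁ x y₂ / f₁ y₂ y₂) • y₂ := ⟨_, fun x => rfl⟩
  have hPa : ∀ j x u, (P j).1 (pt x u) = pt x u - (f₂ u (U j) / f₂ (U j) (U j)) • pt (π x) (U j) := by
    intro j x u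
    have c1 : ∀ y : Fin a → F, f₁ y y ≠ 0 → (Q (pt y (U j)))⁻¹ = 2 / (f₁ y y * f₂ (U j) (U j)) := fun y hy => by
      rw [← hQv y (U j), ← div_div, div_self h2, one_div]
    rw [hP, qAut_mul_apply, qRefl_apply, qRefl_apply, hπ, pt_add_left, pt_smul_left, pt_smul_left, c1 y₁ hq₁,
      c1 y₂ hq₂]
    simp only [QuadraticMap.polar_sub_left, QuadraticMap.polar_smul_left, hpol, bform_sub_left hl, bform_smul_left hl,
      bform_ptpt hl hr, hl.symm y₂ y₁,
      h12, zero_mul, smul_eq_mul, mul_zero, sub_zero]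
    match_scalars <;> field_simp
  have hPo : ∀ i j, i ≠ j → ∀ z, (P i).1 (pt z (U j)) = pt z (U j) := fun i j hij z => by
    rw [hPa, hUo j i hij.symm, zero_div, zero_smul, sub_zero]
  have hmem : ∀ i j, i ≠ j → P i * P j ∈ eichGroup Q := by
    intro i j hij
    rw [hP, hP]
    refine four_refl_mem hQn hn h2 (hv1 i) (hv2 i) (hv1 j) (hv2 j) (r := f₁ y₁ y₁ / f₁ y₂ y₂)
      (s := f₂ (U j) (U j) / f₂ (U i) (U i)) ?_ ?_ ?_ ?_ ?_ ?_
    all_goals try simp only [hpol, bform_ptpt hl hr, hl.symm y₂ y₁, h12, hUo i j hij, zero_mul, mul_zero]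
    all_goals have e1 := hQv y₁ (U i); have e2 := hQv y₂ (U i); have e3 := hQv y₁ (U j); have e4 := hQv y₂ (U j)
    all_goals have hUi := hUa i
    all_goals refine mul_left_cancel₀ h2 ?_
    · rw [mul_left_comm, e1, e2]; field_simp
    · rw [mul_left_comm, e3, e1]; field_simp
    · rw [mul_left_comm, e4, e2]; field_simp
  refine ⟨P 0 * P 1 * (P 2 * P 3), mul_mem (hmem 0 1 (by decide)) (hmem 2 3 (by decide)), ?_⟩
  refine Transvec.gl_ext fun v => ?_
  rw [qHom_mulVec, eq_sum_pt v, map_sum, Matrix.mulVec_sum]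
  refine Finset.sum_congr rfl fun i _ => ?_
  obtain ⟨x, hx⟩ : ∃ x : Fin a → F, x = fun k => v (k, i) := ⟨_, rfl⟩
  obtain ⟨u, hu⟩ : ∃ u : Fin 4 → F, u = Pi.single i 1 := ⟨_, rfl⟩
  rw [← hx, ← hu, krL_apply]
  change _ = pt (halfM f₁ w *ᵥ x) u
  have k01 := hPo 0 1 (by decide)
  have k02 := hPo 0 2 (by decide)
  have k03 := hPo 0 3 (by decide)
  have k12 := hPo 1 2 (by decide)
  have k13 := hPo 1 3 (by decide)
  have k23 := hPo 2 3 (by decide)
  rw [qAut_mul_apply, qAut_mul_apply, qAut_mul_apply, hPa 3]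
  simp only [map_sub, map_smul, k23, k13, k03]
  rw [hPa 2 x u]
  simp only [map_sub, map_smul, k12, k02]
  rw [hPa 1 x u]
  simp only [map_sub, map_smul, k01]
  rw [hPa 0 x u]
  have hu4 := eq_sum_of_orth hr U hUo hUa u
  rw [Fin.sum_univ_four] at hu4
  have hx3 := frame_three hl ha hw1 hw2 h12 hw hq₁ hq₂ x
  have hsplit : x - π x = halfM f₁ w *ᵥ x := by
    rw [hπ, halfM_mulVec hl]
    conv_lhs => arg 1; rw [hx3]
    conv_rhs => arg 2; rw [hx3]
    match_scalars <;> ring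
  rw [← hsplit, pt_sub_left]
  conv_rhs => arg 2; rw [hu4]
  simp only [pt_add_right, pt_smul_right]
  abel

end CfsgLib.Classical22.TensorMax.OO
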