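/-
Maximality of the stabiliser of an orthogonal times orthogonal tensor decomposition, in given coordinates.
-/
import Cfsg.Agent.Lib.Classical22.OrthOrthTensor.SmallHalf
import Cfsg.Agent.Lib.Classical22.SympTensorStatement
import Cfsg.Agent.Lib.Classical22.TensorMaxTransport
import Cfsg.Agent.Lib.Classical22.Asch.Members
import Cfsg.Agent.Lib.Known.OrthLift.Intrinsic

set_option autoImplicit false
set_option maxHeartbeats 800000

namespace CfsgLib.Classical22.TensorMax.OO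

open Matrix Kronecker Cfsg CfsgLib.Classical CfsgLib.Transvec CfsgLib.Classical22.TensorMax.SympO
  CfsgLib.Classical22.TensorMax.SpO
open scoped MatrixGroups

variable {F : Type*} [Field F] [Fintype F] {a b : ℕ}

lemma two_ne_zero_of_oddCard (hodd : Odd (Fintype.card F)) : (2 : F) ≠ 0 := fun h => by
  have hc : ringChar F = 2 :=
    (Nat.prime_two.eq_one_or_self_of_dvd _ ((ringChar.spec F 2).mp (by exact_mod_cast h))).resolve_left
      CharP.ringChar_ne_one
  exact (Nat.not_even_iff_odd.mpr hodd) (Nat.even_iff.mpr (FiniteField.even_card_of_char_two hc))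

variable {f₁ : (Fin a → F) → (Fin a → F) → F} {f₂ : (Fin b → F) → (Fin b → F) → F}

/-- The tensor stabiliser is maximal, in tensor coordinates. -/
theorem kron_maximal_oo (Q : QuadraticForm F (Fin a × Fin b → F)) (hl : Cfsg.Geo.IsSymmetricForm f₁)
    (hr : Cfsg.Geo.IsSymmetricForm f₂) (hpol : ∀ v w, QuadraticMap.polar Q v w = bform f₁ f₂ v w)
    (h2 : (2 : F) ≠ 0) (ha : 3 ≤ a) (hab : a < b)
    (hres : 5 ≤ b ∨ a = 3 ∧ b = 4 ∧ ∀ x y, x ≠ 0 → f₂ x x = 0 → f₂ y y = 0 → f₂ x y = 0 →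
      y ∈ Submodule.span F {x}) (hsmall : a = 3 → 3 < Fintype.card F)
    (hshape : a = 3 ∨ 5 ≤ a ∨
      ∀ x y, x ≠ 0 → f₁ x x = 0 → f₁ y y = 0 → f₁ x y = 0 → y ∈ Submodule.span F {x})
    (hpar : Odd a ∨ Odd b) :
    Cfsg.Geo.IsMaximalIn (Cfsg.Geo.omegaGL ⇑Q) (Cfsg.Geo.kroneckerSubgroup a b F ⊓ Cfsg.Geo.omegaGL ⇑Q) := by
  classical
  have hQq : ∀ v, 2 * Q v = bform f₁ f₂ v v := fun v => by rw [← hpol, quad_polar_self]
  have hQ0 : ∀ v, bform f₁ f₂ v v = 0 → Q v = 0 := fun v hv =>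
    (mul_eq_zero.mp ((hQq v).trans hv)).resolve_left h2
  have hQhalf : ∀ v, Q v = bform f₁ f₂ v v / 2 := fun v => by rw [← hQq]; field_simp
  have hQn : PolarNondeg Q := fun v hv => bform_ndo hl hr fun w => by rw [← hpol, hv]
  have hb4 : 4 ≤ b := by omega
  have hcard : 12 ≤ Fintype.card (Fin a × Fin b) := by
    rw [Fintype.card_prod, Fintype.card_fin, Fintype.card_fin]; nlinarith
  have hrank : Module.finrank F (Fin a × Fin b → F) = Fintype.card (Fin a × Fin b) := Module.finrank_pi F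
  refine isMaximalIn_omegaGL Q hQn (by omega) rfl (fun hle => ?_) fun M hHM hME hMS => ?_
  · -- some Eichler transformation is not a tensor product
    obtain ⟨x, hx, hxx⟩ := exists_singular_sym hl h2 ha
    obtain ⟨x', hx', hxx', -⟩ := exists_partner_sym hl h2 hx hxx
    obtain ⟨y, hyx, hyx', hy⟩ := exists_aniso_pairW hl h2 ha hxx hx' hxx'
    obtain ⟨e, he, hee⟩ := exists_singular_sym hr h2 (by omega : 3 ≤ b)
    obtain ⟨e', he', hee', he'e⟩ := exists_partner_sym hr h2 he hee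
    have hu : Q (pt x e) = 0 := hQ0 _ (by rw [bform_ptpt hl hr, hee, mul_zero])
    have huw : QuadraticMap.polar Q (pt x e) (pt y e) = 0 := by rw [hpol, bform_ptpt hl hr, hee, mul_zero]
    obtain ⟨A, B, hAB⟩ := isKron_apply (show IsKron (qHom Q (eich Q (pt x e) (pt y e))) from hle (eich_mem Q hu huw))
    have hact : ∀ z u, (qHom Q (eich Q (pt x e) (pt y e))).val *ᵥ pt z u =
        pt z u + f₂ u e • (pt (f₁ z x • y - f₁ z y • x) e) := fun z u => by
      rw [qHom_mulVec, eich_apply Q hu huw, hpol, hpol, hQhalf (pt y e), bform_ptpt hl hr, bform_ptpt hl hr,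
        bform_ptpt hl hr, hee, pt_sub_left, pt_smul_left, pt_smul_left]
      simp only [mul_zero, zero_div, zero_mul, add_zero]
      module
    -- the first factor is scalar
    obtain ⟨l, hl'⟩ : ∃ l : F, ∀ z, A.val *ᵥ z = l • z := by
      refine ⟨(f₂ (B.val *ᵥ e) e')⁻¹, fun z => ?_⟩
      have h := congrArg (s2 f₂ e') (hAB z e)
      rw [hact, hee, zero_smul, add_zero, s2q hr, s2q hr, hee', one_smul] at h
      have hne : f₂ (B.val *ᵥ e) e' ≠ 0 := fun h0 => by
        have h' := congrArg (s2 f₂ e') (hAB x e)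
        rw [hact, hee, zero_smul, add_zero, s2q hr, s2q hr, hee', one_smul, h0, zero_smul] at h'
        exact hx h'
      conv_rhs => rw [h, inv_smul_smul₀ hne]
    obtain ⟨k, hk⟩ : ∃ k : F, y = k • x' := by
      refine ⟨l * f₂ (B.val *ᵥ e') e' - f₂ e' e', ?_⟩
      have h := congrArg (s2 f₂ e') (hAB x' e')
      rw [hact, hl', map_add, map_smul, s2q hr, s2q hr, s2q hr, he'e, one_smul, hee', one_smul, hl.symm x' x, hxx',
        hl.symm x' y, hyx', one_smul, zero_smul, sub_zero, smul_smul] at h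
      linear_combination (norm := module) h
    rw [hk, hl.bilinear.smul_left, hl.symm x' x, hxx', mul_one] at hyx
    exact hy (by rw [hk, hyx, zero_smul, sym_zero_left hl])
  -- the setting
  obtain ⟨pc, hpF⟩ := CharP.exists F
  haveI : Fact pc.Prime := ⟨CharP.char_is_prime F pc⟩
  have hpodd : Odd pc := (Fact.out : pc.Prime).odd_of_ne_two (by
    rintro rfl
    exact h2 (by simpa using CharP.cast_eq_zero F 2))
  have hqodd : Fintype.card F ≠ 2 := fun hc => by
    have h0 : ((Fintype.card F : ℕ) : F) = 0 := Nat.cast_card_eq_zero F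
    rw [hc] at h0
    exact h2 (by exact_mod_cast h0)
  by_contra hnle
  have C : Ctx f₁ f₂ ((eichGroup Q).map (qHom Q)) (M.map (qHom Q)) := by
    refine ⟨hl, hr, h2, ha, hab.le, (by omega), hres.imp_right And.right, hsmall, hshape, hpar.imp_right Or.inl, ?_, ?_, ?_, Subgroup.map_mono hME, ?_⟩
    · rintro _ ⟨h, -, rfl⟩ v w
      rw [← hpol, ← hpol, qHom_mulVec, qHom_mulVec, qAut_polar]
    · intro g hgiso hnil
      haveI : Nonempty (Fin a × Fin b) := Fintype.card_pos_iff.mp (by omega)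
      have hmem : g ∈ isometryGroup F ⇑Q := fun v v' => by
        change Q (g.val *ᵥ v) = Q v
        rw [hQhalf, hQhalf, hgiso]
      obtain ⟨h, hh⟩ : ∃ h : qAut Q, qHom Q h = g := ⟨isoEquiv Q ⟨g, hmem⟩, by simp [qHom]⟩
      obtain ⟨n, hn⟩ := hnil
      have hpow : g ^ pc ^ n = 1 := Units.ext (by
        obtain ⟨d, hd⟩ := Nat.exists_eq_add_of_le (Nat.lt_pow_self (n := n) (Fact.out : pc.Prime).one_lt).le
        have h1 : (g.val - 1) ^ pc ^ n = 0 := by rw [hd, pow_add, hn, zero_mul]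
        rwa [sub_pow_char_pow_of_commute _ _ (Commute.one_right _), one_pow, sub_eq_zero,
          ← Units.val_pow_eq_pow_val] at h1)
      obtain ⟨i, hi⟩ := hpodd.pow (n := n)
      refine ⟨h, ?_, hh⟩
      have he : h = h ^ (i + 1) * h ^ (i + 1) := qHom_injective Q (by
        rw [map_mul, map_pow, hh, ← pow_add, show i + 1 + (i + 1) = (2 * i + 1) + 1 by ring, pow_succ, ← hi, hpow,
          one_mul])
      rw [he]
      exact Known.OrthLift.sq_mem_eichGroup hQn (by omega) (Or.inl hqodd) _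
    · rintro g hg ⟨h, hh, rfl⟩
      exact ⟨h, hHM ⟨hg, hh⟩, rfl⟩
    · rintro ⟨z, z', hz, hz', hzz', hfz, hfz'⟩
      have hfull : ∀ z, bform f₁ f₂ z z = 0 →
          (∀ w, bform f₁ f₂ z w = 0 → ∃ g ∈ M.map (qHom Q), IsEich f₁ f₂ g z w) → CfsgLib.Classical22.EFull Q M z := by
        intro z hz hf w hw
        obtain ⟨_, ⟨h, hh, rfl⟩, hgv⟩ := hf w (by rw [← hpol, hw])
        have he : eich Q z w = h := qAut_ext fun v => by
          rw [eich_apply Q (hQ0 z hz) hw, ← qHom_mulVec Q h, hgv, hpol, hpol, hQhalf w]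
          module
        exact he ▸ hh
      exact hnle (eichGroup_le_of_full Q hQn (by omega) (hQ0 z hz) (hQ0 z' hz') (by rwa [hpol])
        (hfull z hz hfz) (hfull z' hz' hfz'))
  rcases hres with hb | ⟨ha3, hb4', hres⟩
  · exact hMS fun h hh => (kron_main C hb ⟨h, hh, rfl⟩).resolve_right (not_swaps_of_lt (by omega) hab)
  · exact hMS fun h hh => kron_small C ha3 hb4' hres
      (fun w hw => halfTurn_mem Q hl hr hpol h2 hQn ha3 hb4' hw) ⟨h, hh, rfl⟩

/-- The statement in given coordinates, the elliptic four-dimensional second factor allowed. -/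
theorem isMaximalIn_orthTensor_gen {ι : Type} [Fintype ι] [DecidableEq ι] (q : QuadraticForm F (ι → F))
    (hodd : Odd (Fintype.card F)) (e : ι ≃ Fin a × Fin b) (P : GL ι F) {g₁ : (Fin a → F) → (Fin a → F) → F}
    {g₂ : (Fin b → F) → (Fin b → F) → F} (h₁ : Cfsg.Geo.IsSymmetricForm g₁) (h₂ : Cfsg.Geo.IsSymmetricForm g₂)
    (hT : Cfsg.Geo.IsTensorFormStructure id (QuadraticMap.polar ⇑q) g₁ g₂ e P)
    (ha : 3 ≤ a) (hab : a < b)
    (hres : 5 ≤ b ∨ a = 3 ∧ b = 4 ∧ ∀ x y, x ≠ 0 → g₂ x x = 0 → g₂ y y = 0 → g₂ x y = 0 →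
      y ∈ Submodule.span F {x}) (hsmall : a = 3 → 3 < Fintype.card F)
    (hshape : a = 3 ∨ 5 ≤ a ∨
      ∀ x y, x ≠ 0 → g₁ x x = 0 → g₁ y y = 0 → g₁ x y = 0 → y ∈ Submodule.span F {x})
    (hpar : Odd a ∨ Odd b) :
    Cfsg.Geo.IsMaximalIn (Cfsg.Geo.omegaGL ⇑q) (Cfsg.Geo.tensorProductSubgroup a b e P ⊓ Cfsg.Geo.omegaGL ⇑q) := by
  obtain ⟨c, hc, hpol⟩ := hT
  obtain ⟨f, hfdef⟩ : ∃ f : (Fin a → F) → (Fin a → F) → F, ∀ x y, f x y = c * g₁ x y := ⟨_, fun x y => rfl⟩
  have hf : Cfsg.Geo.IsSymmetricForm f :=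
    { bilinear := ⟨fun x y v => by simp only [hfdef, h₁.bilinear.add_left, mul_add],
        fun t x v => by simp only [hfdef, h₁.bilinear.smul_left]; ring,
        fun v x y => by simp only [hfdef, h₁.bilinear.add_right, mul_add],
        fun t v x => by simp only [hfdef, h₁.bilinear.smul_right]; ring⟩
      symm := fun v w => by rw [hfdef, hfdef, h₁.symm]
      nondegenerate := fun v hv => ⟨(h₁.nondegenerate v hv).1.imp fun x h => by rw [hfdef]; exact mul_ne_zero hc h,
        (h₁.nondegenerate v hv).2.imp fun x h => by rw [hfdef]; exact mul_ne_zero hc h⟩ }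
  obtain ⟨L, hL⟩ : ∃ L : (Fin a × Fin b → F) →ₗ[F] (ι → F), ∀ x, L x = P.val *ᵥ (x ∘ e) :=
    ⟨(Matrix.mulVecLin P.val).comp (LinearMap.funLeft F F e), fun x => rfl⟩
  have hpure : ∀ x u y w, QuadraticMap.polar ⇑(q.comp L) (pt x u) (pt y w) = f x y * g₂ u w := fun x u y w => by
    have e1 : QuadraticMap.polar ⇑(q.comp L) (pt x u) (pt y w) =
        QuadraticMap.polar ⇑q (L (pt x u)) (L (pt y w)) := by
      simp only [QuadraticMap.polar, QuadraticMap.comp_apply, map_add]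
    rw [e1, hL, hL, hpol]
    change c * Cfsg.Geo.formOfGram id (Cfsg.Geo.gramMatrix g₁ ⊗ₖ Cfsg.Geo.gramMatrix g₂)
      (fun p : Fin a × Fin b => x p.1 * u p.2) (fun p : Fin a × Fin b => y p.1 * w p.2) = _
    rw [TensorRefine.formOfGram_kronecker id (fun _ _ => rfl),
      ← TensorRefine.form_eq (σ := id) h₁.bilinear.add_left h₁.bilinear.smul_left h₁.bilinear.add_right
        (fun c v x => h₁.bilinear.smul_right c v x),
      ← TensorRefine.form_eq (σ := id) h₂.bilinear.add_left h₂.bilinear.smul_left h₂.bilinear.add_right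
        (fun c v x => h₂.bilinear.smul_right c v x), hfdef, mul_assoc]
  have hform : ∀ v w, QuadraticMap.polar ⇑(q.comp L) v w = bform f g₂ v w := fun v w => by
    rw [eq_sum_pt v, eq_sum_pt w, ← QuadraticMap.polarBilin_apply_apply]
    simp only [map_sum, bform_sum_left hf, bform_sum_right hf, bform_ptpt hf h₂, ← hpure, LinearMap.coe_sum,
      Finset.sum_apply, QuadraticMap.polarBilin_apply_apply]
    exact Finset.sum_comm
  have hiso : (isometryGroup F ⇑(q.comp L)).map (coordEquiv e P).toMonoidHom = isometryGroup F ⇑q := by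
    ext g
    obtain ⟨g₀, rfl⟩ := (coordEquiv e P).surjective g
    rw [Subgroup.mem_map]
    have hact : ∀ x, (coordEquiv e P g₀).val *ᵥ L x = L (g₀.val *ᵥ x) := fun x => by
      rw [hL, hL, coordEquiv_mulVec]
    constructor
    · rintro ⟨y, hy, he⟩
      obtain rfl := (coordEquiv e P).injective he
      intro v v'
      obtain ⟨x, rfl⟩ : ∃ x, v = L x := ⟨(P⁻¹.val *ᵥ v) ∘ e.symm, by
        rw [hL, Function.comp_assoc, e.symm_comp_self, Function.comp_id, Transvec.mulVec_inv_cancel]⟩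
      change q ((coordEquiv e P y).val *ᵥ L x) = q (L x)
      rw [hact]
      exact hy x x
    · intro h
      refine ⟨g₀, fun x x' => ?_, rfl⟩
      have h1 := h (L x) (L x)
      change q ((coordEquiv e P g₀).val *ᵥ L x) = q (L x) at h1
      rwa [hact] at h1
  have hom : (Cfsg.Geo.omegaGL ⇑(q.comp L)).map (coordEquiv e P).toMonoidHom = Cfsg.Geo.omegaGL ⇑q := by
    rw [OrthSubfield.omegaGL_eq_commutator, OrthSubfield.omegaGL_eq_commutator, Subgroup.map_commutator, hiso]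
  have hshape' : a = 3 ∨ 5 ≤ a ∨ ∀ x y, x ≠ 0 → f x x = 0 → f y y = 0 → f x y = 0 → y ∈ Submodule.span F {x} :=
    hshape.imp_right (Or.imp_right fun h x y hx h1 h2' h3 => by
      simp only [hfdef, mul_eq_zero, hc, false_or] at h1 h2' h3
      exact h x y hx h1 h2' h3)
  have h := isMaximalIn_map (coordEquiv e P)
    (kron_maximal_oo (q.comp L) hf h₂ hform (two_ne_zero_of_oddCard hodd) ha hab hres hsmall hshape' hpar)
  rwa [Subgroup.map_inf _ _ _ (coordEquiv e P).injective, map_kronecker, hom] at h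

/-- The statement in given coordinates. -/
theorem isMaximalIn_orthTensor {ι : Type} [Fintype ι] [DecidableEq ι] (q : QuadraticForm F (ι → F))
    (hodd : Odd (Fintype.card F)) (e : ι ≃ Fin a × Fin b) (P : GL ι F) {g₁ : (Fin a → F) → (Fin a → F) → F}
    {g₂ : (Fin b → F) → (Fin b → F) → F} (h₁ : Cfsg.Geo.IsSymmetricForm g₁) (h₂ : Cfsg.Geo.IsSymmetricForm g₂)
    (hT : Cfsg.Geo.IsTensorFormStructure id (QuadraticMap.polar ⇑q) g₁ g₂ e P)
    (ha : 3 ≤ a) (hab : a < b) (hb : 5 ≤ b) (hsmall : a = 3 → 3 < Fintype.card F)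
    (hshape : a = 3 ∨ 5 ≤ a ∨
      ∀ x y, x ≠ 0 → g₁ x x = 0 → g₁ y y = 0 → g₁ x y = 0 → y ∈ Submodule.span F {x})
    (hpar : Odd a ∨ Odd b) :
    Cfsg.Geo.IsMaximalIn (Cfsg.Geo.omegaGL ⇑q) (Cfsg.Geo.tensorProductSubgroup a b e P ⊓ Cfsg.Geo.omegaGL ⇑q) :=
  isMaximalIn_orthTensor_gen q hodd e P h₁ h₂ hT ha hab (Or.inl hb) hsmall hshape hpar

omit [Fintype F] in
/-- Exchanging the two factors. -/
theorem isTensorFormStructure_swap {ι : Type} [Fintype ι] [DecidableEq ι] {Φ : (ι → F) → (ι → F) → F}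
    {e : ι ≃ Fin a × Fin b} {P : GL ι F} {g₁ : (Fin a → F) → (Fin a → F) → F}
    {g₂ : (Fin b → F) → (Fin b → F) → F} (hT : Cfsg.Geo.IsTensorFormStructure id Φ g₁ g₂ e P) :
    Cfsg.Geo.IsTensorFormStructure id Φ g₂ g₁ (e.trans (Equiv.prodComm _ _)) P := by
  obtain ⟨c, hc, hpol⟩ := hT
  refine ⟨c, hc, fun x y => ?_⟩
  have h := hpol (x ∘ Prod.swap) (y ∘ Prod.swap)
  refine h.trans ?_
  congr 1
  rw [Cfsg.Geo.formOfGram, Cfsg.Geo.formOfGram]
  refine Fintype.sum_equiv (Equiv.prodComm _ _) _ _ fun p => Fintype.sum_equiv (Equiv.prodComm _ _) _ _ fun r => ?_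
  obtain ⟨p₁, p₂⟩ := p
  obtain ⟨r₁, r₂⟩ := r
  simp [Matrix.kroneckerMap_apply, mul_comm]

omit [Fintype F] in
theorem tensorProduct_swap {ι : Type} [Fintype ι] [DecidableEq ι] (e : ι ≃ Fin a × Fin b) (P : GL ι F) :
    Cfsg.Geo.tensorProductSubgroup a b e P =
      Cfsg.Geo.tensorProductSubgroup b a (e.trans (Equiv.prodComm _ _)) P := by
  refine le_antisymm (Asch.tensorProduct_le_swap e P) ?_
  have h := Asch.tensorProduct_le_swap (e.trans (Equiv.prodComm _ _)) P
  rwa [show (e.trans (Equiv.prodComm _ _)).trans (Equiv.prodComm _ _) = e by ext p <;> rfl] at h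

end CfsgLib.Classical22.TensorMax.OO
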